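import Cfsg.Agent.Linear.Dickson.Partition

/-!
Scaled copies of PSL_2 and PGL_2 over a subfield inside PSL_2.
-/

namespace Cfsg.Agent.Linear.Dickson

open Matrix Cfsg.Agent.Linear

variable {F : Type*} [Field F]

local notation "M2" => Matrix (Fin 2) (Fin 2) F
local notation "S2" => Matrix.SpecialLinearGroup (Fin 2) F
local notation "P2" => Matrix.ProjectiveSpecialLinearGroup (Fin 2) F

/-- The diagonal element with entries c and its inverse. -/
def dSL : Fˣ →* S2 where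
  toFun c := ⟨!![(c : F), 0; 0, ((c⁻¹ : Fˣ) : F)], by simp [Matrix.det_fin_two_of]⟩
  map_one' := by
    apply SL_ext_two <;> simp
  map_mul' a b := by
    refine Subtype.ext ?_
    show !![((a * b : Fˣ) : F), 0; 0, (((a * b)⁻¹ : Fˣ) : F)] =
      !![(a : F), 0; 0, ((a⁻¹ : Fˣ) : F)] * !![(b : F), 0; 0, ((b⁻¹ : Fˣ) : F)]
    apply ext_two <;> simp [mul_two_apply, mul_comm]

theorem dSL_coe (c : Fˣ) : ((dSL c : S2) : M2) = !![(c : F), 0; 0, ((c⁻¹ : Fˣ) : F)] := rfl

/-- The lower unitriangular element with entry x. -/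
def loSL (x : F) : S2 := ⟨!![1, 0; x, 1], by simp [Matrix.det_fin_two_of]⟩

theorem loSL_coe (x : F) : ((loSL x : S2) : M2) = !![1, 0; x, 1] := rfl

theorem upSL_add (a b : F) : upSL (a + b) = upSL a * upSL b := by
  apply SL_ext_two <;> simp [SL_mul_entries, upSL_coe, add_comm]

theorem upSL_zero : upSL (0 : F) = 1 := by
  apply SL_ext_two <;> simp [upSL_coe]

theorem upSL_neg (a : F) : upSL (-a) = (upSL a)⁻¹ :=
  eq_inv_of_mul_eq_one_left (by rw [← upSL_add, neg_add_cancel, upSL_zero])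

variable {K : Type*} [Field K]

/-- The map on matrices: apply the embedding and scale off the diagonal. -/
def scMat (ι : K →+* F) (w : Fˣ) (A : Matrix (Fin 2) (Fin 2) K) : M2 :=
  !![ι (A 0 0), (w : F) * ι (A 0 1); ι (A 1 0) * (w : F)⁻¹, ι (A 1 1)]

theorem scMat_mul (ι : K →+* F) (w : Fˣ) (A B : Matrix (Fin 2) (Fin 2) K) :
    scMat ι w (A * B) = scMat ι w A * scMat ι w B := by
  have hw : (w : F) * (w : F)⁻¹ = 1 := mul_inv_cancel₀ w.ne_zero
  apply ext_two <;> simp [scMat, mul_two_apply]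
  · linear_combination -(ι (A 0 1) * ι (B 1 0)) * hw
  · ring
  · ring
  · linear_combination -(ι (A 1 0) * ι (B 0 1)) * hw

theorem scMat_one (ι : K →+* F) (w : Fˣ) : scMat ι w 1 = 1 := by
  apply ext_two <;> simp [scMat]

theorem det_scMat (ι : K →+* F) (w : Fˣ) (A : Matrix (Fin 2) (Fin 2) K) :
    (scMat ι w A).det = ι A.det := by
  have hw : (w : F) * (w : F)⁻¹ = 1 := mul_inv_cancel₀ w.ne_zero
  simp [scMat, Matrix.det_fin_two]
  linear_combination (ι (A 0 1) * ι (A 1 0)) * hw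

theorem isScalarTwo_scMat (ι : K →+* F) (w : Fˣ) (A : Matrix (Fin 2) (Fin 2) K) :
    IsScalarTwo (scMat ι w A) ↔ IsScalarTwo A := by
  simp [IsScalarTwo, scMat, ι.injective.eq_iff]

/-- The scaled copy of SL_2 over the subfield. -/
def scHom (ι : K →+* F) (w : Fˣ) : Matrix.SpecialLinearGroup (Fin 2) K →* S2 where
  toFun g := ⟨scMat ι w g, by rw [det_scMat, g.2, map_one]⟩
  map_one' := Subtype.ext (scMat_one ι w)
  map_mul' g h := Subtype.ext (scMat_mul ι w g h)

theorem scHom_coe (ι : K →+* F) (w : Fˣ) (g : Matrix.SpecialLinearGroup (Fin 2) K) :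
    ((scHom ι w g : S2) : M2) = scMat ι w g := rfl

theorem ker_proj_scHom (ι : K →+* F) (w : Fˣ) :
    (proj.comp (scHom ι w)).ker = Subgroup.center (Matrix.SpecialLinearGroup (Fin 2) K) := by
  ext g
  rw [MonoidHom.mem_ker, MonoidHom.comp_apply, proj_eq_one_iff, scHom_coe, isScalarTwo_scMat,
    isScalarTwo_SL_iff, ← mem_center_SL_two]

theorem scHom_mem {H : Subgroup P2} (ι : K →+* F) (w : Fˣ)
    (hup : ∀ k : K, proj (upSL ((w : F) * ι k)) ∈ H)
    (hlo : ∀ k : K, proj (loSL (ι k * (w : F)⁻¹)) ∈ H)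
    (g : Matrix.SpecialLinearGroup (Fin 2) K) : proj (scHom ι w g) ∈ H := by
  have htop : H.comap (proj.comp (scHom ι w)) = ⊤ := by
    refine eq_top_of_transvection_mem fun i j hij c => ?_
    show proj (scHom ι w (Matrix.SpecialLinearGroup.transvection hij c)) ∈ H
    fin_cases i <;> fin_cases j
    · exact absurd rfl hij
    · convert hup c using 2
      apply SL_ext_two <;>
        simp [scHom_coe, scMat, upSL_coe, Matrix.SpecialLinearGroup.transvection_coe]
    · convert hlo c using 2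
      apply SL_ext_two <;>
        simp [scHom_coe, scMat, loSL_coe, Matrix.SpecialLinearGroup.transvection_coe]
    · exact absurd rfl hij
  exact (Subgroup.eq_top_iff' _).mp htop g

/-- The scaled copy of PSL_2 over the subfield. -/
def pslSub (ι : K →+* F) (w : Fˣ) : Subgroup P2 := (proj.comp (scHom ι w)).range

/-- The scaled copy of PGL_2 over the subfield, given a square root of a generator. -/
def pglSub (ι : K →+* F) (w lam : Fˣ) : Subgroup P2 :=
  pslSub ι w ⊔ Subgroup.zpowers (proj (dSL lam))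

theorem pslSub_le_pglSub (ι : K →+* F) (w lam : Fˣ) : pslSub ι w ≤ pglSub ι w lam := le_sup_left

theorem pslSub_le {H : Subgroup P2} (ι : K →+* F) (w : Fˣ)
    (hup : ∀ k : K, proj (upSL ((w : F) * ι k)) ∈ H)
    (hlo : ∀ k : K, proj (loSL (ι k * (w : F)⁻¹)) ∈ H) : pslSub ι w ≤ H := by
  rintro _ ⟨g, rfl⟩
  exact scHom_mem ι w hup hlo g

/-- The scaled copy is isomorphic to PSL_2. -/
theorem nonempty_pslSub_equiv (ι : K →+* F) (w : Fˣ) :
    Nonempty (pslSub ι w ≃* Matrix.ProjectiveSpecialLinearGroup (Fin 2) K) :=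
  ⟨((QuotientGroup.quotientMulEquivOfEq (ker_proj_scHom ι w).symm).trans
    (QuotientGroup.quotientKerEquivRange (proj.comp (scHom ι w)))).symm⟩

theorem card_pslSub_mul [Fintype K] (ι : K →+* F) (w : Fˣ) :
    Nat.gcd 2 (Fintype.card K - 1) * Nat.card (pslSub ι w) = Fintype.card K * (Fintype.card K ^ 2 - 1) := by
  obtain ⟨e⟩ := nonempty_pslSub_equiv ι w
  rw [Nat.card_congr e.toEquiv, card_PSL_two_mul]

/-- The scaled copy is isomorphic to PGL_2. -/
theorem nonempty_pglSub_equiv [Fintype K] (ι : K →+* F) (w : Fˣ)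
    {lam : Fˣ} {ν : Kˣ} (hν : ι (ν : K) = (lam : F) ^ 2)
    (hgen : ∀ δ : Kˣ, δ ∈ Subgroup.zpowers ν) :
    Nonempty (pglSub ι w lam ≃* Matrix.ProjGenLinGroup (Fin 2) K) := by
  classical
  have hex : ∀ g : GL (Fin 2) K, ∃ i : ℤ, ((lam ^ i : Fˣ) : F) ^ 2 =
      ι ((GeneralLinearGroup.det g : Kˣ) : K) := fun g => by
    obtain ⟨i, hi⟩ := hgen (GeneralLinearGroup.det g)
    refine ⟨i, ?_⟩
    have e : Units.map ι.toMonoidHom ν = lam ^ (2 : ℕ) := Units.ext (by simpa using hν)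
    have e2 := congrArg Units.val (map_zpow (Units.map ι.toMonoidHom) ν i)
    rw [e, ← zpow_natCast lam 2, ← _root_.zpow_mul, mul_comm, _root_.zpow_mul, zpow_natCast] at e2
    rw [← hi]
    simpa using e2.symm
  choose s hs using hex
  have hS : ∀ g : GL (Fin 2) K, (((lam ^ s g)⁻¹ : Fˣ) : F) ^ 2 * ι (g : Matrix (Fin 2) (Fin 2) K).det = 1 :=
    fun g => by
      have hd : ι ((GeneralLinearGroup.det g : Kˣ) : K) = ι (g : Matrix (Fin 2) (Fin 2) K).det := rfl
      rw [← hd, ← hs g, ← mul_pow, Units.inv_mul, one_pow]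
  let T : GL (Fin 2) K → S2 := fun g =>
    ⟨(((lam ^ s g)⁻¹ : Fˣ) : F) • scMat ι w g, by
      rw [Matrix.det_smul, det_scMat, Fintype.card_fin, hS]⟩
  have key : ∀ (g : GL (Fin 2) K) (c : F) (X : S2), c ^ 2 * ι (g : Matrix (Fin 2) (Fin 2) K).det = 1 →
      (X : M2) = c • scMat ι w g → proj (T g) = proj X := by
    intro g c X hc hX
    have hd : ι (g : Matrix (Fin 2) (Fin 2) K).det ≠ 0 := fun e => by
      rw [e, mul_zero] at hc
      exact zero_ne_one hc
    rcases eq_or_eq_neg_of_sq_eq_sq c (((lam ^ s g)⁻¹ : Fˣ) : F)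
      (mul_right_cancel₀ hd (hc.trans (hS g).symm)) with e | e
    · exact proj_eq_iff.mpr (Or.inl (Subtype.ext (by rw [hX, e])))
    · refine proj_eq_iff.mpr (Or.inr (Subtype.ext ?_))
      rw [Matrix.SpecialLinearGroup.coe_neg, hX, e]
      exact neg_smul _ _
  let ψ : GL (Fin 2) K →* P2 := MonoidHom.mk' (fun g => proj (T g)) fun g h => by
    rw [← map_mul]
    refine key (g * h) ((((lam ^ s g)⁻¹ : Fˣ) : F) * (((lam ^ s h)⁻¹ : Fˣ) : F)) (T g * T h) ?_ ?_
    · rw [GeneralLinearGroup.coe_mul, Matrix.det_mul, map_mul]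
      linear_combination (((lam ^ s h)⁻¹ : Fˣ) : F) ^ 2 * ι (h : Matrix (Fin 2) (Fin 2) K).det * hS g + hS h
    · rw [Matrix.SpecialLinearGroup.coe_mul, GeneralLinearGroup.coe_mul, scMat_mul]
      show ((((lam ^ s g)⁻¹ : Fˣ) : F) • scMat ι w g) * ((((lam ^ s h)⁻¹ : Fˣ) : F) • scMat ι w h) = _
      rw [Matrix.smul_mul, Matrix.mul_smul, smul_smul]
  have hψ : ∀ g, ψ g = proj (T g) := fun _ => rfl
  -- the restriction to SL_2 is the scaled embedding
  have hψSL : ∀ g : Matrix.SpecialLinearGroup (Fin 2) K,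
      ψ (Matrix.SpecialLinearGroup.toGL g) = proj (scHom ι w g) := fun g => by
    refine key _ 1 _ ?_ (one_smul _ _).symm
    rw [one_pow, one_mul, Matrix.SpecialLinearGroup.coe_GL_coe_matrix, g.2, map_one]
  let D : GL (Fin 2) K := GeneralLinearGroup.mkOfDetNeZero !![(ν : K), 0; 0, 1]
    (by simp [Matrix.det_fin_two_of])
  have hD : (D : Matrix (Fin 2) (Fin 2) K) = !![(ν : K), 0; 0, 1] := rfl
  have hψD : ψ D = proj (dSL lam) := by
    refine key D ((lam⁻¹ : Fˣ) : F) (dSL lam) ?_ ?_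
    · rw [hD, Matrix.det_fin_two_of]
      simp [hν, ← mul_pow]
    · apply ext_two <;> simp [dSL_coe, hD, scMat, hν]
      rw [sq, ← mul_assoc, inv_mul_cancel₀ lam.ne_zero, one_mul]
  have hmem : ∀ g, ψ g ∈ pglSub ι w lam := fun g => by
    obtain ⟨i, hi⟩ := hgen (GeneralLinearGroup.det g)
    have hdet : GeneralLinearGroup.det D = ν := Units.ext (by
      rw [GeneralLinearGroup.val_det_apply, hD]
      simp [Matrix.det_fin_two_of])
    have h1 : g * (D ^ i)⁻¹ ∈ (GeneralLinearGroup.det : GL (Fin 2) K →* Kˣ).ker := by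
      rw [MonoidHom.mem_ker, map_mul, map_inv, map_zpow, hdet]
      simp only [← hi]
      exact mul_inv_cancel _
    rw [← range_toGL] at h1
    obtain ⟨x, hx⟩ := h1
    rw [eq_mul_inv_iff_mul_eq] at hx
    rw [← hx, map_mul, map_zpow, hψSL, hψD]
    exact Subgroup.mul_mem _ (pslSub_le_pglSub ι w lam ⟨x, rfl⟩)
      (Subgroup.zpow_mem _ ((le_sup_right : _ ≤ pglSub ι w lam) (Subgroup.mem_zpowers _)) i)
  let f : GL (Fin 2) K →* pglSub ι w lam := ψ.codRestrict _ hmem
  have hk : f.ker = Subgroup.center (GL (Fin 2) K) := by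
    ext g
    have e : g ∈ f.ker ↔ ψ g = 1 := by simp [f, MonoidHom.mem_ker, Subtype.ext_iff]
    have hc : ((((lam ^ s g)⁻¹ : Fˣ) : F)) ≠ 0 := Units.ne_zero _
    have hsc : IsScalarTwo ((T g : S2) : M2) ↔ IsScalarTwo (g : Matrix (Fin 2) (Fin 2) K) := by
      rw [← isScalarTwo_scMat ι w]
      show IsScalarTwo ((((lam ^ s g)⁻¹ : Fˣ) : F) • scMat ι w g) ↔ _
      simp [IsScalarTwo, zpow_ne_zero (s g) lam.ne_zero]
    rw [e, hψ, proj_eq_one_iff, hsc, GeneralLinearGroup.center_eq_range_scalar, MonoidHom.mem_range]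
    constructor
    · rintro ⟨h01, h10, h00⟩
      have hne : (g : Matrix (Fin 2) (Fin 2) K) 0 0 ≠ 0 := fun e0 => g.det_ne_zero (by
        rw [Matrix.det_fin_two, e0, h01, h10]; ring)
      refine ⟨Units.mk0 _ hne, ?_⟩
      ext i j
      fin_cases i <;> fin_cases j <;> simp [h01, h10, h00]
    · rintro ⟨u, rfl⟩
      simp [IsScalarTwo]
  let g' : Matrix.ProjGenLinGroup (Fin 2) K →* pglSub ι w lam :=
    QuotientGroup.lift (Subgroup.center (GL (Fin 2) K)) f hk.ge
  have hg : Function.Injective g' := by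
    rw [← MonoidHom.ker_eq_bot_iff, eq_bot_iff]
    intro x hx
    induction x using Matrix.ProjGenLinGroup.induction_on with
    | mk x =>
      exact Subgroup.mem_bot.mpr (Matrix.ProjGenLinGroup.mk_eq_one.mpr (hk ▸ hx : x ∈ Subgroup.center _))
  have hrange : pglSub ι w lam ≤ ψ.range := by
    refine sup_le ?_ (Subgroup.zpowers_le.mpr ⟨D, hψD⟩)
    rintro _ ⟨x, rfl⟩
    exact ⟨Matrix.SpecialLinearGroup.toGL x, hψSL x⟩
  refine ⟨(MulEquiv.ofBijective g' ⟨hg, fun h => ?_⟩).symm⟩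
  obtain ⟨y, hy⟩ := hrange h.2
  exact ⟨Matrix.ProjGenLinGroup.mk y, Subtype.ext hy⟩

theorem card_pglSub [Fintype K] (ι : K →+* F) (w : Fˣ)
    {lam : Fˣ} {ν : Kˣ} (hν : ι (ν : K) = (lam : F) ^ 2)
    (hgen : ∀ δ : Kˣ, δ ∈ Subgroup.zpowers ν) :
    Nat.card (pglSub ι w lam) = Fintype.card K * (Fintype.card K ^ 2 - 1) := by
  obtain ⟨e⟩ := nonempty_pglSub_equiv ι w hν hgen
  rw [Nat.card_congr e.toEquiv, card_PGL_eq, card_SL_two]

end Cfsg.Agent.Linear.Dickson
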