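import Cfsg.Agent.Linear.Dickson.Subfield

/-!
Dickson's theorem: the subgroups of PSL_2 over a finite field.
-/

namespace Cfsg.Agent.Linear.Dickson

open Matrix Cfsg.Agent.Linear

variable {F : Type*} [Field F] [Fintype F] {q p : ℕ}
  {H : Subgroup (Matrix.ProjectiveSpecialLinearGroup (Fin 2) F)}

local notation "P2" => Matrix.ProjectiveSpecialLinearGroup (Fin 2) F

theorem shape_of_index_one (h : (Ns H).index = 1) : Shape H := by
  refine Or.inl ⟨1, fun x hx => ?_⟩
  have := Subgroup.index_eq_one.mp h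
  simpa using mem_Ns.mp (this ▸ Subgroup.mem_top (⟨x, hx⟩ : H))

/-- Subgroups meeting the standard unipotent subgroup with trivial torus part. -/
theorem shape_of_uni_t_one (p : ℕ) [Fact p.Prime] [CharP F p] {v : H}
    (hv : v ∈ Qs H) (hv1 : v ≠ 1) (hNQ : Nat.card (Ns H) = Nat.card (Qs H)) : Shape H := by
  classical
  have hcv := part_cen_eq_Qs hv hv1
  have hnv := part_nor_eq_Ns hv hv1
  obtain ⟨S, hvS, hS⟩ := (part H).exists_reps {v}
    (fun x hx => (Finset.mem_singleton.mp hx) ▸ hv1)
    (fun x hx y hy _ => (Finset.mem_singleton.mp hx).trans (Finset.mem_singleton.mp hy).symm)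
  have hvS' : v ∈ S := hvS (Finset.mem_singleton_self v)
  have hsum := (part H).sum_weight hS
  rw [← Finset.add_sum_erase S _ hvS'] at hsum
  set R := S.erase v with hR
  have hwv : (part H).weight v = 1 - 1 / (Nat.card (Qs H) : ℚ) := by
    rw [(part H).weight_of_eq (by rw [hnv, hcv, hNQ]), hcv]
  have htor : ∀ y ∈ R, y ≠ 1 ∧ ¬ IsUni (y : P2) := fun y hy =>
    ⟨hS.ne_one y (Finset.mem_of_mem_erase hy), fun h => Finset.ne_of_mem_erase hy
      (hS.indep v hvS' y (Finset.mem_of_mem_erase hy) (rel_of_isUni p hv hv1 h)).symm⟩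
  rw [hwv] at hsum
  set u := Nat.card (Qs H) with hu
  set g := Nat.card H with hg
  have hu2 : 2 ≤ u := by rw [hu, ← hcv]; exact (part H).two_le_card hv1
  have qu : (2 : ℚ) ≤ u := by exact_mod_cast hu2
  have hgpos : (0 : ℚ) < g := by exact_mod_cast (Nat.card_pos : 0 < Nat.card H)
  have hg0 : (0 : ℚ) < 1 / g := by positivity
  rcases R.eq_empty_or_nonempty with hR0 | ⟨y, hy⟩
  · rw [hR0, Finset.sum_empty] at hsum
    have e : (u : ℚ) = g := inv_injective (by rw [← one_div, ← one_div]; linarith)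
    have e' : u = g := by exact_mod_cast e
    refine shape_of_index_one ?_
    have h := (Ns H).card_mul_index
    rw [hNQ, e'] at h
    exact mul_eq_left₀ (Nat.card_pos (α := H)).ne' |>.mp h
  · obtain ⟨hy1, hyt⟩ := htor y hy
    have hlow : ∀ z ∈ R, (1 : ℚ) / 4 ≤ (part H).weight z := fun z hz =>
      (part H).quarter_le_weight (htor z hz).1 (isTor (htor z hz).1 (htor z hz).2)
    have hu' : (1 : ℚ) / u ≤ 1 / 2 := one_div_le_one_div_of_le two_pos qu
    have hone : R = {y} := by
      by_contra hne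
      obtain ⟨z, hz, hzy⟩ : ∃ z ∈ R, z ≠ y := by
        by_contra hcon
        push Not at hcon
        exact hne (Finset.eq_singleton_iff_unique_mem.mpr ⟨hy, hcon⟩)
      have hle := Finset.add_le_sum (f := fun z => (part H).weight z)
        (fun i hi => le_trans (by norm_num) (hlow i hi)) hy hz hzy.symm
      linarith [hlow y hy, hlow z hz]
    rw [hone, Finset.sum_singleton] at hsum
    have hy2 := (isTor hy1 hyt).resolve_left fun e => by linarith [(part H).half_le_weight hy1 e]
    rw [(part H).weight_of_double hy2] at hsum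
    set b := Nat.card ((part H).cen y) with hb
    have hb2 : 2 ≤ b := (part H).two_le_card hy1
    have qb : (2 : ℚ) ≤ b := by exact_mod_cast hb2
    have hb4 : (1 : ℚ) / (2 * b) ≤ 1 / 4 := one_div_le_one_div_of_le (by norm_num) (by linarith)
    have hu3 : u ≤ 3 := by
      by_contra h
      have : (1 : ℚ) / u ≤ 1 / 4 :=
        one_div_le_one_div_of_le (by norm_num) (by exact_mod_cast (by omega : 4 ≤ u))
      linarith
    obtain e | e : u = 2 ∨ u = 3 := by omega
    · rw [e] at hsum
      have e2 : (2 * b : ℚ) = g := inv_injective (by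
        rw [← one_div, ← one_div]; push_cast at hsum; linarith)
      exact shape_of_nor_eq hy1 hyt hy2 (by exact_mod_cast e2.symm)
    · rw [e] at hsum
      push_cast at hsum
      have hb3 : b = 2 := by
        by_contra h
        have h'' : (3 : ℚ) ≤ b := by exact_mod_cast (by omega : 3 ≤ b)
        have : (1 : ℚ) / (2 * b) ≤ 1 / 6 := one_div_le_one_div_of_le (by norm_num) (by linarith)
        linarith
      rw [hb3] at hsum
      have e2 : (g : ℚ) = 12 := inv_injective (by rw [← one_div, ← one_div]; push_cast at hsum; linarith)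
      refine Or.inr (Or.inr (Or.inl (iso_altFour (by exact_mod_cast e2)
        ((part H).not_commute_invol hv1 (hcv ▸ e) fun k hk => Or.inl ?_))))
      rw [hnv] at hk
      rw [hcv]
      have hQN : Qs H = Ns H := Subgroup.eq_of_le_of_card_ge Qs_le_Ns hNQ.le
      exact hQN ▸ hk

/-- Subgroups meeting the standard unipotent subgroup. -/
theorem shape_of_uni (p : ℕ) [Fact p.Prime] [CharP F p] {v : H}
    (hv : v ∈ Qs H) (hv1 : v ≠ 1) : Shape H := by
  classical
  obtain ⟨k, hk⟩ := exists_index_eq (H := H)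
  obtain ⟨t, ht0, -, hNt, hA⟩ := exists_torus_order (H := H) p
  rcases (show t = 1 ∨ 1 < t by omega) with rfl | ht
  · exact shape_of_uni_t_one p hv hv1 (by rw [hNt, mul_one])
  obtain ⟨a, haN, -, hat, hau, hca, hle⟩ := hA ht
  have hcv := part_cen_eq_Qs hv hv1
  have hnv := part_nor_eq_Ns hv hv1
  set u := Nat.card (Qs H) with hu
  have hu2 : 2 ≤ u := by rw [hu, ← hcv]; exact (part H).two_le_card hv1
  have htu : t ∣ u - 1 := hca ▸ dvd_card_Qs_sub_one hau hle
  have htle : t ≤ u - 1 := Nat.le_of_dvd (by omega) htu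
  rcases Nat.eq_zero_or_pos k with rfl | hk1
  · exact shape_of_index_one (by rw [hk, zero_mul, add_zero])
  have hg : Nat.card H = u * t * (1 + k * u) := by rw [← hNt, ← hk, Subgroup.card_mul_index]
  have ha1 : a ≠ 1 := fun e => by rw [e, orderOf_one] at hat; omega
  have hrel : ∀ {z : H}, z ≠ 1 → IsUni (z : P2) → (part H).Rel v z := fun _ h => rel_of_isUni p hv hv1 h
  have hnrel : ¬ (part H).Rel v a := by
    rintro ⟨c, hc⟩
    rw [hcv] at hc
    refine hau ((isUni_conj (c : P2) (x := (a : P2))).mp ?_)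
    exact isUni_of_mem_cen_stdUni hc
  obtain ⟨S, hsub, hS⟩ := (part H).exists_reps {v, a}
    (fun x hx => by rcases Finset.mem_insert.mp hx with rfl | hx
                    · exact hv1
                    · exact (Finset.mem_singleton.mp hx) ▸ ha1)
    (fun x hx y hy h => by
      rcases Finset.mem_insert.mp hx with rfl | hx
      · rcases Finset.mem_insert.mp hy with rfl | hy
        · rfl
        · exact absurd ((Finset.mem_singleton.mp hy) ▸ h) hnrel
      · obtain rfl := Finset.mem_singleton.mp hx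
        rcases Finset.mem_insert.mp hy with rfl | hy
        · exact absurd (CenPartition.Rel.symm (part H) ha1 hv1 h) hnrel
        · exact (Finset.mem_singleton.mp hy).symm)
  have hvS : v ∈ S := hsub (Finset.mem_insert_self _ _)
  have haS : a ∈ S.erase v := Finset.mem_erase.mpr
    ⟨fun e => hnrel (e.symm ▸ CenPartition.Rel.refl (part H) v), hsub (by simp)⟩
  have hsum := (part H).sum_weight hS
  rw [← Finset.add_sum_erase S _ hvS, ← Finset.add_sum_erase (S.erase v) _ haS] at hsum
  set R := (S.erase v).erase a with hR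
  have htor : ∀ y ∈ R, y ≠ 1 ∧ ¬ IsUni (y : P2) := fun y hy => by
    have hy' := Finset.mem_of_mem_erase hy
    have hyS := Finset.mem_of_mem_erase hy'
    exact ⟨hS.ne_one y hyS, fun h => Finset.ne_of_mem_erase hy'
      (hS.indep v hvS y hyS (hrel (hS.ne_one y hyS) h)).symm⟩
  have hlow : ∀ z ∈ R, (1 : ℚ) / 4 ≤ (part H).weight z := fun z hz =>
    (part H).quarter_le_weight (htor z hz).1 (isTor (htor z hz).1 (htor z hz).2)
  have qu : (2 : ℚ) ≤ u := by exact_mod_cast hu2
  have qt : (2 : ℚ) ≤ t := by exact_mod_cast ht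
  have qk : (1 : ℚ) ≤ k := by exact_mod_cast hk1
  have hwv : (part H).weight v = ((u : ℚ) - 1) / (u * t) := by
    rw [CenPartition.weight, hcv, hnv, hNt, ← hu]
    push_cast
    rfl
  have hgq : (Nat.card H : ℚ) = u * t * (1 + k * u) := by exact_mod_cast hg
  rw [hwv, hgq] at hsum
  have hku : (0 : ℚ) < 1 + k * u := by positivity
  have hgapp : (0 : ℚ) < 1 / (u * t * (1 + k * u)) := by positivity
  rcases isTor ha1 hau with h1 | h2
  · -- the torus is self-normalising: the class equation is already full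
    exfalso
    rw [(part H).weight_of_eq h1, hca] at hsum
    have e1 : ((u : ℚ) - 1) / (u * t) + (1 - 1 / (t : ℚ)) = 1 - 1 / (u * t) := by
      field_simp
      ring
    have hgap : (1 : ℚ) / (u * t) ≤ 1 / 4 :=
      one_div_le_one_div_of_le (by norm_num) (by nlinarith)
    rcases R.eq_empty_or_nonempty with hR0 | ⟨y, hy⟩
    · rw [hR0, Finset.sum_empty, add_zero, e1] at hsum
      have e2 : ((u : ℚ) * t) = u * t * (1 + k * u) :=
        inv_injective (by rw [← one_div, ← one_div]; linarith)
      have : (0 : ℚ) < u * t * (k * u) := by positivity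
      nlinarith
    · have := Finset.single_le_sum (f := fun z => (part H).weight z)
        (fun i hi => le_trans (by norm_num) (hlow i hi)) hy
      linarith [hlow y hy]
  rw [(part H).weight_of_double h2, hca] at hsum
  have e1 : ((u : ℚ) - 1) / (u * t) + (1 / 2 - 1 / (2 * (t : ℚ))) = 1 / 2 + ((u : ℚ) - 2) / (2 * (u * t)) := by
    field_simp
    ring
  have hnn : (0 : ℚ) ≤ ((u : ℚ) - 2) / (2 * (u * t)) := div_nonneg (by linarith) (by positivity)
  rcases R.eq_empty_or_nonempty with hR0 | ⟨y, hy⟩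
  · exfalso
    rw [hR0, Finset.sum_empty, add_zero] at hsum
    have e3 : (1 : ℚ) / (u * t * (1 + k * u)) = 1 / 2 - ((u : ℚ) - 2) / (2 * (u * t)) := by linarith
    field_simp at e3
    have hutk : (2 : ℚ) ≤ 1 + k * u := by nlinarith
    have hpp : (u : ℚ) + 2 ≤ u * t - (u - 2) := by nlinarith
    nlinarith [mul_le_mul hutk hpp (by linarith) (by linarith)]
  obtain ⟨hy1, hyt⟩ := htor y hy
  have hone : R = {y} := by
    by_contra hne
    obtain ⟨z, hz, hzy⟩ : ∃ z ∈ R, z ≠ y := by
      by_contra hcon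
      push Not at hcon
      exact hne (Finset.eq_singleton_iff_unique_mem.mpr ⟨hy, hcon⟩)
    have hle := Finset.add_le_sum (f := fun z => (part H).weight z)
      (fun i hi => le_trans (by norm_num) (hlow i hi)) hy hz hzy.symm
    linarith [hlow y hy, hlow z hz]
  rw [hone, Finset.sum_singleton] at hsum
  have hy2 := (isTor hy1 hyt).resolve_left fun e => by linarith [(part H).half_le_weight hy1 e]
  rw [(part H).weight_of_double hy2] at hsum
  set b := Nat.card ((part H).cen y) with hb
  have qb : (2 : ℚ) ≤ b := by exact_mod_cast (part H).two_le_card hy1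
  -- b (1 + k (u - 2)) = t (1 + k u)
  have key : b * (1 + k * (u - 2)) = t * (1 + k * u) := by
    have e : ((b * (1 + k * (u - 2)) : ℕ) : ℚ) = ((t * (1 + k * u) : ℕ) : ℚ) := by
      push_cast [Nat.cast_sub hu2]
      have e4 : 1 / (2 * (b : ℚ)) = ((u : ℚ) - 2) / (2 * (u * t)) + 1 / (u * t * (1 + k * u)) := by
        linarith
      field_simp at e4
      apply mul_left_cancel₀ (show (u : ℚ) ≠ 0 by linarith)
      linear_combination -e4
    exact_mod_cast e
  obtain ⟨D, hD⟩ : ∃ D, D = 1 + k * (u - 2) := ⟨_, rfl⟩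
  have hexp : 1 + k * u = D + 2 * k := by
    obtain ⟨u', hu'⟩ : ∃ u', u = u' + 2 := ⟨u - 2, by omega⟩
    rw [hD, hu', Nat.add_sub_cancel]; ring
  have hdvd : D ∣ 2 * t := by
    have hd : D ∣ k * (2 * t) := by
      have h' : D ∣ t * D + t * (2 * k) := by
        rw [← mul_add, ← hexp, ← key, ← hD]; exact dvd_mul_left D b
      have := (Nat.dvd_add_right (dvd_mul_left D t)).mp h'
      convert this using 1
      ring
    refine Nat.Coprime.dvd_of_dvd_mul_left ?_ hd
    rw [hD, Nat.coprime_add_mul_left_left]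
    exact Nat.coprime_one_left k
  obtain ⟨u', hu'⟩ : ∃ u', u = u' + 3 := ⟨u - 3, by omega⟩
  have hDle : D ≤ 2 * t := Nat.le_of_dvd (by omega) hdvd
  have hDu : D = 1 + k + k * u' := by rw [hD, hu', show u' + 3 - 2 = 1 + u' by omega]; ring
  obtain hk' | hk' | hk' : k = 1 ∨ k = 2 ∨ 3 ≤ k := by omega
  · -- the subfield case
    subst hk'
    have hut : t = u - 1 ∨ 2 * t = u - 1 := by
      obtain ⟨c, hc⟩ := htu
      rw [show D = t * c by omega, mul_comm 2 t, Nat.mul_dvd_mul_iff_left ht0] at hdvd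
      rcases (Nat.dvd_prime Nat.prime_two).mp hdvd with rfl | rfl
      · left; omega
      · right; omega
    obtain ⟨w, hwn, hwc, -, hinv⟩ := exists_part_inverter ha1 hau h2
    exact Or.inr (Or.inr (Or.inr (Or.inr (Or.inr (subfield_case (H := H) p hu.symm
      (by rw [hk]; ring) hNt ht hut haN hat hau hwc (hinv a ((part H).mem_self a)))))))
  · exfalso
    subst hk'
    have hodd : D ∣ t := Nat.Coprime.dvd_of_dvd_mul_left
      ((Nat.coprime_two_right).mpr ⟨1 + u', by omega⟩) hdvd
    have := Nat.le_of_dvd ht0 hodd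
    omega
  · have hu'' : u' = 0 := by
      by_contra hne
      have : 3 * u' ≤ k * u' := Nat.mul_le_mul_right u' hk'
      omega
    subst hu''
    have hk3 : k = 3 := by omega
    subst hk3
    have ht2 : t = 2 := by omega
    subst ht2
    rw [hu'] at key hg
    have hb5 : b = 5 := by omega
    exact Or.inr (Or.inr (Or.inr (Or.inr (Or.inl ((part H).iso_altFive' hg hy1 hb5
      (by rw [hy2, hb5]))))))

/-- Dickson's theorem, strong form. -/
theorem shape (p : ℕ) [Fact p.Prime] [CharP F p]
    (H : Subgroup (Matrix.ProjectiveSpecialLinearGroup (Fin 2) F)) : Shape H := by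
  by_cases h : ∀ a : H, a ≠ 1 → ¬ IsUni (a : P2)
  · exact shape_of_no_uni h
  push Not at h
  obtain ⟨a, ha, hu⟩ := h
  obtain ⟨g, hg⟩ := exists_conj_stdUni (coe_ne_one ha) hu
  let f := MulAut.conj g
  let e : H ≃* H.map f.toMonoidHom := H.equivMapOfInjective _ f.injective
  exact Shape.of_conj (shape_of_uni p (v := e a) hg
    fun e1 => ha (e.injective (e1.trans (map_one e).symm)))

theorem InBorel.concl (p : ℕ) [Fact p.Prime] [CharP F p] (h : InBorel H) : Concl F q p H := by
  obtain ⟨g, hg⟩ := h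
  obtain ⟨P, hP⟩ := exists_sylow_borel (F := F) p
  refine Or.inr (Or.inl ⟨P, H.map (MulAut.conj g).toMonoidHom, ?_,
    ⟨H.equivMapOfInjective _ (MulAut.conj g).injective⟩⟩)
  rintro _ ⟨x, hx, rfl⟩
  exact hP (hg x hx)

theorem InTorus.concl (hF : Fintype.card F = q) (h : InTorus H) : Concl F q p H := by
  obtain ⟨a, ha, hH⟩ := h
  have := isCyclic_cen ha
  set A := (cen a).subgroupOf H with hA
  let f : A →* cen a :=
    { toFun := fun b => ⟨((b : H) : P2), b.2⟩
      map_one' := rfl
      map_mul' := fun _ _ => rfl }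
  have hf : Function.Injective f := fun b c hbc => by
    have e := congrArg (fun z : cen a => (z : P2)) hbc
    exact Subtype.ext (Subtype.ext e)
  have hcyc : IsCyclic A := isCyclic_of_injective f hf
  have hdvd : Nat.card A ∣ (q + 1) / Nat.gcd 2 (q - 1) ∨ Nat.card A ∣ (q - 1) / Nat.gcd 2 (q - 1) := by
    have hd := Subgroup.card_dvd_of_injective f hf
    subst hF
    exact (card_cen_dvd ha).symm.imp hd.trans hd.trans
  by_cases hle : H ≤ cen a
  · have htop : A = ⊤ := Subgroup.subgroupOf_eq_top.mpr hle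
    refine Or.inl ⟨_, hdvd, Or.inl ⟨?_, ?_⟩⟩
    · rw [htop] at hcyc
      exact isCyclic_of_surjective Subgroup.topEquiv Subgroup.topEquiv.surjective
    · rw [htop, Subgroup.card_top]
  obtain ⟨w, hwH, hw⟩ := SetLike.not_le_iff_exists.mp hle
  have hn : ∀ (g : P2), g ∈ H → ∀ y, y ∈ cen a ↔ g * y * g⁻¹ ∈ cen a := fun g hg =>
    Subgroup.mem_normalizer_iff.mp (hH hg)
  obtain ⟨hw2, hinv⟩ := (normalizer_cases ha (hn w hwH)).resolve_left hw
  have hidx : A.index = 2 := by
    rw [Subgroup.index_eq_two_iff]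
    refine ⟨⟨w, hwH⟩, fun b => ?_⟩
    simp only [hA, Subgroup.mem_subgroupOf, Subgroup.coe_mul]
    by_cases hb : (b : P2) ∈ cen a
    · refine Or.inr ⟨hb, fun hbg => hw ?_⟩
      simpa using (cen a).mul_mem ((cen a).inv_mem hb) hbg
    · exact Or.inl ⟨inverter_mul_mem ha (hn _ b.2) (hn w hwH) hb hw, hb⟩
  refine Or.inl ⟨_, hdvd, Or.inr (iso_dihedral_of_inverter A (A.card_mul_index.symm.trans (by rw [hidx, mul_comm]))
    (w := ⟨w, hwH⟩) hw (Subtype.ext hw2) fun y hy => Subtype.ext (hinv _ hy))⟩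

theorem IsSubfield.exists_pow_eq (hF : Fintype.card F = q) {K : Type*} [Field K] [Fintype K] (ι : K →+* F) :
    ∃ m : ℕ, 1 ≤ m ∧ Fintype.card K ^ m = q := by
  let _ : Algebra K F := ι.toAlgebra
  refine ⟨Module.finrank K F, Module.finrank_pos, ?_⟩
  rw [← hF]
  exact (Module.card_eq_pow_finrank (K := K) (V := F)).symm

/-- Dickson's theorem. -/
theorem concl (hF : Fintype.card F = q) (p : ℕ) [Fact p.Prime] [CharP F p]
    (H : Subgroup (Matrix.ProjectiveSpecialLinearGroup (Fin 2) F)) : Concl F q p H := by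
  rcases shape p H with h | h | h | h | h | ⟨K, iK, iK', ι, g, w, h⟩
  · exact h.concl p
  · exact h.concl hF
  · exact Or.inr (Or.inr (Or.inl h))
  · exact Or.inr (Or.inr (Or.inr (Or.inl h)))
  · exact Or.inr (Or.inr (Or.inr (Or.inr (Or.inl h))))
  · obtain ⟨m, -, hm⟩ := IsSubfield.exists_pow_eq hF ι
    refine Or.inr (Or.inr (Or.inr (Or.inr (Or.inr ⟨K, iK, iK', m, hm, ?_⟩))))
    rcases h with rfl | ⟨lam, ν, h1, h2, rfl⟩
    · obtain ⟨e⟩ := nonempty_pslSub_equiv ι w
      exact Or.inl ⟨((pslSub ι w).equivMapOfInjective _ (MulAut.conj g).injective).symm.trans e⟩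
    · obtain ⟨e⟩ := nonempty_pglSub_equiv ι w h1 h2
      exact Or.inr ⟨((pglSub ι w lam).equivMapOfInjective _ (MulAut.conj g).injective).symm.trans e⟩

end Cfsg.Agent.Linear.Dickson
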