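import Cfsg.Agent.Linear.Dickson.Main
import Cfsg.Agent.Linear.Simple

/-!
Orders and existence of the standard subgroups in Dickson's list.
-/

namespace Cfsg.Agent.Linear.Dickson

open Matrix Cfsg.Agent.Linear

variable {F : Type*} [Field F] [Fintype F]

local notation "M2" => Matrix (Fin 2) (Fin 2) F
local notation "S2" => Matrix.SpecialLinearGroup (Fin 2) F
local notation "P2" => Matrix.ProjectiveSpecialLinearGroup (Fin 2) F

theorem gcd_dvd_add_one (q : ℕ) (hq : 1 ≤ q) : Nat.gcd 2 (q - 1) ∣ q + 1 := by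
  have h := Nat.gcd_dvd_right 2 (q - 1)
  have h2 := Nat.gcd_dvd_left 2 (q - 1)
  have := Nat.dvd_add h h2
  rwa [show q - 1 + 2 = q + 1 by omega] at this

theorem card_center_mul_div_sub : Nat.card (Subgroup.center S2) *
    ((Fintype.card F - 1) / Nat.gcd 2 (Fintype.card F - 1)) = Fintype.card F - 1 := by
  rw [card_center_two_dvd, Nat.mul_div_cancel' (Nat.gcd_dvd_right 2 _)]

theorem card_center_mul_div_add : Nat.card (Subgroup.center S2) *
    ((Fintype.card F + 1) / Nat.gcd 2 (Fintype.card F - 1)) = Fintype.card F + 1 := by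
  rw [card_center_two_dvd, Nat.mul_div_cancel' (gcd_dvd_add_one _ Fintype.card_pos)]

theorem card_cen_cases {a : P2} (ha : ¬ IsUni a) :
    Nat.card (cen a) = (Fintype.card F - 1) / Nat.gcd 2 (Fintype.card F - 1) ∨
      Nat.card (cen a) = (Fintype.card F + 1) / Nat.gcd 2 (Fintype.card F - 1) := by
  rcases card_cen_torus ha with h | h
  · exact Or.inl (Nat.eq_of_mul_eq_mul_left Nat.card_pos (h.trans card_center_mul_div_sub.symm))
  · exact Or.inr (Nat.eq_of_mul_eq_mul_left Nat.card_pos (h.trans card_center_mul_div_add.symm))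

theorem exists_split (hq : 4 ≤ Fintype.card F) :
    ∃ a : P2, ¬ IsUni a ∧ Nat.card (cen a) = (Fintype.card F - 1) / Nat.gcd 2 (Fintype.card F - 1) := by
  classical
  obtain ⟨g, hg⟩ := IsCyclic.exists_generator (α := Fˣ)
  have hord : orderOf g = Fintype.card F - 1 := by
    rw [orderOf_eq_card_of_forall_mem_zpowers hg, Nat.card_units, Nat.card_eq_fintype_card]
  have hg2 : g ^ 2 ≠ 1 := fun e => by
    have := Nat.le_of_dvd two_pos (orderOf_dvd_of_pow_eq_one e)
    omega
  have hu : ¬ IsUni (proj (dSL g)) := by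
    rw [isUni_proj, dSL_coe, Matrix.trace_fin_two]
    intro h
    apply hg2
    rw [Units.ext_iff, Units.val_pow_eq_pow_val, Units.val_one]
    have hl : (g : F) ≠ 0 := g.ne_zero
    simp at h
    field_simp at h
    have : ((g : F) ^ 2 - 1) ^ 2 = 0 := by linear_combination h
    exact sub_eq_zero.mp (eq_zero_of_pow_eq_zero this)
  refine ⟨_, hu, ?_⟩
  have ht : ((dSL g : S2) : M2).trace ^ 2 ≠ 4 := fun h => hu (isUni_proj.mpr h)
  refine Nat.eq_of_mul_eq_mul_left (Nat.card_pos (α := Subgroup.center S2)) ?_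
  rw [card_center_mul_div_sub, cen_proj, card_center_mul_card_map (center_le_centralizer _)]
  refine card_centralizer_split_SL ht ⟨(g : F), ?_⟩
  rw [dSL_coe, Matrix.trace_fin_two]
  simp
  field_simp
  ring

theorem exists_nonsplit :
    ∃ a : P2, ¬ IsUni a ∧ Nat.card (cen a) = (Fintype.card F + 1) / Nat.gcd 2 (Fintype.card F - 1) := by
  classical
  obtain ⟨t, ht⟩ : ∃ t : F, ∀ s : Fˣ, (s : F) + ((s⁻¹ : Fˣ) : F) ≠ t := by
    by_contra hc
    push Not at hc
    have := Fintype.card_le_of_surjective (fun s : Fˣ => (s : F) + ((s⁻¹ : Fˣ) : F)) hc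
    rw [Fintype.card_units] at this
    have : 0 < Fintype.card F := Fintype.card_pos
    omega
  have hroot : ∀ c : F, c ^ 2 - c * t + 1 ≠ 0 := by
    intro c hc
    have hc0 : c ≠ 0 := fun e => by simp [e] at hc
    refine ht (Units.mk0 c hc0) ?_
    simp
    field_simp
    linear_combination hc
  have ht4 : ((compSL t : S2) : M2).trace ^ 2 ≠ 4 := by
    rw [trace_compSL]
    intro h
    have : t ^ 2 = 2 ^ 2 := by rw [h]; norm_num
    rcases eq_or_eq_neg_of_sq_eq_sq _ _ this with e | e
    · exact hroot 1 (by rw [e]; ring)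
    · exact hroot (-1) (by rw [e]; ring)
  have hu : ¬ IsUni (proj (compSL t)) := fun h => ht4 (isUni_proj.mp h)
  refine ⟨_, hu, ?_⟩
  refine Nat.eq_of_mul_eq_mul_left (Nat.card_pos (α := Subgroup.center S2)) ?_
  rw [card_center_mul_div_add, cen_proj, card_center_mul_card_map (center_le_centralizer _)]
  exact card_centralizer_nonsplit_SL ht4 (fun c => by rw [trace_compSL]; exact hroot c)

/-- The normaliser of a torus contains an involution inverting it. -/
theorem exists_torus_inverter {a : P2} (ha : ¬ IsUni a) :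
    ∃ w ∈ Subgroup.normalizer ((cen a) : Set P2), w ∉ cen a ∧ w * w = 1 ∧
      ∀ y ∈ cen a, w * y * w⁻¹ = y⁻¹ := by
  obtain ⟨z, rfl⟩ := proj_surjective a
  have ht : (z : M2).trace ^ 2 ≠ 4 := fun h => ha (isUni_proj.mpr h)
  obtain ⟨h, hh⟩ := exists_inverter ht
  have hc : proj h ∉ cen (proj z) := fun hm => inverter_not_mem ht hh (mem_cen_proj.mp hm)
  have hn : proj h ∈ Subgroup.normalizer ((cen (proj z)) : Set P2) := by
    rw [Subgroup.mem_normalizer_iff]
    intro y
    obtain ⟨y, rfl⟩ := proj_surjective y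
    rw [← map_inv, ← map_mul, ← map_mul, mem_cen_proj, mem_cen_proj]
    exact Subgroup.mem_normalizer_iff.mp ((mem_normalizer_centralizer_iff ht).mpr (Or.inr hh)) y
  obtain ⟨h1, h2⟩ := (normalizer_cases ha (Subgroup.mem_normalizer_iff.mp hn)).resolve_left hc
  exact ⟨_, hn, hc, h1, h2⟩

theorem torus_normalizer_props {a : P2} (ha : ¬ IsUni a) :
    Nat.card (Subgroup.normalizer ((cen a) : Set P2)) = 2 * Nat.card (cen a) ∧
      Nonempty (Subgroup.normalizer ((cen a) : Set P2) ≃* DihedralGroup (Nat.card (cen a))) := by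
  obtain ⟨w, hwN, hwc, hw2, hinv⟩ := exists_torus_inverter ha
  set N := Subgroup.normalizer ((cen a) : Set P2) with hN
  set A := (cen a).subgroupOf N with hA
  have hidx : A.index = 2 := by
    rw [Subgroup.index_eq_two_iff]
    refine ⟨⟨w, hwN⟩, fun b => ?_⟩
    simp only [hA, Subgroup.mem_subgroupOf, Subgroup.coe_mul]
    by_cases hb : (b : P2) ∈ cen a
    · refine Or.inr ⟨hb, fun hbg => hwc ?_⟩
      simpa using (cen a).mul_mem ((cen a).inv_mem hb) hbg
    · exact Or.inl ⟨inverter_mul_mem ha (Subgroup.mem_normalizer_iff.mp b.2)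
        (Subgroup.mem_normalizer_iff.mp hwN) hb hwc, hb⟩
  have hcA : Nat.card A = Nat.card (cen a) :=
    Nat.card_congr (Subgroup.subgroupOfEquivOfLe Subgroup.le_normalizer).toEquiv
  have hcard : Nat.card N = 2 * Nat.card A := A.card_mul_index.symm.trans (by rw [hidx, mul_comm])
  have := isCyclic_cen ha
  have : IsCyclic A := isCyclic_of_surjective
    (Subgroup.subgroupOfEquivOfLe (H := cen a) (K := N) Subgroup.le_normalizer).symm
    (Subgroup.subgroupOfEquivOfLe (H := cen a) (K := N) Subgroup.le_normalizer).symm.surjective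
  refine ⟨hcA ▸ hcard, hcA ▸ ?_⟩
  exact iso_dihedral_of_inverter A hcard (w := ⟨w, hwN⟩) hwc (Subtype.ext hw2)
    fun y hy => Subtype.ext (hinv _ hy)

theorem InTorus.card_dvd {H : Subgroup P2} (h : InTorus H) :
    ∃ a : P2, ¬ IsUni a ∧ H ≤ Subgroup.normalizer ((cen a) : Set P2) ∧
      Nat.card H ∣ 2 * Nat.card (cen a) := by
  obtain ⟨a, ha, hH⟩ := h
  exact ⟨a, ha, hH, (torus_normalizer_props ha).1 ▸ Subgroup.card_dvd_of_le hH⟩

theorem card_borel : Nat.gcd 2 (Fintype.card F - 1) * Nat.card (borel F) =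
    Fintype.card F * (Fintype.card F - 1) := by
  set C := (Cfsg.upperTriangularGL 2 F).comap
    (Matrix.SpecialLinearGroup.toGL : S2 →* GL (Fin 2) F) with hC
  have hmem : ∀ {y : S2}, y ∈ C ↔ (y : M2) 1 0 = 0 := fun {_} => mem_upperTriangularGL_two
  have hle : Subgroup.center S2 ≤ C := fun z hz => hmem.mpr (by
    rcases mem_center_SL_two.mp hz with rfl | rfl <;> simp)
  have h := card_center_mul_card_map hle
  rw [card_center_two_dvd] at h
  refine h.trans ?_
  have hne : ∀ y : C, ((y : S2) : M2) 0 0 ≠ 0 := fun y e => by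
    have hd := SL_det_two (y : S2)
    rw [hmem.mp y.2, e] at hd
    simp at hd
  let e : C ≃ Fˣ × F :=
    { toFun := fun y => (Units.mk0 _ (hne y), ((y : S2) : M2) 0 1)
      invFun := fun cb => ⟨⟨!![(cb.1 : F), cb.2; 0, ((cb.1⁻¹ : Fˣ) : F)], by
        simp [Matrix.det_fin_two_of]⟩, hmem.mpr rfl⟩
      left_inv := fun y => by
        refine Subtype.ext (SL_ext_two rfl rfl (hmem.mp y.2).symm ?_)
        have hd := SL_det_two (y : S2)
        rw [hmem.mp y.2, mul_zero, sub_zero] at hd
        simpa using inv_eq_of_mul_eq_one_right hd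
      right_inv := fun cb => by
        refine Prod.ext (Units.ext rfl) rfl }
  rw [Nat.card_congr e, Nat.card_prod, Nat.card_units, Nat.card_eq_fintype_card, mul_comm]

theorem index_borel : (borel F).index = Fintype.card F + 1 := by
  have h1 := card_PSL_two_mul (F := F)
  rw [← (borel F).card_mul_index, ← mul_assoc, card_borel] at h1
  have hq : 2 ≤ Fintype.card F := Fintype.one_lt_card
  have hsq : Fintype.card F ^ 2 - 1 = (Fintype.card F + 1) * (Fintype.card F - 1) := by
    simpa using Nat.sq_sub_sq (Fintype.card F) 1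
  rw [hsq] at h1
  have hpos : 0 < Fintype.card F * (Fintype.card F - 1) := Nat.mul_pos (by omega) (by omega)
  exact Nat.eq_of_mul_eq_mul_left hpos (h1.trans (by ring))

theorem InBorel.le {H : Subgroup P2} (h : InBorel H) :
    ∃ g : P2, H ≤ (borel F).map (MulAut.conj g).toMonoidHom := by
  obtain ⟨g, hg⟩ := h
  refine ⟨g⁻¹, fun x hx => mem_map_conj.mpr ?_⟩
  simpa using hg x hx

theorem card_map_conj (H : Subgroup P2) (g : P2) :
    Nat.card (H.map (MulAut.conj g).toMonoidHom) = Nat.card H :=
  Subgroup.card_map_of_injective (MulAut.conj g).injective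

theorem InBorel.card_dvd {H : Subgroup P2} (h : InBorel H) : Nat.card H ∣ Nat.card (borel F) := by
  obtain ⟨g, hg⟩ := h.le
  exact card_map_conj (borel F) g ▸ Subgroup.card_dvd_of_le hg

theorem isSolvable_borel : Group.IsSolvable (borel F) := by
  obtain ⟨χ, hχ⟩ := exists_diagonal_hom (F := F)
  have : Group.IsSolvable χ.ker := Group.isSolvable_of_comm fun a b => by
    refine Subtype.ext (Subtype.ext ?_)
    exact cen_comm stdUni_ne_one ((hχ _).mp a.2) ((hχ _).mp b.2)
  exact solvable_of_ker_le_range χ.ker.subtype χ (by rw [Subgroup.range_subtype])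

theorem InBorel.isSolvable {H : Subgroup P2} (h : InBorel H) : Group.IsSolvable H := by
  obtain ⟨g, hg⟩ := h.le
  have := isSolvable_borel (F := F)
  have : Group.IsSolvable ((borel F).map (MulAut.conj g).toMonoidHom) :=
    solvable_of_surjective (f := ((borel F).equivMapOfInjective _ (MulAut.conj g).injective).toMonoidHom)
      (MulEquiv.surjective _)
  exact solvable_of_solvable_injective (f := Subgroup.inclusion hg) (Subgroup.inclusion_injective hg)

theorem InTorus.isSolvable {H : Subgroup P2} (h : InTorus H) : Group.IsSolvable H := by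
  obtain ⟨a, ha, hH⟩ := h
  obtain ⟨-, ⟨e⟩⟩ := torus_normalizer_props ha
  set n := Nat.card (cen a)
  have : Group.IsSolvable (DihedralGroup n) := by
    let χ : DihedralGroup n →* Multiplicative (ZMod 2) := MonoidHom.mk'
      (fun g => match g with
        | DihedralGroup.r _ => Multiplicative.ofAdd 0
        | DihedralGroup.sr _ => Multiplicative.ofAdd 1)
      (by rintro (i | i) (j | j) <;> simp <;> decide)
    have : Group.IsSolvable χ.ker := Group.isSolvable_of_comm fun a b => by
      obtain ⟨a, ha⟩ := a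
      obtain ⟨b, hb⟩ := b
      rcases a with i | i
      · rcases b with j | j
        · exact Subtype.ext (by simp [add_comm])
        · rw [MonoidHom.mem_ker] at hb
          exact absurd (congrArg Multiplicative.toAdd hb :) (by decide : (1 : ZMod 2) ≠ 0)
      · rw [MonoidHom.mem_ker] at ha
        exact absurd (congrArg Multiplicative.toAdd ha :) (by decide : (1 : ZMod 2) ≠ 0)
    exact solvable_of_ker_le_range χ.ker.subtype χ (by rw [Subgroup.range_subtype])
  have : Group.IsSolvable (Subgroup.normalizer ((cen a) : Set P2)) :=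
    solvable_of_surjective (f := e.symm.toMonoidHom) e.symm.surjective
  exact solvable_of_solvable_injective (f := Subgroup.inclusion hH) (Subgroup.inclusion_injective hH)

theorem not_isSolvable_PSL {K : Type*} [Field K] [Finite K] (hK : 4 ≤ Nat.card K) :
    ¬ Group.IsSolvable (Matrix.ProjectiveSpecialLinearGroup (Fin 2) K) := by
  have := isSimpleGroup_PSL_fin (F := K) le_rfl fun _ => hK
  intro h
  have hc := IsSimpleGroup.comm_iff_isSolvable.mpr h
  have : Fintype K := Fintype.ofFinite K
  have h1 : (proj (upSL (1 : K))) * proj (loSL (1 : K)) = proj (loSL (1 : K)) * proj (upSL (1 : K)) := hc _ _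
  rw [← map_mul, ← map_mul, proj_eq_iff] at h1
  rcases h1 with e | e <;>
  · have e1 := congrArg (fun z : Matrix.SpecialLinearGroup (Fin 2) K => (z : Matrix (Fin 2) (Fin 2) K) 0 0) e
    have e2 := congrArg (fun z : Matrix.SpecialLinearGroup (Fin 2) K => (z : Matrix (Fin 2) (Fin 2) K) 0 1) e
    have e3 := congrArg (fun z : Matrix.SpecialLinearGroup (Fin 2) K => (z : Matrix (Fin 2) (Fin 2) K) 1 1) e
    simp [SL_mul_entries, upSL_coe, loSL_coe] at e1 e2 e3
    all_goals first | exact one_ne_zero (α := K) (by linear_combination e1 - e2) | exact one_ne_zero (α := K) (by linear_combination e1) | exact one_ne_zero (α := K) (by linear_combination -e1)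

/-- An odd number of steps gives an odd quotient. -/
theorem exists_odd_factor {v m : ℕ} (hv : Odd v) (hm : Odd m) :
    ∃ S : ℕ, Odd S ∧ v ^ m - 1 = (v - 1) * S := by
  refine ⟨∑ i ∈ Finset.range m, v ^ i, ?_, ?_⟩
  · rw [Finset.odd_sum_iff_odd_card_odd]
    rw [Finset.filter_true_of_mem fun i _ => hv.pow, Finset.card_range]
    exact hm
  · have h1 : 1 ≤ v := hv.pos
    have := geom_sum_mul_add (v - 1) m
    rw [Nat.sub_add_cancel h1] at this
    rw [mul_comm]
    omega

theorem IsSubfield.exists_card {H : Subgroup P2} (h : IsSubfield H) :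
    ∃ (v m : ℕ), IsPrimePow v ∧ 1 ≤ m ∧ v ^ m = Fintype.card F ∧
      (Nat.gcd 2 (v - 1) * Nat.card H = v * (v ^ 2 - 1) ∨
        (Nat.card H = v * (v ^ 2 - 1) ∧ (Odd v → Even m))) := by
  obtain ⟨K, iK, iK', ι, g, w, h⟩ := h
  obtain ⟨m, hm1, hm⟩ := IsSubfield.exists_pow_eq rfl ι
  refine ⟨Fintype.card K, m, FiniteField.isPrimePow_card K, hm1, hm, ?_⟩
  rcases h with rfl | ⟨lam, ν, h1, h2, rfl⟩
  · exact Or.inl (by rw [card_map_conj, card_pslSub_mul])
  · refine Or.inr ⟨by rw [card_map_conj, card_pglSub ι w h1 h2], fun hv => ?_⟩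
    by_contra hme
    rw [Nat.not_even_iff_odd] at hme
    obtain ⟨S, hS, hS'⟩ := exists_odd_factor hv hme
    rw [hm] at hS'
    obtain ⟨j, hj⟩ := hv
    have hνord : orderOf ν = 2 * j := by
      rw [orderOf_eq_card_of_forall_mem_zpowers h2, Nat.card_units, Nat.card_eq_fintype_card]
      omega
    have h3 : ν ^ (j * S) = 1 := by
      refine Units.ext (ι.injective ?_)
      rw [Units.val_pow_eq_pow_val, map_pow, h1, Units.val_one, map_one, ← pow_mul,
        ← Units.val_pow_eq_pow_val]
      have : 2 * (j * S) = Fintype.card F - 1 := by rw [hS', hj, Nat.add_sub_cancel]; ring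
      classical
      rw [this, ← Fintype.card_units, pow_card_eq_one, Units.val_one]
    have h4 := orderOf_dvd_of_pow_eq_one h3
    rw [hνord, mul_comm j S] at h4
    have hj0 : 0 < j := by
      have : 1 < Fintype.card K := Fintype.one_lt_card
      omega
    exact (Nat.not_even_iff_odd.mpr hS) (even_iff_two_dvd.mpr (Nat.dvd_of_mul_dvd_mul_right hj0 h4))

theorem IsSubfield.card_le {H : Subgroup P2} (h : IsSubfield H) :
    ∃ v m : ℕ, 2 ≤ v ∧ 1 ≤ m ∧ v ^ m = Fintype.card F ∧ Nat.card H ≤ v * (v ^ 2 - 1) := by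
  obtain ⟨v, m, hv, hm1, hm, h⟩ := h.exists_card
  refine ⟨v, m, hv.two_le, hm1, hm, ?_⟩
  rcases h with h | ⟨h, -⟩
  · rw [← h]
    exact Nat.le_mul_of_pos_left _ (Nat.gcd_pos_of_pos_left _ two_pos)
  · exact h.le

theorem IsSubfield.eq_top_of_card {H : Subgroup P2} (h : IsSubfield H) :
    H = ⊤ ∨ ∃ v m : ℕ, 2 ≤ v ∧ 2 ≤ m ∧ v ^ m = Fintype.card F ∧ Nat.card H ≤ v * (v ^ 2 - 1) := by
  obtain ⟨v, m, hv, hm1, hm, h⟩ := h.exists_card
  have hle : Nat.card H ≤ v * (v ^ 2 - 1) := by
    rcases h with h | ⟨h, -⟩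
    · rw [← h]
      exact Nat.le_mul_of_pos_left _ (Nat.gcd_pos_of_pos_left _ two_pos)
    · exact h.le
  rcases Nat.lt_or_ge m 2 with hm2 | hm2
  · left
    obtain rfl : m = 1 := by omega
    rw [pow_one] at hm
    subst hm
    have hG := card_PSL_two_mul (F := F)
    refine Subgroup.eq_top_of_card_eq _ (le_antisymm (Subgroup.card_le_card_group H) ?_)
    rcases h with h | ⟨h, -⟩
    · exact (Nat.eq_of_mul_eq_mul_left (Nat.gcd_pos_of_pos_left _ two_pos) (h.trans hG.symm)).ge
    · rw [h, ← hG]
      exact Nat.le_mul_of_pos_left _ (Nat.gcd_pos_of_pos_left _ two_pos)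
  · exact Or.inr ⟨v, m, hv.two_le, hm2, hm, hle⟩

theorem card_alt_four : Nat.card (alternatingGroup (Fin 4)) = 12 := by
  rw [nat_card_alternatingGroup, Nat.card_eq_fintype_card, Fintype.card_fin]; rfl

theorem card_alt_five : Nat.card (alternatingGroup (Fin 5)) = 60 := by
  rw [nat_card_alternatingGroup, Nat.card_eq_fintype_card, Fintype.card_fin]; rfl

theorem card_sym_four : Nat.card (Equiv.Perm (Fin 4)) = 24 := by
  rw [Nat.card_eq_fintype_card, Fintype.card_perm, Fintype.card_fin]; rfl

end Cfsg.Agent.Linear.Dickson
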