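import Cfsg.Agent.Linear.Dickson.MaxSmall

/-!
Dickson's theorem on two transvections generating SL_2.
-/

namespace Cfsg.Agent.Linear.Dickson

open Matrix Cfsg.Agent.Linear

/-- Pairs standing for the elements of the field with nine elements. -/
abbrev Nine := ZMod 3 × ZMod 3

/-- Four entries. -/
abbrev Quad := Nine × Nine × Nine × Nine

/-- Multiplication by the chosen square root of minus one. -/
def nineMul (u : Nine) : Nine := (-u.2, u.1)

/-- Right multiplication by the lower transvection. -/
def quadLo (m : Quad) : Quad := (m.1 + m.2.1, m.2.1, m.2.2.1 + m.2.2.2, m.2.2.2)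

/-- Right multiplication by the upper transvection. -/
def quadUp (m : Quad) : Quad :=
  (m.1, m.2.1 + nineMul m.1, m.2.2.1, m.2.2.2 + nineMul m.2.2.1)

/-- Decoding. -/
def nineDec (u : ℕ) : Nine := (((u % 3 : ℕ) : ZMod 3), ((u / 3 : ℕ) : ZMod 3))

/-- Decoding of four entries. -/
def quadDec (c : ℕ) : Quad :=
  (nineDec (c % 9), nineDec (c / 9 % 9), nineDec (c / 81 % 9), nineDec (c / 729 % 9))

/-- The binary icosahedral group over nine elements. -/
def icosaCodes : List ℕ :=
  [730, 811, 757, 892, 3025, 841, 784, 5293, 3352, 5239, 925, 3073, 871, 5620, 3133, 3436, 481, 5812, 5335, 3393, 5197, 949, 3013, 5461, 6394, 3220, 4201, 477, 6250, 5404, 4309, 5657, 3103, 3482, 5765, 5287, 3338, 5236, 394, 6309, 4873, 3541, 2446, 3875, 2698, 485, 5927, 4639, 3743, 700, 5490, 6350, 3183, 4166, 5358, 4352, 5610, 3118, 3417, 5796, 392, 3994, 5993, 4631, 6421, 2690, 3940, 4032, 1652, 2211, 6272, 6330, 1598, 4395, 6115, 3903, 693, 387, 4883, 3509, 2436, 3836, 4620, 3782, 698, 5450, 3203, 4155, 5396, 4338, 4001, 1574, 4386,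 6134, 6096, 607, 2202, 6017, 2456, 2193, 5942, 4863, 1514, 3776, 6038, 6461, 2679, 1622, 4377, 3950, 3519, 3833, 1487, 6050, 611, 1541, 1682, 6435, 1460, 603]

theorem icosaCodes_closed : ∀ c ∈ icosaCodes,
    quadLo (quadDec c) ∈ icosaCodes.map quadDec ∧ quadUp (quadDec c) ∈ icosaCodes.map quadDec := by
  decide +kernel

theorem icosaCodes_one : ((1, 0), (0, 0), (0, 0), (1, 0)) ∈ icosaCodes.map quadDec := by
  decide +kernel

variable {F : Type*} [Field F] [Fintype F]

local notation "M2" => Matrix (Fin 2) (Fin 2) F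
local notation "S2" => Matrix.SpecialLinearGroup (Fin 2) F
local notation "P2" => Matrix.ProjectiveSpecialLinearGroup (Fin 2) F

theorem card_closure_le_of_sq_neg_one [CharP F 3] {lam : F} (hlam : lam ^ 2 = -1) :
    Nat.card (Subgroup.closure ({loSL 1, upSL lam} : Set S2)) ≤ 120 := by
  classical
  set c : ZMod 3 →+* F := ZMod.castHom dvd_rfl F
  let φ : Nine → F := fun u => c u.1 + c u.2 * lam
  have hadd : ∀ u v, φ (u + v) = φ u + φ v := fun u v => by simp [φ]; ring
  have hmul : ∀ u, φ (nineMul u) = φ u * lam := fun u => by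
    simp [φ, nineMul]; linear_combination -c u.2 * hlam
  let ψ : Quad → M2 := fun m => !![φ m.1, φ m.2.1; φ m.2.2.1, φ m.2.2.2]
  let S : Finset M2 := (icosaCodes.map (ψ ∘ quadDec)).toFinset
  have hS : ∀ g : S2, (g : M2) ∈ S → ((g * loSL 1 : S2) : M2) ∈ S ∧ ((g * upSL lam : S2) : M2) ∈ S := by
    intro g hg
    simp only [S, List.mem_toFinset, List.mem_map, Function.comp] at hg ⊢
    obtain ⟨k, hk, he⟩ := hg
    obtain ⟨h1, h2⟩ := icosaCodes_closed k hk
    obtain ⟨k1, hk1, e1⟩ := List.mem_map.mp h1
    obtain ⟨k2, hk2, e2⟩ := List.mem_map.mp h2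
    refine ⟨⟨k1, hk1, ?_⟩, ⟨k2, hk2, ?_⟩⟩
    · rw [e1, Matrix.SpecialLinearGroup.coe_mul, ← he, loSL_coe]
      apply ext_two <;> simp [ψ, quadLo, mul_two_apply, hadd]
    · rw [e2, Matrix.SpecialLinearGroup.coe_mul, ← he, upSL_coe]
      apply ext_two <;> simp [ψ, quadUp, mul_two_apply, hadd, hmul] <;> ring
  have h1 : ((1 : S2) : M2) ∈ S := by
    obtain ⟨k, hk, e⟩ := List.mem_map.mp icosaCodes_one
    simp only [S, List.mem_toFinset, List.mem_map, Function.comp]
    refine ⟨k, hk, ?_⟩
    rw [e]
    apply ext_two <;> simp [ψ, φ]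
  have hcube : ∀ g : S2, (g : M2).trace = 2 → g * g = g⁻¹ := fun g hg => by
    refine eq_inv_of_mul_eq_one_left ?_
    have := (pow_char_eq_one_iff 3 g).mpr hg
    rwa [pow_succ, sq] at this
  have key : ∀ g ∈ Subgroup.closure ({loSL 1, upSL lam} : Set S2), (g : M2) ∈ S := by
    intro g hg
    induction hg using Subgroup.closure_induction_right with
    | one => exact h1
    | mul_right x _ y hy ih =>
      rcases hy with rfl | rfl
      · exact (hS x ih).1
      · exact (hS x ih).2
    | mul_inv_cancel x _ y hy ih =>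
      rcases hy with rfl | rfl
      · rw [← hcube _ (by rw [loSL_coe, Matrix.trace_fin_two_of]; norm_num), ← mul_assoc]
        exact (hS _ (hS x ih).1).1
      · rw [← hcube _ (trace_upSL lam), ← mul_assoc]
        exact (hS _ (hS x ih).2).2
  have hinj : Function.Injective
      (fun g : Subgroup.closure ({loSL 1, upSL lam} : Set S2) => (⟨_, key g g.2⟩ : S)) := fun a b h =>
    Subtype.ext (Subtype.ext (congrArg (fun z : S => (z : M2)) h))
  refine (Nat.card_le_card_of_injective _ hinj).trans ?_
  rw [Nat.card_eq_fintype_card, Fintype.card_coe]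
  refine (List.toFinset_card_le _).trans ?_
  rw [List.length_map]
  rfl

theorem mem_of_index_two_odd {G : Type*} [Group G] {P Q : Subgroup G} (hidx : (P.subgroupOf Q).index = 2)
    {x : G} (hx : x ∈ Q) {n : ℕ} (hn : Odd n) (h : x ^ n = 1) : x ∈ P := by
  have := Subgroup.normal_of_index_eq_two hidx
  have h2 : (⟨x, hx⟩ : Q) ^ 2 ∈ P.subgroupOf Q := hidx ▸ (P.subgroupOf Q).pow_index_mem _
  obtain ⟨i, rfl⟩ := hn
  have e : x = (x ^ (2 * i))⁻¹ := eq_inv_of_mul_eq_one_left (by rw [← pow_succ', h])
  rw [e, pow_mul]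
  exact P.inv_mem (P.pow_mem h2 i)

theorem lam_mem_range_of_le {K : Type*} [Field K] [Fintype K] (ι : K →+* F) (w : Fˣ) (g : P2) {lam : F}
    (h : proj (loSL 1 * upSL lam) ∈ (pslSub ι w).map (MulAut.conj g).toMonoidHom) : lam ∈ Set.range ι := by
  obtain ⟨g, rfl⟩ := proj_surjective g
  obtain ⟨z, hz⟩ := mem_map_conj.mp h
  rw [MonoidHom.comp_apply, ← map_inv, ← map_mul, ← map_mul] at hz
  have htr : ((g⁻¹ * (loSL 1 * upSL lam) * g : S2) : M2).trace = 2 + lam := by
    have e := trace_conj (loSL 1 * upSL lam) g⁻¹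
    rw [inv_inv] at e
    rw [e, Matrix.trace_fin_two]
    simp [SL_mul_entries, loSL_coe, upSL_coe]
    ring
  have hz' : ((scHom ι w z : S2) : M2).trace = ι ((z : Matrix (Fin 2) (Fin 2) K).trace) := by
    simp [scHom_coe, scMat, Matrix.trace_fin_two]
  rcases proj_eq_iff.mp hz with e | e
  · refine ⟨(z : Matrix (Fin 2) (Fin 2) K).trace - 2, ?_⟩
    rw [e, hz'] at htr
    rw [map_sub, map_ofNat, htr]; ring
  · refine ⟨-(z : Matrix (Fin 2) (Fin 2) K).trace - 2, ?_⟩
    rw [e, Matrix.SpecialLinearGroup.coe_neg, Matrix.trace_neg, hz'] at htr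
    rw [map_sub, map_neg, map_ofNat, htr]; ring

theorem card_eq_of_lam_mem {K : Type*} [Field K] [Fintype K] (ι : K →+* F) {lam : F}
    (hgen : Subfield.closure ({lam} : Set F) = ⊤) (h : lam ∈ Set.range ι) :
    Fintype.card K = Fintype.card F := by
  refine Fintype.card_of_bijective (f := ι) ⟨ι.injective, fun x => ?_⟩
  have hle : Subfield.closure ({lam} : Set F) ≤ ι.fieldRange :=
    Subfield.closure_le.mpr (Set.singleton_subset_iff.mpr (RingHom.mem_fieldRange.mpr h))
  exact RingHom.mem_fieldRange.mp (hle (hgen ▸ Subfield.mem_top x))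

theorem eq_top_of_proj {C : Subgroup S2} (hodd : Odd (Fintype.card F)) (h : C.map proj = ⊤) : C = ⊤ := by
  have h2 := two_ne_zero_of_odd_card hodd
  have h2' : 2 ∣ Nat.card P2 := by
    have hG := card_PSL_two_mul (F := F)
    rw [Nat.gcd_eq_left (by have := Nat.odd_iff.mp hodd; omega : 2 ∣ Fintype.card F - 1)] at hG
    obtain ⟨i, hi⟩ := hodd
    rw [hi, show (2 * i + 1) ^ 2 = 4 * (i * (i + 1)) + 1 by ring, Nat.add_sub_cancel] at hG
    exact ⟨(2 * i + 1) * (i * (i + 1)), by linarith⟩
  have : Fact (Nat.Prime 2) := ⟨Nat.prime_two⟩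
  obtain ⟨x, hx⟩ := exists_prime_orderOf_dvd_card' (G := P2) 2 h2'
  have hx1 : x ≠ 1 := fun e => by rw [e, orderOf_one] at hx; norm_num at hx
  obtain ⟨y, hy, rfl⟩ := (h ▸ Subgroup.mem_top x : x ∈ C.map proj)
  have ht := trace_eq_zero_of_sq hx1 (by have := pow_orderOf_eq_one (proj y); rwa [hx] at this)
  have hneg : (-1 : S2) ∈ C := by
    have hyy : y * y = -1 := Subtype.ext (by
      rw [Matrix.SpecialLinearGroup.coe_mul, Matrix.SpecialLinearGroup.coe_neg,
        Matrix.SpecialLinearGroup.coe_one]
      exact SL_sq_eq_neg_one ht)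
    exact hyy ▸ C.mul_mem hy hy
  refine (Subgroup.eq_top_iff' C).mpr fun z => ?_
  obtain ⟨c, hc, hcz⟩ := (h ▸ Subgroup.mem_top (proj z) : proj z ∈ C.map proj)
  rcases proj_eq_iff.mp hcz with rfl | rfl
  · exact hc
  · simpa using C.mul_mem hneg hc

/-- Dickson: two transvections generate, with one exception. -/
theorem two_transvections (h2 : (2 : F) ≠ 0) {lam : F} (hlam : lam ≠ 0)
    (hgen : Subfield.closure ({lam} : Set F) = ⊤) :
    (Subgroup.closure ({loSL 1, upSL lam} : Set S2) = ⊤ ∧ ¬ (Fintype.card F = 9 ∧ lam ^ 2 = -1)) ∨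
    (Fintype.card F = 9 ∧ lam ^ 2 = -1 ∧
      Nat.card (Subgroup.closure ({loSL 1, upSL lam} : Set S2)) = 120) := by
  classical
  set C := Subgroup.closure ({loSL 1, upSL lam} : Set S2) with hC
  obtain ⟨p, hchar⟩ := CharP.exists F
  have : Fact p.Prime := ⟨CharP.char_is_prime F p⟩
  obtain ⟨n, hp, hn⟩ := FiniteField.card F p
  have hp2 : p ≠ 2 := fun h => h2 (by
    subst h; exact CharTwo.two_eq_zero)
  have hpodd := hp.odd_of_ne_two hp2
  have hodd : Odd (Fintype.card F) := hn ▸ hpodd.pow
  set H := C.map proj with hH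
  set a : P2 := proj (loSL 1) with ha
  set b : P2 := proj (upSL lam) with hb
  have haH : a ∈ H := Subgroup.mem_map_of_mem _ (Subgroup.subset_closure (by simp))
  have hbH : b ∈ H := Subgroup.mem_map_of_mem _ (Subgroup.subset_closure (by simp))
  have hle : ∀ N : Subgroup P2, a ∈ N → b ∈ N → H ≤ N := fun N h h' => by
    rw [hH, Subgroup.map_le_iff_le_comap, hC, Subgroup.closure_le]
    rintro _ (rfl | rfl) <;> assumption
  have hua := isUni_loSL (F := F) 1
  have hub := isUni_upSL lam
  have hap : a ^ p = 1 := pow_char_eq_one_of_isUni p hua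
  have hbp : b ^ p = 1 := pow_char_eq_one_of_isUni p hub
  have hab : a * b ≠ b * a := fun h => not_commute_up_lo hlam one_ne_zero h.symm
  have ha1 : a ≠ 1 := fun h => hab (by rw [h, one_mul, mul_one])
  have hb1 : b ≠ 1 := fun h => hab (by rw [h, one_mul, mul_one])
  have hB : ¬ InBorel H := by
    rintro ⟨g, hg⟩
    have m1 := mem_cen_stdUni_of_isUni (hg a haH) ((isUni_conj g).mpr hua)
    have m2 := mem_cen_stdUni_of_isUni (hg b hbH) ((isUni_conj g).mpr hub)
    have h := cen_comm stdUni_ne_one m1 m2
    exact hab (by simpa [mul_assoc] using congrArg (fun z => g⁻¹ * z * g) h)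
  have hT : ¬ InTorus H := by
    rintro ⟨c, hc, hle'⟩
    rcases normalizer_cases hc (Subgroup.mem_normalizer_iff.mp (hle' haH)) with h | ⟨h, -⟩
    · exact hc ((isUni_iff_of_mem_cen (ne_one_of_not_isUni hc) ha1 h).mp hua)
    · obtain ⟨i, hi⟩ := hpodd
      rw [hi, pow_succ, pow_mul, sq, h, one_pow, one_mul] at hap
      exact ha1 hap
  -- finishing lemmas
  have finish : H = ⊤ → C = ⊤ := eq_top_of_proj hodd
  have prime_case : Fintype.card F = p → C = ⊤ := by
    intro hq
    obtain ⟨c⟩ := exists_ringHom_zmod (F := F) p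
    have hsurj : Function.Surjective c :=
      ((Fintype.bijective_iff_injective_and_card c).mpr ⟨c.injective, by rw [ZMod.card, hq]⟩).2
    have hup : ∀ x : F, proj (upSL x) ∈ H := by
      intro x
      obtain ⟨k, hk⟩ := hsurj (x / lam)
      have hx : x = (k.val : F) * lam := by
        have hval : ((k.val : ℕ) : ZMod p) = k := ZMod.natCast_rightInverse k
        rw [← map_natCast c, hval, hk, div_mul_cancel₀ _ hlam]
      have : ∀ i : ℕ, upSL ((i : F) * lam) = upSL lam ^ i := fun i => by
        induction i with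
        | zero => simp [upSL_zero]
        | succ i ih => rw [Nat.cast_succ, add_mul, one_mul, upSL_add, ih, pow_succ]
      rw [hx, this, map_pow]
      exact H.pow_mem hbH _
    have hlo : ∀ x : F, proj (loSL x) ∈ H := by
      intro x
      obtain ⟨k, hk⟩ := hsurj x
      have hval : ((k.val : ℕ) : ZMod p) = k := ZMod.natCast_rightInverse k
      have hx : x = (k.val : F) := by rw [← map_natCast c, hval, hk]
      have : ∀ i : ℕ, loSL ((i : F)) = loSL (1 : F) ^ i := fun i => by
        induction i with
        | zero => apply SL_ext_two <;> simp [loSL_coe]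
        | succ i ih =>
          rw [pow_succ, ← ih]
          apply SL_ext_two <;> simp [SL_mul_entries, loSL_coe]
      rw [hx, this, map_pow]
      exact H.pow_mem haH _
    refine finish (eq_top_iff.mpr fun y _ => ?_)
    obtain ⟨y, rfl⟩ := proj_surjective y
    have := scHom_mem (RingHom.id F) 1 (H := H) (fun k => by simpa using hup k) (fun k => by simpa using hlo k) y
    have e : scHom (RingHom.id F) 1 y = y := by
      apply SL_ext_two <;> simp [scHom_coe, scMat]
    rwa [e] at this
  have prime_of_le : ∀ (g : P2) (w : Fˣ) (c : ZMod p →+* F),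
      H ≤ (pslSub c w).map (MulAut.conj g).toMonoidHom → Fintype.card F = p := by
    intro g w c h
    rw [← card_eq_of_lam_mem c hgen (lam_mem_range_of_le c w g (by rw [map_mul]; exact H.mul_mem haH hbH |> @h _)),
      ZMod.card]
  by_cases hex : Fintype.card F = 9 ∧ lam ^ 2 = -1
  · right
    obtain ⟨hq, hl⟩ := hex
    refine ⟨hq, hl, le_antisymm ?_ ?_⟩
    · have hp3 : p = 3 := by
        rw [hn] at hq
        exact (Nat.prime_dvd_prime_iff_eq hp Nat.prime_three).mp
          (hp.dvd_of_dvd_pow (show p ∣ 3 ^ 2 by rw [show (3 : ℕ) ^ 2 = p ^ (n : ℕ) by rw [hq]; norm_num]; exact dvd_pow_self p n.ne_zero))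
      subst hp3
      exact card_closure_le_of_sq_neg_one hl
    · -- an icosahedral image and the centre
      have hnp : Fintype.card F ≠ p := fun h => by rw [h] at hq; rw [hq] at hp; norm_num at hp
      obtain ⟨c⟩ := exists_ringHom_zmod (F := F) p
      have hcardC : ∀ x ∈ H, x ≠ 1 → x * x = 1 → 2 * Nat.card H ≤ Nat.card C := by
        intro x hx hx1 hxx
        obtain ⟨y, hy, rfl⟩ := hx
        have ht := trace_eq_zero_of_sq hx1 (by rw [sq]; exact hxx)
        have hneg : (-1 : S2) ∈ C := by
          have hyy : y * y = -1 := Subtype.ext (by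
            rw [Matrix.SpecialLinearGroup.coe_mul, Matrix.SpecialLinearGroup.coe_neg,
              Matrix.SpecialLinearGroup.coe_one]
            exact SL_sq_eq_neg_one ht)
          exact hyy ▸ C.mul_mem hy hy
        have hZ : Subgroup.center S2 ≤ C := fun z hz => by
          rcases mem_center_SL_two.mp hz with rfl | rfl
          exacts [C.one_mem, hneg]
        have := card_center_mul_card_map hZ
        rw [card_center_two_dvd, Nat.gcd_eq_left (by rw [hq]; norm_num : 2 ∣ Fintype.card F - 1)] at this
        exact this.le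
      rcases shape p H with h | h | ⟨⟨f⟩⟩ | ⟨⟨f⟩⟩ | ⟨⟨f⟩⟩ | h
      · exact absurd h hB
      · exact absurd h hT
      · obtain ⟨g, w, h⟩ := exists_conj_le_pslSub_altFour hodd c f
        exact absurd (prime_of_le g w c h) hnp
      · exfalso
        have hp3 : p = 3 := by
          rw [hn] at hq
          exact (Nat.prime_dvd_prime_iff_eq hp Nat.prime_three).mp
            (hp.dvd_of_dvd_pow (show p ∣ 3 ^ 2 by rw [show (3 : ℕ) ^ 2 = p ^ (n : ℕ) by rw [hq]; norm_num]; exact dvd_pow_self p n.ne_zero))
        subst hp3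
        have hsgn : ∀ σ : Equiv.Perm (Fin 4), σ ^ 3 = 1 → Equiv.Perm.sign σ = 1 := by decide +kernel
        set A := ((alternatingGroup (Fin 4)).map (H.subtype.comp f.symm.toMonoidHom)) with hA
        have hmem : ∀ x ∈ H, x ^ 3 = 1 → x ∈ A := fun x hx h3 => ⟨f ⟨x, hx⟩, Equiv.Perm.mem_alternatingGroup.mpr
          (hsgn _ (by rw [← map_pow, ← map_one f]; exact congrArg f (Subtype.ext h3))), by simp⟩
        have h1 := Subgroup.card_le_of_le (hle A (hmem a haH hap) (hmem b hbH hbp))
        rw [(Nat.card_congr f.toEquiv).trans card_sym_four, hA,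
          Subgroup.card_map_of_injective (show Function.Injective (H.subtype.comp f.symm.toMonoidHom) from
            H.subtype_injective.comp f.symm.injective), card_alt_four] at h1
        omega
      · have hH60 : Nat.card H = 60 := (Nat.card_congr f.toEquiv).trans card_alt_five
        have hx : H66.x5 * H66.y5 ≠ 1 := by decide
        have := hcardC _ (f.symm (H66.x5 * H66.y5)).2 (coe_symm_ne_one f hx)
          (by rw [← Subgroup.coe_mul, ← map_mul, ← sq, H66.x5y5_pow, map_one, Subgroup.coe_one])
        omega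
      · by_cases htop : H = ⊤
        · rw [finish htop, Subgroup.card_top, card_SL_two, hq]; norm_num
        · exfalso
          exact htop (subfield_top h)
  · refine Or.inl ⟨?_, hex⟩
    by_cases hq : Fintype.card F = p
    · exact prime_case hq
    obtain ⟨c⟩ := exists_ringHom_zmod (F := F) p
    have hn2 : 2 ≤ (n : ℕ) := by
      by_contra h
      have : (n : ℕ) = 1 := by have := n.pos; omega
      rw [this, pow_one] at hn
      exact hq hn
    have hp3 : ∀ {G : Type} [Group G] (e : H ≃* G) (N : ℕ), (∀ x : G, x ^ N = 1) → p ∣ N := by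
      intro G _ e N hN
      have hx : a ^ N = 1 := by
        have := hN (e ⟨a, haH⟩)
        rw [← map_pow, ← map_one e] at this
        exact congrArg Subtype.val (e.injective this)
      have hord : orderOf a = p :=
        orderOf_eq_prime hap ha1
      exact hord ▸ orderOf_dvd_of_pow_eq_one hx
    rcases shape p H with h | h | ⟨⟨f⟩⟩ | ⟨⟨f⟩⟩ | ⟨⟨f⟩⟩ | h
    · exact absurd h hB
    · exact absurd h hT
    · obtain ⟨g, w, h⟩ := exists_conj_le_pslSub_altFour hodd c f
      exact absurd (prime_of_le g w c h) hq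
    · exfalso
      have hall : ∀ σ : Equiv.Perm (Fin 4), σ ^ 12 = 1 := by decide +kernel
      have h3 : p = 3 := by
        have hd : p ∣ 2 ^ 2 * 3 := hp3 f 12 hall
        rcases hp.dvd_mul.mp hd with h | h
        · exact absurd ((Nat.prime_dvd_prime_iff_eq hp Nat.prime_two).mp (hp.dvd_of_dvd_pow h)) hp2
        · exact (Nat.prime_dvd_prime_iff_eq hp Nat.prime_three).mp h
      subst h3
      have hsgn : ∀ σ : Equiv.Perm (Fin 4), σ ^ 3 = 1 → Equiv.Perm.sign σ = 1 := by decide +kernel
      set A := ((alternatingGroup (Fin 4)).map (H.subtype.comp f.symm.toMonoidHom)) with hA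
      have hmem : ∀ x ∈ H, x ^ 3 = 1 → x ∈ A := fun x hx h3 => ⟨f ⟨x, hx⟩, Equiv.Perm.mem_alternatingGroup.mpr
        (hsgn _ (by rw [← map_pow, ← map_one f]; exact congrArg f (Subtype.ext h3))), by simp⟩
      have h1 := Subgroup.card_le_of_le (hle A (hmem a haH hap) (hmem b hbH hbp))
      rw [(Nat.card_congr f.toEquiv).trans card_sym_four, hA,
        Subgroup.card_map_of_injective (show Function.Injective (H.subtype.comp f.symm.toMonoidHom) from
          H.subtype_injective.comp f.symm.injective), card_alt_four] at h1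
      omega
    · exfalso
      have hall : ∀ σ : alternatingGroup (Fin 5), σ ^ 30 = 1 := by
        have h' : ∀ σ : alternatingGroup (Fin 5), σ ^ 2 = 1 ∨ σ ^ 3 = 1 ∨ σ ^ 5 = 1 := by decide +kernel
        intro σ
        rcases h' σ with h | h | h
        · rw [show 30 = 2 * 15 from rfl, pow_mul, h, one_pow]
        · rw [show 30 = 3 * 10 from rfl, pow_mul, h, one_pow]
        · rw [show 30 = 5 * 6 from rfl, pow_mul, h, one_pow]
      have h35 : p = 3 ∨ p = 5 := by
        have hd : p ∣ 2 * (3 * 5) := hp3 f 30 hall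
        rcases hp.dvd_mul.mp hd with h | h
        · exact absurd ((Nat.prime_dvd_prime_iff_eq hp Nat.prime_two).mp h) hp2
        rcases hp.dvd_mul.mp h with h | h
        · exact Or.inl ((Nat.prime_dvd_prime_iff_eq hp Nat.prime_three).mp h)
        · exact Or.inr ((Nat.prime_dvd_prime_iff_eq hp Nat.prime_five).mp h)
      rcases h35 with rfl | rfl
      · -- nine elements
        have hne : Even (n : ℕ) := by
          by_contra hne
          obtain ⟨i, hi⟩ := Nat.not_even_iff_odd.mp hne
          have hd := dvd_of_altFive f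
          have h5 : Fintype.card F ^ 2 % 5 = 4 := by
            rw [hn, ← pow_mul, mul_comm, pow_mul, Nat.pow_mod, hi, pow_succ, pow_mul]
            simp [Nat.mul_mod, Nat.pow_mod]
          rcases Nat.prime_five.dvd_mul.mp hd with h | h
          · have h0 : 5 ∣ Fintype.card F ^ 2 := dvd_pow h two_ne_zero
            omega
          · omega
        obtain ⟨k, hk⟩ := hne
        have iK : Fintype (GaloisField 3 2) := Fintype.ofFinite _
        have hK : Fintype.card (GaloisField 3 2) = 3 ^ 2 := by
          rw [← Nat.card_eq_fintype_card, GaloisField.card 3 2 two_ne_zero]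
        obtain ⟨r, hr⟩ := exists_root_of_five_dvd (F := GaloisField 3 2) (by rw [hK]; norm_num)
        obtain ⟨ι⟩ := exists_ringHom (F := F) (K := GaloisField 3 2) (m := k)
          (by have := n.pos; omega) (by rw [hK, ← pow_mul, hn, hk, two_mul])
        obtain ⟨g, w, h⟩ := exists_conj_le_pslSub ι hr f
        have hlr := lam_mem_range_of_le ι w g (lam := lam) (by rw [map_mul]; exact h (H.mul_mem haH hbH))
        have hq9 : Fintype.card F = 9 := by rw [← card_eq_of_lam_mem ι hgen hlr, hK]; norm_num
        have hl : lam ^ 2 ≠ -1 := fun h => hex ⟨hq9, h⟩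
        -- traces of elements of A5
        have hh : ∀ σ : alternatingGroup (Fin 5), σ ^ 2 = 1 ∨ σ ^ 3 = 1 ∨ σ ^ 5 = 1 := by decide +kernel
        have h30 : (3 : F) = 0 := by exact_mod_cast CharP.cast_eq_zero F 3
        have hnotprime : lam ∉ Set.range c := fun hm => hq (by rw [← card_eq_of_lam_mem c hgen hm, ZMod.card])
        have trtest : ∀ X : S2, proj X ∈ H → proj X ≠ 1 →
            (X : M2).trace = 0 ∨ (X : M2).trace ^ 2 = 1 ∨ (X : M2).trace ^ 2 = (X : M2).trace + 1 ∨
              (X : M2).trace ^ 2 = -(X : M2).trace + 1 := by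
          intro X hX hX1
          have hpow : ∀ N, f ⟨_, hX⟩ ^ N = 1 → proj X ^ N = 1 := fun N h => by
            rw [← map_pow, ← map_one f] at h
            exact congrArg Subtype.val (f.injective h)
          rcases hh (f ⟨_, hX⟩) with h | h | h
          · exact Or.inl (trace_eq_zero_of_sq hX1 (hpow 2 h))
          · exact Or.inr (Or.inl (trace_sq_eq_one_of_cube hX1 (hpow 3 h)))
          · rcases trace_of_fifth hX1 (hpow 5 h) with h | h
            · exact Or.inr (Or.inr (Or.inl h))
            · exact Or.inr (Or.inr (Or.inr (by linear_combination h)))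
        have hne1 : ∀ X : S2, (X : M2) 1 0 ≠ 0 → proj X ≠ 1 := fun X hX h => hX (proj_eq_one_iff.mp h).2.1
        have t1 := trtest (loSL 1 * upSL lam) (by rw [map_mul]; exact H.mul_mem haH hbH)
          (hne1 _ (by simp [SL_mul_entries, loSL_coe, upSL_coe]))
        have t2 := trtest (loSL 1 * upSL (-lam)) (by rw [map_mul, upSL_neg, map_inv]; exact H.mul_mem haH (H.inv_mem hbH))
          (hne1 _ (by simp [SL_mul_entries, loSL_coe, upSL_coe]))
        have e1 : ∀ μ : F, ((loSL 1 * upSL μ : S2) : M2).trace = 2 + μ := fun μ => by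
          simp [Matrix.trace_fin_two, SL_mul_entries, loSL_coe, upSL_coe]; ring
        rw [e1] at t1 t2
        have z : ∀ i : ℤ, lam ≠ (i : F) := fun i h => hnotprime ⟨(i : ZMod 3), by rw [h, map_intCast]⟩
        have z0 := z 0
        have z1 := z 1
        have z2 := z 2
        push_cast at z0 z1 z2
        rcases t1 with t | t | t | t
        · exact z1 (by linear_combination t - h30)
        · rcases sq_eq_one_iff.mp t with t | t
          · exact z2 (by linear_combination t - h30)
          · exact z0 (by linear_combination t - h30)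
        · exact hl (by linear_combination t - lam * h30)
        · have hl2 : lam ^ 2 = lam + 1 := by linear_combination t - (2 * lam + 2) * h30
          rcases t2 with u | u | u | u
          · exact z2 (by linear_combination -u)
          · rcases sq_eq_one_iff.mp u with u | u
            · exact z1 (by linear_combination -u)
            · exact z0 (by linear_combination -u + h30)
          · exact z1 (by linear_combination u - hl2 + (lam - 1) * h30)
          · exact z0 (by linear_combination -u + hl2 + (2 - lam) * h30)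
      · obtain ⟨r, hr⟩ := exists_root_of_five_dvd (F := ZMod 5) (by rw [ZMod.card]; norm_num)
        obtain ⟨g, w, h⟩ := exists_conj_le_pslSub c hr f
        exact hq (prime_of_le g w c h)
    · exact finish (subfield_top h)
  where
  subfield_top : IsSubfield ((Subgroup.closure ({loSL 1, upSL lam} : Set S2)).map proj) →
      (Subgroup.closure ({loSL 1, upSL lam} : Set S2)).map proj = ⊤ := by
    intro h
    classical
    set H := (Subgroup.closure ({loSL 1, upSL lam} : Set S2)).map proj with hH
    obtain ⟨p, hchar⟩ := CharP.exists F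
    have : Fact p.Prime := ⟨CharP.char_is_prime F p⟩
    have hp2 : p ≠ 2 := fun h => h2 (by subst h; exact CharTwo.two_eq_zero)
    have hpodd := (Fact.out : p.Prime).odd_of_ne_two hp2
    obtain ⟨n, hp, hn⟩ := FiniteField.card F p
    have haH : proj (loSL (1 : F)) ∈ H := Subgroup.mem_map_of_mem _ (Subgroup.subset_closure (by simp))
    have hbH : proj (upSL lam) ∈ H := Subgroup.mem_map_of_mem _ (Subgroup.subset_closure (by simp))
    obtain ⟨K, iK, iK', ι, g, w, hK⟩ := h
    have hmem : ∀ x ∈ H, x ^ p = 1 → x ∈ (pslSub ι w).map (MulAut.conj g).toMonoidHom := by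
      intro x hx hxp
      rcases hK with hK | ⟨l, ν, h1, h2', hK⟩
      · exact hK ▸ hx
      · have hKodd : Odd (Fintype.card K) := by
          obtain ⟨m, hm, hm'⟩ := IsSubfield.exists_pow_eq rfl ι
          exact (Nat.odd_pow_iff (by omega : m ≠ 0)).mp (hm' ▸ hn ▸ hpodd.pow)
        have hPQ := Subgroup.map_mono (f := (MulAut.conj g).toMonoidHom) (pslSub_le_pglSub ι w l)
        refine mem_of_index_two_odd ?_ (hK ▸ hx) hpodd hxp
        have h' := (((pslSub ι w).map (MulAut.conj g).toMonoidHom).subgroupOf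
          ((pglSub ι w l).map (MulAut.conj g).toMonoidHom)).card_mul_index
        rw [Nat.card_congr (Subgroup.subgroupOfEquivOfLe hPQ).toEquiv, card_map_conj, card_map_conj,
          card_pglSub ι w h1 h2', ← card_pslSub_mul ι w, Nat.gcd_eq_left (by
            obtain ⟨i, hi⟩ := hKodd; omega : 2 ∣ Fintype.card K - 1)] at h'
        exact Nat.eq_of_mul_eq_mul_left Nat.card_pos (h'.trans (mul_comm _ _))
    have hm := Subgroup.mul_mem _ (hmem _ haH (pow_char_eq_one_of_isUni p (isUni_loSL _)))
      (hmem _ hbH (pow_char_eq_one_of_isUni p (isUni_upSL _)))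
    rw [← map_mul] at hm
    have hcard := card_eq_of_lam_mem ι hgen (lam_mem_range_of_le ι w g hm)
    refine eq_top_iff.mpr (le_trans ?_ (show (pslSub ι w).map (MulAut.conj g).toMonoidHom ≤ H from ?_))
    · refine (Subgroup.eq_top_of_card_eq _ ?_).ge
      rw [card_map_conj]
      exact Nat.eq_of_mul_eq_mul_left (Nat.gcd_pos_of_pos_left _ two_pos)
        ((card_pslSub_mul ι w).trans (hcard ▸ (card_PSL_two_mul (F := F)).symm))
    · rcases hK with hK | ⟨l, ν, -, -, hK⟩
      · exact hK.ge
      · exact hK ▸ Subgroup.map_mono (pslSub_le_pglSub ι w l)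

end Cfsg.Agent.Linear.Dickson
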