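import Cfsg.Agent.Linear.Dickson.Cases

/-!
Subgroups of PSL_2 meeting the standard unipotent subgroup: the Sylow subgroup and its normaliser.
-/

namespace Cfsg.Agent.Linear.Dickson

open Matrix Cfsg.Agent.Linear

variable {F : Type*} [Field F] [Fintype F]

local notation "M2" => Matrix (Fin 2) (Fin 2) F
local notation "S2" => Matrix.SpecialLinearGroup (Fin 2) F
local notation "P2" => Matrix.ProjectiveSpecialLinearGroup (Fin 2) F

theorem conj_mem_cen_stdUni {b v : P2} (hb : b ∈ borel F) (hv : v ∈ cen (stdUni : P2)) :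
    b * v * b⁻¹ ∈ cen (stdUni : P2) := by
  obtain ⟨χ, hχ⟩ := exists_diagonal_hom (F := F)
  refine (hχ (⟨b, hb⟩ * ⟨v, cen_stdUni_le_borel hv⟩ * ⟨b, hb⟩⁻¹)).mp ?_
  rw [map_mul, map_mul, map_inv, mul_right_comm, mul_inv_cancel, one_mul, hχ]
  exact hv

theorem borel_le_normalizer :
    borel F ≤ Subgroup.normalizer ((cen (stdUni : P2)) : Set P2) := by
  intro b hb
  rw [Subgroup.mem_normalizer_iff]
  refine fun v => ⟨conj_mem_cen_stdUni hb, fun h => ?_⟩
  simpa [mul_assoc] using conj_mem_cen_stdUni ((borel F).inv_mem hb) h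

theorem mem_cen_stdUni_of_isUni {b : P2} (hb : b ∈ borel F) (hu : IsUni b) : b ∈ cen (stdUni : P2) := by
  obtain ⟨y, rfl⟩ := proj_surjective b
  have h10 := mem_borel_proj.mp hb
  have hd := SL_det_two y
  rw [isUni_proj, Matrix.trace_fin_two] at hu
  rw [h10, mul_zero, sub_zero] at hd
  refine mem_cen_stdUni.mpr ⟨h10, sub_eq_zero.mp (eq_zero_of_pow_eq_zero (n := 2) ?_)⟩
  linear_combination hu - 4 * hd

theorem isUni_of_mem_cen_stdUni {v : P2} (hv : v ∈ cen (stdUni : P2)) : IsUni v := by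
  by_cases h1 : v = 1
  · exact h1 ▸ ⟨1, map_one _, by simp [Matrix.trace_fin_two]; norm_num⟩
  · exact (isUni_iff_of_mem_cen stdUni_ne_one h1 hv).mpr isUni_stdUni

/-- In the Borel subgroup only the unipotent subgroup centralises a non-trivial unipotent element. -/
theorem mem_cen_stdUni_of_commute {b v : P2} (hb : b ∈ borel F) (hv : v ∈ cen (stdUni : P2))
    (hv1 : v ≠ 1) (h : b * v = v * b) : b ∈ cen (stdUni : P2) := by
  obtain ⟨y, rfl⟩ := proj_surjective b
  obtain ⟨z, rfl⟩ := proj_surjective v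
  obtain ⟨z10, z00⟩ := mem_cen_stdUni.mp hv
  have y10 := mem_borel_proj.mp hb
  have z01 : (z : M2) 0 1 ≠ 0 := fun e => hv1 (proj_eq_one_iff.mpr ⟨e, z10, z00⟩)
  have hz := SL_det_two z
  rw [z10, mul_zero, sub_zero] at hz
  have hy := SL_det_two y
  rw [y10, mul_zero, sub_zero] at hy
  refine mem_cen_stdUni.mpr ⟨y10, ?_⟩
  rw [← map_mul, ← map_mul, proj_eq_iff] at h
  have key : ∀ s : F, s * s = 1 → (∀ i j, ((z * y : S2) : M2) i j = s * ((y * z : S2) : M2) i j) →
      (y : M2) 0 0 = (y : M2) 1 1 := by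
    intro s hs he
    have e00 := he 0 0
    have e01 := he 0 1
    simp only [SL_mul_entries, y10, z10, mul_zero, add_zero] at e00 e01
    have hs1 : s = 1 := by
      have : (y : M2) 0 0 * (z : M2) 0 0 * (s - 1) = 0 := by linear_combination -e00
      rcases mul_eq_zero.mp this with h' | h'
      · rcases mul_eq_zero.mp h' with h'' | h'' <;> simp [h''] at hy hz
      · exact sub_eq_zero.mp h'
    subst hs1
    apply mul_right_cancel₀ z01
    linear_combination -e01 + (y : M2) 0 1 * z00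
  rcases h with h | h
  · exact key 1 (one_mul _) fun i j => by rw [h, one_mul]
  · exact key (-1) (by ring) fun i j => by rw [h]; simp

theorem card_cen_stdUni : Nat.card (cen (stdUni : P2)) = Fintype.card F :=
  card_cen_of_isUni stdUni_ne_one isUni_stdUni

theorem isPGroup_cen_stdUni (p : ℕ) [Fact p.Prime] [CharP F p] : IsPGroup p (cen (stdUni : P2)) :=
  fun v => ⟨1, Subtype.ext (by
    rw [pow_one, Subgroup.coe_pow]
    exact pow_char_eq_one_of_isUni p (isUni_of_mem_cen_stdUni v.2))⟩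

/-- The standard Borel subgroup lies in the normaliser of a Sylow subgroup. -/
theorem exists_sylow_borel (p : ℕ) [Fact p.Prime] [CharP F p] :
    ∃ P : Sylow p P2, borel F ≤ Subgroup.normalizer ((P : Subgroup P2) : Set P2) := by
  have hcard := card_cen_stdUni (F := F)
  have hidx : ¬ p ∣ (cen (stdUni : P2)).index := by
    intro h
    obtain ⟨f, hp, hf⟩ := FiniteField.card F p
    have h1 := (cen (stdUni : P2)).card_mul_index
    have h2 := card_PSL_two_mul (F := F)
    rw [← h1, hcard] at h2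
    set q := Fintype.card F with hq
    have hq1 : 1 ≤ q := Fintype.card_pos
    set i := (cen (stdUni : P2)).index
    have h3 : i ∣ q ^ 2 - 1 := by
      refine ⟨Nat.gcd 2 (q - 1), Nat.eq_of_mul_eq_mul_left hq1 ?_⟩
      rw [← h2]; ring
    have h4 : p ∣ q ^ 2 := dvd_pow (hf ▸ dvd_pow_self p f.ne_zero) two_ne_zero
    have h5 := Nat.dvd_sub h4 (h.trans h3)
    rw [Nat.sub_sub_self (Nat.one_le_pow _ _ hq1)] at h5
    exact hp.not_dvd_one h5
  exact ⟨(isPGroup_cen_stdUni p).toSylow hidx, borel_le_normalizer⟩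

variable (H : Subgroup (Matrix.ProjectiveSpecialLinearGroup (Fin 2) F))

/-- The intersection with the standard unipotent subgroup. -/
noncomputable def Qs : Subgroup H := (cen (stdUni : P2)).subgroupOf H

/-- The intersection with the standard Borel subgroup. -/
def Ns : Subgroup H := (borel F).subgroupOf H

variable {H}

theorem mem_Qs {a : H} : a ∈ Qs H ↔ (a : P2) ∈ cen (stdUni : P2) := Iff.rfl

theorem mem_Ns {a : H} : a ∈ Ns H ↔ (a : P2) ∈ borel F := Iff.rfl

theorem Qs_le_Ns : Qs H ≤ Ns H := fun _ ha => cen_stdUni_le_borel ha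

theorem part_cen_eq_Qs {v : H} (hv : v ∈ Qs H) (hv1 : v ≠ 1) : (part H).cen v = Qs H := by
  ext b
  rw [mem_part_cen, cen_eq_of_mem stdUni_ne_one (coe_ne_one hv1) hv, mem_Qs]

theorem part_nor_eq_Ns {v : H} (hv : v ∈ Qs H) (hv1 : v ≠ 1) : (part H).nor v = Ns H := by
  rw [CenPartition.nor, part_cen_eq_Qs hv hv1]
  refine le_antisymm (fun g hg => mem_borel_of_conj hv (coe_ne_one hv1)
    ((Subgroup.mem_normalizer_iff.mp hg v).mp hv)) fun g hg => ?_
  rw [Subgroup.mem_normalizer_iff]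
  intro b
  exact Subgroup.mem_normalizer_iff.mp (borel_le_normalizer hg) (b : P2)

/-- The unipotent part acts freely on the other cosets of the normaliser. -/
theorem mem_Ns_of_fix {v g : H} (hv : v ∈ Qs H) (hv1 : v ≠ 1) (h : g⁻¹ * v * g ∈ Ns H) : g ∈ Ns H := by
  have hu : IsUni ((g⁻¹ * v * g : H) : P2) := by
    have := (isUni_conj ((g⁻¹ : H) : P2) (x := (v : P2))).mpr (isUni_of_mem_cen_stdUni hv)
    simpa using this
  have hm := mem_cen_stdUni_of_isUni h hu
  have hb := mem_borel_of_conj (g := ((g⁻¹ : H) : P2)) hv (coe_ne_one hv1) (by simpa using hm)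
  exact (Ns H).inv_mem_iff.mp hb

section Finite

theorem exists_index_eq : ∃ k : ℕ, (Ns H).index = 1 + k * Nat.card (Qs H) := by
  classical
  set N := Ns H with hN
  let b : H ⧸ N := QuotientGroup.mk 1
  have hb : ∀ r : Qs H, r • b = b := fun r => by
    show (QuotientGroup.mk ((r : H) * 1) : H ⧸ N) = QuotientGroup.mk 1
    rw [QuotientGroup.eq]
    simpa using N.inv_mem (Qs_le_Ns r.2)
  have hne : ∀ (r : Qs H) (c : H ⧸ N), c ≠ b → r • c ≠ b := fun r c hc e => hc (by
    rw [← inv_smul_smul r c, e, hb])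
  letI : MulAction (Qs H) {c : H ⧸ N // c ≠ b} :=
    { smul := fun r c => ⟨r • c.1, hne r c.1 c.2⟩
      one_smul := fun c => Subtype.ext (one_smul _ c.1)
      mul_smul := fun r s c => Subtype.ext (mul_smul r s c.1) }
  have hfree : ∀ c : {c : H ⧸ N // c ≠ b}, MulAction.stabilizer (Qs H) c = ⊥ := by
    rintro ⟨c, hc⟩
    rw [Subgroup.eq_bot_iff_forall]
    intro r hr
    have hr' : r • c = c := congrArg Subtype.val (MulAction.mem_stabilizer_iff.mp hr)
    by_contra hr1
    obtain ⟨g, rfl⟩ := QuotientGroup.mk_surjective c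
    have e : g⁻¹ * (r : H)⁻¹ * g ∈ N := by
      have := QuotientGroup.eq.mp (show (QuotientGroup.mk ((r : H) * g) : H ⧸ N) = QuotientGroup.mk g from hr')
      simpa [mul_assoc] using this
    have hg := mem_Ns_of_fix ((Qs H).inv_mem r.2) (fun e' => hr1 (Subtype.ext (inv_eq_one.mp e'))) e
    exact hc (QuotientGroup.eq.mpr (by simpa using N.inv_mem hg))
  have h1 := Nat.card_congr (MulAction.selfEquivOrbitsQuotientProd hfree)
  rw [Nat.card_prod] at h1
  refine ⟨Nat.card (MulAction.orbitRel.Quotient (Qs H) {c : H ⧸ N // c ≠ b}), ?_⟩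
  rw [← h1]
  have h2 := Nat.card_congr (Equiv.optionSubtypeNe b)
  rw [Finite.card_option] at h2
  rw [Subgroup.index, ← h2, add_comm]

theorem exists_torus_hom : ∃ φ : Ns H →* Fˣ, ∀ n : Ns H, φ n = 1 ↔ (n : H) ∈ Qs H := by
  obtain ⟨χ, hχ⟩ := exists_diagonal_hom (F := F)
  let ι : Ns H →* borel F :=
    { toFun := fun n => ⟨((n : H) : P2), n.2⟩
      map_one' := rfl
      map_mul' := fun _ _ => rfl }
  exact ⟨χ.comp ι, fun n => hχ (ι n)⟩

theorem isPGroup_Qs (p : ℕ) [Fact p.Prime] [CharP F p] : IsPGroup p (Qs H) := fun v => ⟨1,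
  Subtype.ext (Subtype.ext (by
    rw [pow_one, Subgroup.coe_pow, Subgroup.coe_pow]
    exact pow_char_eq_one_of_isUni p (isUni_of_mem_cen_stdUni v.2)))⟩

/-- The index `t` of the unipotent part in its normaliser. -/
theorem exists_torus_order (p : ℕ) [Fact p.Prime] [CharP F p] :
    ∃ t : ℕ, 0 < t ∧ ¬ p ∣ t ∧ Nat.card (Ns H) = Nat.card (Qs H) * t ∧
      (1 < t → ∃ a : H, a ∈ Ns H ∧ a ∉ Qs H ∧ orderOf a = t ∧
        ¬ IsUni (a : P2) ∧ Nat.card ((part H).cen a) = t ∧ (part H).cen a ≤ Ns H) := by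
  classical
  obtain ⟨φ, hφ⟩ := exists_torus_hom (H := H)
  have hker : φ.ker = (Qs H).subgroupOf (Ns H) := by
    ext n
    rw [MonoidHom.mem_ker, hφ, Subgroup.mem_subgroupOf]
  set t := Nat.card φ.range with ht
  have hu : Nat.card φ.ker = Nat.card (Qs H) := by
    rw [hker]
    exact Nat.card_congr (Subgroup.subgroupOfEquivOfLe (Qs_le_Ns (H := H))).toEquiv
  have hcard : Nat.card (Ns H) = Nat.card (Qs H) * t := by
    rw [← hu, ht, ← Subgroup.index_ker, Subgroup.card_mul_index]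
  have hdvd : t ∣ Fintype.card F - 1 := by
    rw [← Fintype.card_units, ← Nat.card_eq_fintype_card]
    exact Subgroup.card_subgroup_dvd_card φ.range
  have hcop : ¬ p ∣ t := fun h => by
    obtain ⟨f, hp, hf⟩ := FiniteField.card F p
    have h1 : p ∣ Fintype.card F := hf ▸ dvd_pow_self p f.ne_zero
    have h2 := Nat.dvd_sub h1 (h.trans hdvd)
    rw [Nat.sub_sub_self Fintype.card_pos] at h2
    exact hp.not_dvd_one h2
  refine ⟨t, Nat.card_pos, hcop, hcard, fun h1 => ?_⟩
  obtain ⟨e, he⟩ := IsPGroup.iff_card.mp (isPGroup_Qs (H := H) p)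
  have hcopu : Nat.Coprime (Nat.card (Qs H)) t :=
    he ▸ Nat.Coprime.pow_left _ ((Fact.out : p.Prime).coprime_iff_not_dvd.mpr hcop)
  -- a generator of the image
  obtain ⟨g, hg⟩ := IsCyclic.exists_generator (α := φ.range)
  obtain ⟨n, hn⟩ := MonoidHom.mem_range.mp g.2
  have hoy : orderOf (φ n) = t := by
    rw [hn, Subgroup.orderOf_coe]
    exact orderOf_eq_card_of_forall_mem_zpowers hg
  set u := Nat.card (Qs H) with hudef
  have hoa : orderOf (φ (n ^ u)) = t := by
    rw [map_pow, Nat.Coprime.orderOf_pow (by rw [hoy]; exact hcopu.symm), hoy]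
  set a : H := ((n ^ u : Ns H) : H) with hadef
  have haN : a ∈ Ns H := (n ^ u).2
  have haQ : a ∉ Qs H := fun h => by
    rw [(hφ (n ^ u)).mpr h, orderOf_one] at hoa
    omega
  have hord : orderOf a = t := by
    refine Nat.dvd_antisymm (orderOf_dvd_of_pow_eq_one ?_) ?_
    · rw [hadef, ← Subgroup.coe_pow, ← pow_mul, ← hcard, pow_card_eq_one', Subgroup.coe_one]
    · rw [hadef, Subgroup.orderOf_coe, ← hoa]
      exact orderOf_map_dvd φ _
  have hnu : ¬ IsUni (a : P2) := fun h => haQ (mem_cen_stdUni_of_isUni haN h)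
  have ha1 : a ≠ 1 := fun h => haQ (h ▸ (Qs H).one_mem)
  have hle : (part H).cen a ≤ Ns H := fun b hb => cen_le_borel (coe_ne_one ha1) haN hb
  refine ⟨a, haN, haQ, hord, hnu, ?_, hle⟩
  let ψ : (part H).cen a →* φ.range :=
    φ.rangeRestrict.comp (Subgroup.inclusion hle)
  have hψ : Function.Injective ψ := by
    rw [injective_iff_map_eq_one]
    intro b hb
    have hbQ : (b : H) ∈ Qs H := (hφ ⟨(b : H), hle b.2⟩).mp (congrArg Subtype.val hb)
    by_contra hb1
    exact hnu ((isUni_iff_of_mem_cen (coe_ne_one ha1) (coe_ne_one fun e => hb1 (Subtype.ext e)) b.2).mp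
      (isUni_of_mem_cen_stdUni hbQ))
  refine Nat.dvd_antisymm (Subgroup.card_dvd_of_injective ψ hψ) ?_
  rw [← hord, ← Nat.card_zpowers]
  exact Subgroup.card_dvd_of_le (Subgroup.zpowers_le.mpr ((part H).mem_self a))

/-- The torus acts freely on the unipotent part. -/
theorem dvd_card_Qs_sub_one {a : H} (hau : ¬ IsUni (a : P2))
    (hle : (part H).cen a ≤ Ns H) : Nat.card ((part H).cen a) ∣ Nat.card (Qs H) - 1 := by
  classical
  set A := (part H).cen a with hA
  have hconj : ∀ (r : A) (v : H), v ∈ Qs H → (r : H) * v * (r : H)⁻¹ ∈ Qs H := fun r v hv =>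
    conj_mem_cen_stdUni (hle r.2) hv
  letI : MulAction A {v : H // v ∈ Qs H ∧ v ≠ 1} :=
    { smul := fun r v => ⟨(r : H) * v.1 * (r : H)⁻¹, hconj r v.1 v.2.1, CenPartition.conj_ne_one' v.2.2⟩
      one_smul := fun v => Subtype.ext (show ((1 : A) : H) * v.1 * ((1 : A) : H)⁻¹ = v.1 by simp)
      mul_smul := fun r s v => Subtype.ext (show ((r * s : A) : H) * v.1 * ((r * s : A) : H)⁻¹ =
        (r : H) * ((s : H) * v.1 * (s : H)⁻¹) * (r : H)⁻¹ by simp [mul_assoc]) }
  have hfree : ∀ v : {v : H // v ∈ Qs H ∧ v ≠ 1}, MulAction.stabilizer A v = ⊥ := by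
    rintro ⟨v, hv, hv1⟩
    rw [Subgroup.eq_bot_iff_forall]
    intro r hr
    have hr' : (r : H) * v * (r : H)⁻¹ = v := congrArg Subtype.val (MulAction.mem_stabilizer_iff.mp hr)
    by_contra hr1
    have hc : ((r : H) : P2) * (v : P2) = (v : P2) * ((r : H) : P2) := by
      have := congrArg (fun z : H => ((z * r : H) : P2)) hr'
      simpa using this
    have hrQ := mem_cen_stdUni_of_commute (hle r.2) hv (coe_ne_one hv1) hc
    have ha1 : a ≠ 1 := fun e => hau (e ▸ ⟨1, map_one _, by simp [Matrix.trace_fin_two]; norm_num⟩)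
    exact hau ((isUni_iff_of_mem_cen (coe_ne_one ha1) (coe_ne_one fun e => hr1 (Subtype.ext e)) r.2).mp
      (isUni_of_mem_cen_stdUni hrQ))
  have h1 := Nat.card_congr (MulAction.selfEquivOrbitsQuotientProd hfree)
  rw [Nat.card_prod] at h1
  have h2 : Nat.card {v : H // v ∈ Qs H ∧ v ≠ 1} = Nat.card (Qs H) - 1 := by
    rw [← Nat.card_congr (Equiv.subtypeSubtypeEquivSubtypeInter (· ∈ Qs H) (· ≠ (1 : H)))]
    have e := Nat.card_congr (Equiv.optionSubtypeNe (1 : Qs H))
    rw [Finite.card_option] at e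
    have e' : Nat.card {v : Qs H // (v : H) ≠ 1} = Nat.card {v : Qs H // v ≠ 1} :=
      Nat.card_congr (Equiv.subtypeEquivRight fun v => by simp)
    exact e'.trans (by omega)
  exact Dvd.intro_left _ (h1.symm.trans h2)

/-- The unipotent part is a Sylow subgroup, so all unipotent elements form one class. -/
theorem rel_of_isUni (p : ℕ) [Fact p.Prime] [CharP F p] {v a : H} (hv : v ∈ Qs H) (hv1 : v ≠ 1)
    (hu : IsUni (a : P2)) : (part H).Rel v a := by
  obtain ⟨k, hk⟩ := exists_index_eq (H := H)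
  obtain ⟨t, -, hcop, hcard, -⟩ := exists_torus_order (H := H) p
  obtain ⟨e, he⟩ := IsPGroup.iff_card.mp (isPGroup_Qs (H := H) p)
  have hvQ : Qs H ≠ ⊥ := fun h => hv1 (Subgroup.mem_bot.mp (h ▸ hv))
  have he0 : e ≠ 0 := fun h => hvQ (Subgroup.card_eq_one.mp (by rw [he, h, pow_zero]))
  have hidx : ¬ p ∣ (Qs H).index := by
    have h1 := (Qs H).card_mul_index
    rw [← (Ns H).card_mul_index, hcard, mul_assoc] at h1
    rw [Nat.eq_of_mul_eq_mul_left Nat.card_pos h1, hk]
    rintro h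
    rcases (Fact.out : p.Prime).dvd_mul.mp h with h' | h'
    · exact hcop h'
    · refine (Fact.out : p.Prime).not_dvd_one ((Nat.dvd_add_left ?_).mp h')
      exact dvd_mul_of_dvd_right (he ▸ dvd_pow_self p he0) k
  let T : Sylow p H := (isPGroup_Qs p).toSylow hidx
  have hz : IsPGroup p (Subgroup.zpowers a) := by
    rintro ⟨b, i, rfl⟩
    refine ⟨1, Subtype.ext ?_⟩
    show (a ^ i) ^ (p ^ 1) = 1
    rw [pow_one, ← zpow_natCast, ← _root_.zpow_mul, mul_comm, _root_.zpow_mul, zpow_natCast,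
      show a ^ p = 1 from Subtype.ext (by rw [Subgroup.coe_pow]; exact pow_char_eq_one_of_isUni p hu),
      _root_.one_zpow]
  obtain ⟨U, hU⟩ := hz.exists_le_sylow
  obtain ⟨h, hh⟩ := MulAction.exists_smul_eq H U T
  refine ⟨h, ?_⟩
  rw [part_cen_eq_Qs hv hv1]
  have hm : h * a * h⁻¹ ∈ ((h • U : Sylow p H) : Subgroup H) :=
    ⟨a, hU (Subgroup.mem_zpowers a), rfl⟩
  rw [hh] at hm
  exact hm

end Finite

end Cfsg.Agent.Linear.Dickson
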