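import Cfsg.Agent.Linear.Dickson.Orders

/-!
Maximal subgroups of PSL_2: torus normalisers and subfield subgroups.
-/

namespace Cfsg.Agent.Linear.Dickson

open Matrix Cfsg.Agent.Linear

theorem exists_pow_mem_center {K : Type*} [Field K] [Fintype K] (g : GL (Fin 2) K) :
    ∃ n, 0 < n ∧ n ≤ Fintype.card K + 1 ∧ g ^ n ∈ Subgroup.center (GL (Fin 2) K) := by
  classical
  set A : Matrix (Fin 2) (Fin 2) K := (g : Matrix (Fin 2) (Fin 2) K) with hA
  have hmem : ∀ X : GL (Fin 2) K, IsScalarTwo (X : Matrix (Fin 2) (Fin 2) K) →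
      X ∈ Subgroup.center (GL (Fin 2) K) := by
    intro X hX
    obtain ⟨c, hc⟩ := isScalarTwo_iff.mp hX
    refine Subgroup.mem_center_iff.mpr fun Y => Units.ext ?_
    simp [hc]
  by_cases hs : IsScalarTwo A
  · exact ⟨1, one_pos, by omega, by rw [pow_one]; exact hmem g hs⟩
  have hco : ∀ i : ℕ, ∃ ab : K × K, A ^ i = ab.1 • (1 : Matrix (Fin 2) (Fin 2) K) + ab.2 • A := fun i => by
    obtain ⟨a, b, h⟩ := exists_of_commute hs ((Commute.refl A).pow_left i)
    exact ⟨(a, b), h⟩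
  choose co hco using hco
  let f : Fin (Fintype.card K + 2) → Option K := fun i =>
    if (co i).2 = 0 then none else some ((co i).1 / (co i).2)
  obtain ⟨i, j, hij, hf⟩ := Fintype.exists_ne_map_eq_of_card_lt f (by simp)
  have key : ∀ i j : Fin (Fintype.card K + 2), (i : ℕ) < j → f i = f j →
      ∃ n, 0 < n ∧ n ≤ Fintype.card K + 1 ∧ g ^ n ∈ Subgroup.center (GL (Fin 2) K) := by
    intro i j hlt he
    refine ⟨(j : ℕ) - i, Nat.sub_pos_of_lt hlt, by omega, hmem _ ?_⟩
    have hne : ∀ n : ℕ, A ^ n ≠ 0 := fun n e => by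
      have h1 := congrArg Matrix.det e
      rw [Matrix.det_pow, Matrix.det_zero] at h1
      exact g.det_ne_zero (eq_zero_of_pow_eq_zero h1)
    obtain ⟨c, hc⟩ : ∃ c : K, A ^ (j : ℕ) = c • A ^ (i : ℕ) := by
      simp only [f] at he
      by_cases hi : (co i).2 = 0
      · rw [if_pos hi] at he
        have hj : (co j).2 = 0 := by
          by_contra hj
          rw [if_neg hj] at he
          exact absurd he (by simp)
        have hi1 : (co i).1 ≠ 0 := fun e => hne i (by rw [hco i, e, hi]; simp)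
        refine ⟨(co j).1 / (co i).1, ?_⟩
        rw [hco i, hco j, hi, hj]
        simp [smul_smul, div_mul_cancel₀ _ hi1]
      · rw [if_neg hi] at he
        have hj : (co j).2 ≠ 0 := fun hj => by
          rw [if_pos hj] at he
          exact absurd he (by simp)
        rw [if_neg hj, Option.some.injEq, div_eq_div_iff hi hj] at he
        refine ⟨(co j).2 / (co i).2, ?_⟩
        rw [hco i, hco j, smul_add, smul_smul, smul_smul, div_mul_cancel₀ _ hi,
          show (co j).2 / (co i).2 * (co i).1 = (co j).1 by field_simp; linear_combination he]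
    have e : A ^ (i : ℕ) * (((g ^ ((j : ℕ) - i) : GL (Fin 2) K)) : Matrix (Fin 2) (Fin 2) K) =
        A ^ (i : ℕ) * (c • (1 : Matrix (Fin 2) (Fin 2) K)) := by
      rw [Units.val_pow_eq_pow_val, ← hA, ← pow_add, Nat.add_sub_cancel' hlt.le, hc, Matrix.mul_smul,
        mul_one]
    have e' : IsUnit (A ^ (i : ℕ)) := by
      rw [hA, ← Units.val_pow_eq_pow_val]
      exact Units.isUnit _
    exact isScalarTwo_iff.mpr ⟨c, e'.mul_left_cancel e⟩
  rcases lt_or_gt_of_ne (fun e : (i : ℕ) = j => hij (Fin.ext e)) with h | h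
  · exact key i j h hf
  · exact key j i h hf.symm

theorem exists_orderOf_le_PGL {K : Type*} [Field K] [Fintype K] (x : Matrix.ProjGenLinGroup (Fin 2) K) :
    orderOf x ≤ Fintype.card K + 1 := by
  obtain ⟨g, rfl⟩ := Matrix.ProjGenLinGroup.mk_surjective x
  obtain ⟨n, hn0, hn, hc⟩ := exists_pow_mem_center g
  refine le_trans (orderOf_le_of_pow_eq_one hn0 ?_) hn
  rw [← map_pow]
  exact Matrix.ProjGenLinGroup.mk_eq_one.mpr hc

/-- An exponent divides another if the corresponding powers minus one nearly do. -/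
theorem dvd_of_pow_sub_one_dvd {p a c : ℕ} (hp : 2 ≤ p) (ha : 0 < a)
    (h : p ^ a - 1 ∣ 2 * (p ^ c - 1)) : a ∣ c := by
  rw [Nat.dvd_iff_mod_eq_zero]
  by_contra hr
  set r := c % a with hrdef
  have hra : r < a := Nat.mod_lt _ ha
  have h1 : p ^ a - 1 ∣ p ^ (a * (c / a)) - 1 := by
    rw [pow_mul]
    exact Nat.sub_one_dvd_pow_sub_one _ _
  have hc : p ^ c = p ^ r * p ^ (a * (c / a)) := by rw [← pow_add, hrdef, Nat.mod_add_div]
  have p1 : 1 ≤ p ^ (a * (c / a)) := Nat.one_le_pow _ _ (by omega)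
  have p2 : 2 ≤ p ^ r := le_trans hp (Nat.le_self_pow hr p)
  have e : 2 * (p ^ c - 1) = 2 * p ^ r * (p ^ (a * (c / a)) - 1) + 2 * (p ^ r - 1) := by
    obtain ⟨A, hA⟩ : ∃ A, p ^ (a * (c / a)) = A + 1 := ⟨_, (Nat.sub_add_cancel p1).symm⟩
    obtain ⟨R, hR⟩ : ∃ R, p ^ r = R + 1 := ⟨_, (Nat.sub_add_cancel (le_trans one_le_two p2)).symm⟩
    rw [hc, hA, hR, Nat.add_sub_cancel, Nat.add_sub_cancel,
      show (R + 1) * (A + 1) = (R + 1) * A + R + 1 by ring, Nat.add_sub_cancel]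
    ring
  rw [e] at h
  have h2 := (Nat.dvd_add_right (h1.mul_left (2 * p ^ r))).mp h
  have h3 := Nat.le_of_dvd (by omega) h2
  have h4 : 2 * p ^ r ≤ p ^ a := by
    calc 2 * p ^ r ≤ p * p ^ r := Nat.mul_le_mul_right _ hp
      _ = p ^ (r + 1) := by rw [pow_succ']
      _ ≤ p ^ a := Nat.pow_le_pow_right (by omega) hra
  omega

variable {F : Type*} [Field F] [Fintype F]

local notation "M2" => Matrix (Fin 2) (Fin 2) F
local notation "S2" => Matrix.SpecialLinearGroup (Fin 2) F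
local notation "P2" => Matrix.ProjectiveSpecialLinearGroup (Fin 2) F

theorem IsSubfield.eq_top_or_orderOf_le {H : Subgroup P2} (h : IsSubfield H) :
    H = ⊤ ∨ ∃ v m : ℕ, 2 ≤ v ∧ 2 ≤ m ∧ v ^ m = Fintype.card F ∧ Nat.card H ≤ v * (v ^ 2 - 1) ∧
      ∀ x ∈ H, orderOf x ≤ v + 1 := by
  by_cases htop : H = ⊤
  · exact Or.inl htop
  right
  obtain ⟨v', m', hv', hm', hvm', hle'⟩ := h.eq_top_of_card.resolve_left htop
  obtain ⟨K, iK, iK', ι, g, w, hK⟩ := h
  obtain ⟨m, hm1, hm⟩ := IsSubfield.exists_pow_eq rfl ι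
  have hle : ∀ x ∈ H, orderOf x ≤ Fintype.card K + 1 := by
    intro x hx
    rcases hK with rfl | ⟨lam, ν, h1, h2, rfl⟩
    · obtain ⟨e⟩ := nonempty_pslSub_equiv ι w
      obtain ⟨y, hy, rfl⟩ := hx
      rw [orderOf_injective _ (MulAut.conj g).injective, ← Subgroup.orderOf_mk y hy, ← e.orderOf_eq,
        ← orderOf_injective _ (Matrix.ProjectiveSpecialLinearGroup.toPGL_injective (n := Fin 2) (R := K))]
      exact exists_orderOf_le_PGL _
    · obtain ⟨e⟩ := nonempty_pglSub_equiv ι w h1 h2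
      obtain ⟨y, hy, rfl⟩ := hx
      rw [orderOf_injective _ (MulAut.conj g).injective, ← Subgroup.orderOf_mk y hy, ← e.orderOf_eq]
      exact exists_orderOf_le_PGL _
  have hcard : Nat.card H ≤ Fintype.card K * (Fintype.card K ^ 2 - 1) := by
    rcases hK with rfl | ⟨lam, ν, h1, h2, rfl⟩
    · rw [card_map_conj, ← card_pslSub_mul ι w]
      exact Nat.le_mul_of_pos_left _ (Nat.gcd_pos_of_pos_left _ two_pos)
    · rw [card_map_conj, card_pglSub ι w h1 h2]
  refine ⟨Fintype.card K, m, Fintype.one_lt_card, ?_, hm, hcard, hle⟩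
  by_contra hm2
  obtain rfl : m = 1 := by omega
  rw [pow_one] at hm
  refine htop (Subgroup.eq_top_of_card_eq _ (le_antisymm (Subgroup.card_le_card_group H) ?_))
  have hG := card_PSL_two_mul (F := F)
  rw [← hm] at hG
  rcases hK with rfl | ⟨lam, ν, h1, h2, rfl⟩
  · rw [card_map_conj]
    exact (Nat.eq_of_mul_eq_mul_left (Nat.gcd_pos_of_pos_left _ two_pos) ((card_pslSub_mul ι w).trans hG.symm)).ge
  · rw [card_map_conj, card_pglSub ι w h1 h2, ← hG]
    exact Nat.le_mul_of_pos_left _ (Nat.gcd_pos_of_pos_left _ two_pos)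

theorem alt_four_no_dihedral : ∀ x w : alternatingGroup (Fin 4), x ≠ 1 → x ^ 3 = 1 → w ≠ 1 →
    w * w = 1 → w * x * w⁻¹ = x⁻¹ → False := by decide

/-- Torus normalisers are maximal apart from a few small fields. -/
theorem isCoatom_torus {a : P2} (ha : ¬ IsUni a) (h3 : 3 ≤ Nat.card (cen a)) (h2' : Fintype.card F ≠ 2)
    (h7 : Fintype.card F ≠ 7) (h9 : Fintype.card F ≠ 9)
    (h11 : Nat.card (cen a) = (Fintype.card F - 1) / Nat.gcd 2 (Fintype.card F - 1) → Fintype.card F ≠ 11) :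
    IsCoatom (Subgroup.normalizer ((cen a) : Set P2)) := by
  classical
  obtain ⟨p, hchar⟩ := CharP.exists F
  have : Fact p.Prime := ⟨CharP.char_is_prime F p⟩
  obtain ⟨w, hwN, hwc, hw2, hinv⟩ := exists_torus_inverter ha
  have hNcard := (torus_normalizer_props ha).1
  set N := Subgroup.normalizer ((cen a) : Set P2) with hN
  set k := Nat.card (cen a) with hk
  set q := Fintype.card F with hq
  have hcyc := isCyclic_cen ha
  obtain ⟨x0, hx0⟩ := IsCyclic.exists_generator (α := cen a)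
  set x : P2 := (x0 : P2) with hxdef
  have hxa : x ∈ cen a := x0.2
  have hxord : orderOf x = k := by
    rw [hxdef, Subgroup.orderOf_coe, orderOf_eq_card_of_forall_mem_zpowers hx0]
  have hx1 : x ≠ 1 := fun e => by rw [e, orderOf_one] at hxord; omega
  have hx2 : x * x ≠ 1 := fun e => by
    have := Nat.le_of_dvd two_pos (hxord ▸ orderOf_dvd_of_pow_eq_one (by rw [sq]; exact e))
    omega
  have hw1 : w ≠ 1 := fun e => hwc (e ▸ (cen a).one_mem)
  have hwx : w * x * w⁻¹ = x⁻¹ := hinv x hxa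
  have hxN : x ∈ N := Subgroup.le_normalizer hxa
  have ha1 := ne_one_of_not_isUni ha
  have hcases := card_cen_cases ha
  rw [← hk, ← hq] at hcases
  have hd0 : 0 < Nat.gcd 2 (q - 1) := Nat.gcd_pos_of_pos_left _ two_pos
  have hd2 : Nat.gcd 2 (q - 1) = 1 ∨ Nat.gcd 2 (q - 1) = 2 :=
    (Nat.dvd_prime Nat.prime_two).mp (Nat.gcd_dvd_left 2 _)
  have hkq : (k = q - 1 ∧ Nat.gcd 2 (q - 1) = 1) ∨ (2 * k = q - 1 ∧ Nat.gcd 2 (q - 1) = 2) ∨
      (k = q + 1 ∧ Nat.gcd 2 (q - 1) = 1) ∨ (2 * k = q + 1 ∧ Nat.gcd 2 (q - 1) = 2) := by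
    have h1 := Nat.mul_div_cancel' (Nat.gcd_dvd_right 2 (q - 1))
    have h2 := Nat.mul_div_cancel' (gcd_dvd_add_one q Fintype.card_pos)
    rcases hcases with e | e <;> rcases hd2 with d | d <;> rw [d] at e h1 h2 ⊢ <;> omega
  have hG := card_PSL_two_mul (F := F)
  rw [← hq] at hG
  refine ⟨fun htop => ?_, fun M hM => ?_⟩
  · -- it is proper
    rw [htop, Subgroup.card_top] at hNcard
    rw [hNcard] at hG
    have h1 : Nat.gcd 2 (q - 1) * (2 * k) ≤ 2 * (q + 1) := by
      rcases hkq with ⟨e, d⟩ | ⟨e, d⟩ | ⟨e, d⟩ | ⟨e, d⟩ <;> rw [d] <;> omega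
    have hq3 : 3 ≤ q := by omega
    have h2 : 2 * (q + 1) < q * (q ^ 2 - 1) := by
      have : q ^ 2 - 1 = (q + 1) * (q - 1) := by simpa using Nat.sq_sub_sq q 1
      rw [this, mul_comm (q + 1), ← mul_assoc]
      refine Nat.mul_lt_mul_of_pos_right ?_ (by omega)
      calc 2 < 3 * 2 := by norm_num
        _ ≤ q * (q - 1) := Nat.mul_le_mul hq3 (by omega)
    omega
  by_contra hMtop
  have hlt : Nat.card N < Nat.card M := by
    refine lt_of_le_of_ne (Subgroup.card_le_of_le hM.le) fun e => hM.ne ?_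
    exact Subgroup.eq_of_le_of_card_ge hM.le e.ge
  have hdvdG := M.card_subgroup_dvd_card
  have hdvdN := Subgroup.card_dvd_of_le hM.le
  have hxM : x ∈ M := hM.le hxN
  have hwM : w ∈ M := hM.le hwN
  rcases shape p M with h | h | ⟨⟨f⟩⟩ | ⟨⟨f⟩⟩ | ⟨⟨f⟩⟩ | h
  · -- Borel subgroups have abelian quotient
    obtain ⟨g, hg⟩ := h
    obtain ⟨χ, hχ⟩ := exists_diagonal_hom (F := F)
    have hm : g * (x⁻¹ * x⁻¹) * g⁻¹ ∈ cen (stdUni : P2) := by
      refine (hχ ⟨_, hg _ (M.mul_mem (M.inv_mem hxM) (M.inv_mem hxM))⟩).mp ?_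
      have e : (⟨_, hg _ (M.mul_mem (M.inv_mem hxM) (M.inv_mem hxM))⟩ : borel F) =
          ⟨_, hg _ hwM⟩ * ⟨_, hg _ hxM⟩ * (⟨_, hg _ hwM⟩ : borel F)⁻¹ * (⟨_, hg _ hxM⟩ : borel F)⁻¹ := by
        refine Subtype.ext ?_
        show g * (x⁻¹ * x⁻¹) * g⁻¹ =
          g * w * g⁻¹ * (g * x * g⁻¹) * (g * w * g⁻¹)⁻¹ * (g * x * g⁻¹)⁻¹
        calc g * (x⁻¹ * x⁻¹) * g⁻¹ = g * ((w * x * w⁻¹) * x⁻¹) * g⁻¹ := by rw [hwx]
          _ = _ := by group
      rw [e, map_mul, map_mul, map_mul, map_inv, map_inv, mul_comm (χ _) (χ _), mul_inv_cancel_right,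
        mul_inv_cancel]
    have hu := (isUni_conj g).mp (isUni_of_mem_cen_stdUni hm)
    have hne : x⁻¹ * x⁻¹ ≠ 1 := by rw [← _root_.mul_inv_rev]; exact inv_ne_one.mpr hx2
    exact ha ((isUni_iff_of_mem_cen ha1 hne ((cen a).mul_mem ((cen a).inv_mem hxa) ((cen a).inv_mem hxa))).mp hu)
  · obtain ⟨b, hb, hMb⟩ := h
    rcases normalizer_cases hb (Subgroup.mem_normalizer_iff.mp (hMb hxM)) with h | ⟨h, -⟩
    · have e1 := cen_eq_of_mem (ne_one_of_not_isUni hb) hx1 h
      have e2 := cen_eq_of_mem ha1 hx1 hxa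
      rw [← e1, e2] at hMb
      exact hM.ne (le_antisymm hM.le hMb)
    · exact hx2 h
  · have hc : Nat.card M = 12 := (Nat.card_congr f.toEquiv).trans card_alt_four
    have h6 : k = 3 := by
      rw [hNcard, hc] at hlt hdvdN
      obtain ⟨j, hj⟩ := hdvdN
      have : j ≠ 1 := by rintro rfl; omega
      rcases Nat.lt_or_ge j 2 with hj2 | hj2
      · interval_cases j <;> omega
      · have : 2 * k * 2 ≤ 12 := (Nat.mul_le_mul_left (2 * k) hj2).trans hj.ge
        omega
    have hx3 : x ^ 3 = 1 := by rw [← h6, ← hxord, pow_orderOf_eq_one]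
    refine alt_four_no_dihedral (f ⟨x, hxM⟩) (f ⟨w, hwM⟩) ?_ ?_ ?_ ?_ ?_
    · exact fun e => hx1 (congrArg Subtype.val (f.injective (e.trans (map_one f).symm)))
    · rw [← map_pow, ← map_one f]; exact congrArg f (Subtype.ext hx3)
    · exact fun e => hw1 (congrArg Subtype.val (f.injective (e.trans (map_one f).symm)))
    · rw [← map_mul, ← map_one f]; exact congrArg f (Subtype.ext hw2)
    · rw [← map_inv, ← map_inv, ← map_mul, ← map_mul]; exact congrArg f (Subtype.ext hwx)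
  · have hc : Nat.card M = 24 := (Nat.card_congr f.toEquiv).trans card_sym_four
    have hperm : ∀ σ : Equiv.Perm (Fin 4), σ ^ 3 = 1 ∨ σ ^ 4 = 1 := by decide +kernel
    have hk4 : k ≤ 4 := by
      rcases hperm (f ⟨x, hxM⟩) with e | e <;> rw [← map_pow, ← map_one f] at e <;>
        have e' := congrArg Subtype.val (f.injective e) <;>
        exact (hxord ▸ orderOf_le_of_pow_eq_one (by norm_num) e').trans (by norm_num)
    rw [hc] at hdvdG
    obtain ⟨j, hj⟩ := hdvdG
    rw [hj] at hG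
    have : q = 4 ∨ q = 5 ∨ q = 2 ∨ q = 3 := by omega
    rcases this with e | e | e | e <;> rw [e] at hG <;> norm_num at hG <;> omega
  · have hc : Nat.card M = 60 := (Nat.card_congr f.toEquiv).trans card_alt_five
    have halt : ∀ σ : alternatingGroup (Fin 5), σ ^ 2 = 1 ∨ σ ^ 3 = 1 ∨ σ ^ 5 = 1 := by decide +kernel
    have hk5 : k ≤ 5 := by
      rcases halt (f ⟨x, hxM⟩) with e | e | e <;> rw [← map_pow, ← map_one f] at e <;>
        have e' := congrArg Subtype.val (f.injective e) <;>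
        exact (hxord ▸ orderOf_le_of_pow_eq_one (by norm_num) e').trans (by norm_num)
    have h60 : Nat.card (Matrix.ProjectiveSpecialLinearGroup (Fin 2) F) ≠ 60 := fun e =>
      hMtop (Subgroup.eq_top_of_card_eq _ (hc.trans e.symm))
    rw [hc] at hdvdG
    obtain ⟨j, hj⟩ := hdvdG
    rw [hj] at hG h60
    have hq' : q = 2 ∨ q = 3 ∨ q = 4 ∨ q = 5 ∨ q = 6 ∨ q = 11 := by
      rcases hkq with h | h | h | h <;> omega
    rcases hq' with e | e | e | e | e | e <;> rw [e] at hG hkq h11 hcases <;> norm_num at hG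
    all_goals first
      | omega
      | (norm_num at h11 hkq; omega)
      | exact absurd (FiniteField.isPrimePow_card F) (by rw [← hq, e]; decide)
  · obtain ⟨v, m, hv, hm, hvm, hMle, hord⟩ := h.eq_top_or_orderOf_le.resolve_left hMtop
    have hk' : k ≤ v + 1 := hxord ▸ hord x hxM
    have hv2 : v ^ 2 ≤ q := (Nat.pow_le_pow_right (by omega) hm).trans hvm.le
    have hv3 : v ≤ 3 := by
      by_contra h
      have : 4 * v ≤ v ^ 2 := by rw [sq]; exact Nat.mul_le_mul_right v (by omega)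
      omega
    obtain rfl | rfl : v = 2 ∨ v = 3 := by omega
    · rw [show (2 : ℕ) * (2 ^ 2 - 1) = 6 from rfl] at hMle
      omega
    · have hq27 : q = 9 ∨ 27 ≤ q := by
        rcases Nat.lt_or_ge m 3 with h | h
        · left; rw [hq, ← hvm, show m = 2 by omega]; norm_num
        · right; exact le_trans (by norm_num) (hvm ▸ Nat.pow_le_pow_right (by norm_num) h)
      omega

end Cfsg.Agent.Linear.Dickson
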