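import Cfsg.Agent.Linear.Dickson.MaxSmall
import Cfsg.Agent.S0806

/-!
More maximality criteria in PSL_2.
-/

namespace Cfsg.Agent.Linear.Dickson

open Matrix Cfsg.Agent.Linear

variable {F : Type*} [Field F] [Fintype F]

local notation "P2" => Matrix.ProjectiveSpecialLinearGroup (Fin 2) F

theorem isCoatom_map_conj {H : Subgroup P2} (h : IsCoatom H) (g : P2) :
    IsCoatom (H.map (MulAut.conj g).toMonoidHom) :=
  ((MulAut.conj g).mapSubgroup.isCoatom_iff H).mpr h

theorem isCoatom_borel (h4 : 4 ≤ Fintype.card F) (hq : Fintype.card F ∉ ({7, 9, 11} : Finset ℕ)) :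
    IsCoatom (borel F) := by
  have hB : InBorel (borel F) := ⟨1, fun x hx => by simpa using hx⟩
  refine ⟨ne_top_of_isSolvable h4 hB.isSolvable, fun N hN => ?_⟩
  by_contra htop
  have hidx := index_borel (F := F)
  have hlt : N.index < Fintype.card F + 1 := by
    rw [← hidx, ← Subgroup.relIndex_mul_index hN.le]
    have h1 : (borel F).relIndex N ≠ 1 := fun e => hN.not_ge (Subgroup.relIndex_eq_one.mp e)
    have h0 : (borel F).relIndex N ≠ 0 := fun e => by
      rw [← Subgroup.relIndex_mul_index hN.le, e, zero_mul] at hidx; omega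
    have hN0 : 0 < N.index := Nat.pos_of_ne_zero Subgroup.index_ne_zero_of_finite
    calc N.index = 1 * N.index := (one_mul _).symm
      _ < (borel F).relIndex N * N.index := Nat.mul_lt_mul_of_pos_right (by omega) hN0
  by_cases h5 : Fintype.card F = 5
  · -- a group of order sixty has no subgroup of index below five
    rw [h5] at hlt
    have hG := card_PSL_two_mul (F := F)
    rw [h5, show Nat.gcd 2 (5 - 1) = 2 from rfl, show 5 * (5 ^ 2 - 1) = 120 from rfl] at hG
    have := isSimpleGroup_PSL_fin (F := F) le_rfl fun _ => by rw [Nat.card_eq_fintype_card]; omega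
    rcases N.normalCore_normal.eq_bot_or_eq_top with hc | hc
    · let f := MulAction.toPermHom P2 (P2 ⧸ N)
      have hf : Function.Injective f := by
        rw [← MonoidHom.ker_eq_bot_iff, ← Subgroup.normalCore_eq_ker, hc]
      have hd := Nat.card_le_card_of_injective f hf
      rw [Nat.card_perm, show Nat.card (P2 ⧸ N) = N.index from (Subgroup.index_eq_card N).symm] at hd
      have h0 : 2 ∣ N.index ∨ N.index ≤ 5 := Or.inr (by omega)
      rcases (show N.index ≤ 4 ∨ N.index = 5 by omega) with e | e
      · have := Nat.factorial_le e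
        rw [show Nat.factorial 4 = 24 from rfl] at this
        omega
      · -- index five would give a subgroup of order twelve over one of order ten
        have h1 := N.card_mul_index
        have h2 := Subgroup.card_dvd_of_le hN.le
        have h3 := (borel F).card_mul_index
        rw [hidx, h5] at h3
        rw [e] at h1
        have h60 : Nat.card P2 = 60 := by omega
        rw [show Nat.card (borel F) = 10 by omega, show Nat.card N = 12 by omega] at h2
        norm_num at h2
    · exact htop (top_le_iff.mp (hc ▸ N.normalCore_le))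
  · refine absurd ((S0806.result (F := F) rfl ?_).1 N htop) (by omega)
    simp only [Finset.mem_insert, Finset.mem_singleton, not_or] at hq ⊢
    omega

/-- Tetrahedral subgroups over prime fields. -/
theorem isCoatom_altFour (p : ℕ) [Fact p.Prime] (hF : Fintype.card F = p) (h5 : 5 ≤ p)
    (h8 : p % 8 = 3 ∨ p % 8 = 5) (h10 : p % 10 ≠ 1 ∧ p % 10 ≠ 9) {H : Subgroup P2}
    (e : H ≃* alternatingGroup (Fin 4)) : IsCoatom H := by
  have hp' := (Fact.out : p.Prime)
  have hodd : Odd (Fintype.card F) := by rw [hF, Nat.odd_iff]; omega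
  obtain ⟨p', hchar⟩ := CharP.exists F
  have : Fact p'.Prime := ⟨CharP.char_is_prime F p'⟩
  have hH : Nat.card H = 12 := (Nat.card_congr e.toEquiv).trans card_alt_four
  have h60 := sixty_le_card (F := F) (by omega)
  refine ⟨fun htop => ?_, fun M hM => ?_⟩
  · rw [htop, Subgroup.card_top] at hH
    omega
  · by_contra hMtop
    obtain ⟨hB, hT⟩ := not_small_of_altFour hodd hM.le e.symm.toMonoidHom e.symm.injective
    have hlt : 12 < Nat.card M := hH ▸ lt_of_le_of_ne (Subgroup.card_le_of_le hM.le)
      fun e' => hM.ne (Subgroup.eq_of_le_of_card_ge hM.le e'.ge)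
    rcases shape p' M with hs | hs | ⟨⟨g⟩⟩ | ⟨⟨g⟩⟩ | ⟨⟨g⟩⟩ | hs
    · exact absurd hs hB
    · exact absurd hs hT
    · rw [(Nat.card_congr g.toEquiv).trans card_alt_four] at hlt; omega
    · have h16 := S0803.main.mp ⟨M, ⟨g⟩⟩
      rw [hF, Nat.pow_mod] at h16
      rcases (show p % 16 = 3 ∨ p % 16 = 5 ∨ p % 16 = 11 ∨ p % 16 = 13 by omega) with e | e | e | e <;>
        rw [e] at h16 <;> omega
    · have hd := dvd_of_altFive g
      rw [hF] at hd
      rcases Nat.prime_five.dvd_mul.mp hd with hd | hd
      · have hp5 : p = 5 := ((Nat.prime_dvd_prime_iff_eq Nat.prime_five hp').mp hd).symm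
        refine hMtop (Subgroup.eq_top_of_card_eq _ ?_)
        have hG := card_PSL_two_mul (F := F)
        rw [hF, hp5, show Nat.gcd 2 (5 - 1) = 2 from rfl, show 5 * (5 ^ 2 - 1) = 120 from rfl] at hG
        rw [(Nat.card_congr g.toEquiv).trans card_alt_five]
        omega
      · have h2 : p ^ 2 % 5 = 0 ∨ p ^ 2 % 5 = 4 := by
          rw [Nat.pow_mod]
          rcases (show p % 5 = 0 ∨ p % 5 = 2 ∨ p % 5 = 3 by omega) with e | e | e <;> rw [e] <;> norm_num
        have := Nat.one_le_pow 2 p hp'.pos
        omega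
    · exact hMtop (hs.eq_top_of_prime_card (hF ▸ hp'))

theorem isCoatom_pslSub_scaled {K : Type*} [Field K] [Fintype K] (j : K →+* F) (w : Fˣ)
    (hK : 3 ≤ Fintype.card K) {r : ℕ} (hr : r.Prime) (ho : Odd r)
    (hq : Fintype.card K ^ r = Fintype.card F) : IsCoatom (pslSub j w) := by
  refine ⟨pslSub_ne_top hr.two_le hq (card_pslSub_le j w), fun M hM => ?_⟩
  rcases pslSub_overgroup j w hK hr hq hM.le with h | ⟨-, h⟩ | ⟨h, -, -⟩
  · exact h
  · exact absurd (Subgroup.eq_of_le_of_card_ge hM.le (h ho).le) hM.ne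
  · rw [h] at ho
    exact absurd ho (by decide)

end Cfsg.Agent.Linear.Dickson
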