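import Cfsg.Agent.Linear.TwoClasses

/-!
The partition of PSL_2 into maximal tori and unipotent subgroups.
-/

namespace Cfsg.Agent.Linear.Dickson

open Matrix Cfsg.Agent.Linear

variable {F : Type*} [Field F]

local notation "M2" => Matrix (Fin 2) (Fin 2) F
local notation "S2" => Matrix.SpecialLinearGroup (Fin 2) F
local notation "P2" => Matrix.ProjectiveSpecialLinearGroup (Fin 2) F

/-- The projection from SL_2 to PSL_2. -/
abbrev proj : S2 →* P2 := QuotientGroup.mk' (Subgroup.center S2)

theorem proj_surjective : Function.Surjective (proj (F := F)) := QuotientGroup.mk'_surjective _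

theorem proj_eq_one_iff {x : S2} : proj x = 1 ↔ IsScalarTwo (x : M2) := by
  rw [isScalarTwo_SL_iff, ← mem_center_SL_two]
  exact QuotientGroup.eq_one_iff x

theorem proj_eq_iff {x y : S2} : proj x = proj y ↔ y = x ∨ y = -x := by
  rw [show proj x = proj y ↔ ∃ z ∈ Subgroup.center S2, x * z = y from
    QuotientGroup.mk'_eq_mk' (Subgroup.center S2)]
  constructor
  · rintro ⟨z, hz, rfl⟩
    rcases mem_center_SL_two.mp hz with rfl | rfl <;> simp
  · rintro (rfl | rfl)
    · exact ⟨1, one_mem _, mul_one _⟩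
    · exact ⟨-1, mem_center_SL_two.mpr (Or.inr rfl), by simp⟩

theorem proj_neg (x : S2) : proj (-x) = proj x := proj_eq_iff.mpr (Or.inr (neg_neg x).symm)

theorem centralizer_neg (x : S2) :
    Subgroup.centralizer ({-x} : Set S2) = Subgroup.centralizer {x} := by
  ext y
  rw [Subgroup.mem_centralizer_singleton_iff, Subgroup.mem_centralizer_singleton_iff, mul_neg,
    neg_mul, neg_inj]

/-- The member of the partition containing a given element (the image of a centraliser in SL_2). -/
noncomputable def cen (x : P2) : Subgroup P2 :=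
  (Subgroup.centralizer ({Function.surjInv proj_surjective x} : Set S2)).map proj

theorem cen_proj (x : S2) : cen (proj x) = (Subgroup.centralizer ({x} : Set S2)).map proj := by
  have h := Function.surjInv_eq proj_surjective (proj x)
  rw [cen]
  rcases proj_eq_iff.mp h.symm with e | e <;> rw [e]
  rw [centralizer_neg]

theorem mem_map_centralizer {x y : S2} :
    proj y ∈ (Subgroup.centralizer ({x} : Set S2)).map proj ↔ y ∈ Subgroup.centralizer ({x} : Set S2) := by
  constructor
  · rintro ⟨z, hz, hzy⟩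
    rcases proj_eq_iff.mp hzy with rfl | rfl
    · exact hz
    · rw [SetLike.mem_coe, Subgroup.mem_centralizer_singleton_iff] at hz
      rw [Subgroup.mem_centralizer_singleton_iff, neg_mul, mul_neg, hz]
  · exact Subgroup.mem_map_of_mem proj

theorem mem_cen_proj {x y : S2} : proj y ∈ cen (proj x) ↔ y ∈ Subgroup.centralizer ({x} : Set S2) := by
  rw [cen_proj, mem_map_centralizer]

theorem mem_cen_self (x : P2) : x ∈ cen x := by
  obtain ⟨x, rfl⟩ := proj_surjective x
  rw [mem_cen_proj, Subgroup.mem_centralizer_singleton_iff]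

theorem cen_eq_of_mem {x y : P2} (hx : x ≠ 1) (hy : y ≠ 1) (h : y ∈ cen x) : cen y = cen x := by
  obtain ⟨x, rfl⟩ := proj_surjective x
  obtain ⟨y, rfl⟩ := proj_surjective y
  rw [cen_proj, cen_proj, centralizer_eq_of_mem (fun h => hx (proj_eq_one_iff.mpr h))
    (mem_cen_proj.mp h) (fun h => hy (proj_eq_one_iff.mpr h))]

theorem mem_cen_conj (g x y : P2) : g * y * g⁻¹ ∈ cen (g * x * g⁻¹) ↔ y ∈ cen x := by
  obtain ⟨g, rfl⟩ := proj_surjective g
  obtain ⟨x, rfl⟩ := proj_surjective x
  obtain ⟨y, rfl⟩ := proj_surjective y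
  rw [← map_inv, ← map_mul, ← map_mul, ← map_mul, ← map_mul, mem_cen_proj, mem_cen_proj,
    Subgroup.mem_centralizer_singleton_iff, Subgroup.mem_centralizer_singleton_iff]
  have : ∀ u v : S2, (g * u * g⁻¹) * (g * v * g⁻¹) = g * (u * v) * g⁻¹ := fun u v => by group
  rw [this, this, mul_left_inj, mul_right_inj]

theorem cen_comm {x a b : P2} (hx : x ≠ 1) (ha : a ∈ cen x) (hb : b ∈ cen x) : a * b = b * a := by
  obtain ⟨x, rfl⟩ := proj_surjective x
  obtain ⟨a, rfl⟩ := proj_surjective a
  obtain ⟨b, rfl⟩ := proj_surjective b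
  rw [← map_mul, ← map_mul, centralizer_comm (fun h => hx (proj_eq_one_iff.mpr h))
    (mem_cen_proj.mp ha) (mem_cen_proj.mp hb)]

/-- x is of unipotent type: the image of ± a unipotent element. -/
def IsUni (x : P2) : Prop := ∃ y : S2, proj y = x ∧ (y : M2).trace ^ 2 = 4

theorem isUni_proj {y : S2} : IsUni (proj y) ↔ (y : M2).trace ^ 2 = 4 := by
  refine ⟨fun ⟨z, hz, ht⟩ => ?_, fun h => ⟨y, rfl, h⟩⟩
  rcases proj_eq_iff.mp hz with e | e <;> subst e
  · exact ht
  · simpa using ht

theorem isUni_conj (g : P2) {x : P2} : IsUni (g * x * g⁻¹) ↔ IsUni x := by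
  obtain ⟨g, rfl⟩ := proj_surjective g
  obtain ⟨x, rfl⟩ := proj_surjective x
  rw [← map_inv, ← map_mul, ← map_mul, isUni_proj, isUni_proj, trace_conj]

theorem isUni_iff_of_mem_cen {x y : P2} (hx : x ≠ 1) (hy : y ≠ 1) (h : y ∈ cen x) :
    IsUni y ↔ IsUni x := by
  obtain ⟨x, rfl⟩ := proj_surjective x
  obtain ⟨y, rfl⟩ := proj_surjective y
  obtain ⟨a, b, hab⟩ := (mem_centralizer_SL_two fun hs => hx (proj_eq_one_iff.mpr hs)).mp
    (mem_cen_proj.mp h)
  have hd : (y : M2).det = 1 := y.2
  rw [hab, det_smul_add_smul, x.2, mul_one] at hd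
  have hb : b ≠ 0 := fun hb => hy (proj_eq_one_iff.mpr (isScalarTwo_iff.mpr ⟨a, by rw [hab, hb]; simp⟩))
  rw [isUni_proj, isUni_proj, hab, trace_smul_add_smul]
  constructor
  · intro e
    have : b ^ 2 * ((x : M2).trace ^ 2 - 4) = 0 := by linear_combination e - 4 * hd
    exact sub_eq_zero.mp ((mul_eq_zero.mp this).resolve_left (pow_ne_zero 2 hb))
  · intro e
    linear_combination 4 * hd + b ^ 2 * e

theorem pow_char_eq_one_of_isUni (p : ℕ) [Fact p.Prime] [CharP F p] {x : P2} (hx : IsUni x) :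
    x ^ p = 1 := by
  obtain ⟨y, rfl, ht⟩ := hx
  rw [← map_pow, proj_eq_one_iff, isScalarTwo_SL_iff]
  have : (y : M2).trace ^ 2 = 2 ^ 2 := by rw [ht]; norm_num
  rcases eq_or_eq_neg_of_sq_eq_sq _ _ this with h | h
  · exact Or.inl ((pow_char_eq_one_iff p y).mpr h)
  · rw [pow_char_eq_neg_one p h]
    exact neg_one_pow_eq_or S2 p

variable [Fintype F]

theorem card_center_mul_card_map {C : Subgroup S2} (hC : Subgroup.center S2 ≤ C) :
    Nat.card (Subgroup.center S2) * Nat.card (C.map proj) = Nat.card C := by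
  let f : C →* P2 := proj.comp C.subtype
  have hr : f.range = C.map proj := by
    rw [MonoidHom.range_comp, Subgroup.range_subtype]
  have hk : f.ker = (Subgroup.center S2).subgroupOf C := by
    ext z
    rw [MonoidHom.mem_ker, Subgroup.mem_subgroupOf]
    exact QuotientGroup.eq_one_iff (z : S2)
  rw [← Subgroup.card_mul_index f.ker, Subgroup.index_ker, hr, hk,
    Nat.card_congr (Subgroup.subgroupOfEquivOfLe hC).toEquiv]

theorem card_center_two : Nat.card (Subgroup.center S2) = Nat.card {c : F // c ^ 2 = 1} := by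
  obtain ⟨f, hp, hf⟩ := FiniteField.card F (ringChar F)
  rw [card_center_SL, Fintype.card_fin]
  by_cases h2 : (2 : F) = 0
  · rw [card_sq_eq_one_char_two h2]
    have hchar : CharP F 2 := CharTwo.of_one_ne_zero_of_two_eq_zero one_ne_zero h2
    have heven : 2 ∣ Fintype.card F := by
      rw [hf, ringChar.eq F 2]
      exact dvd_pow_self 2 f.ne_zero
    have hq := Fintype.one_lt_card (α := F)
    refine (Nat.prime_two.coprime_iff_not_dvd.mpr fun h => ?_).gcd_eq_one
    omega
  · rw [card_sq_eq_one_of_two_ne_zero h2]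
    refine Nat.gcd_eq_left ?_
    have hchar : ringChar F ≠ 2 := fun h => by
      have : CharP F 2 := h ▸ ringChar.charP F
      exact h2 CharTwo.two_eq_zero
    have := FiniteField.odd_card_of_char_ne_two hchar
    obtain ⟨k, hk⟩ := Nat.odd_iff.mpr this
    omega

theorem card_center_two_dvd : Nat.card (Subgroup.center S2) = Nat.gcd 2 (Fintype.card F - 1) := by
  rw [card_center_SL, Fintype.card_fin]

theorem center_le_centralizer (x : S2) : Subgroup.center S2 ≤ Subgroup.centralizer ({x} : Set S2) := by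
  intro z hz
  rw [Subgroup.mem_centralizer_singleton_iff]
  exact (Subgroup.mem_center_iff.mp hz x).symm

theorem card_cen_of_isUni {x : P2} (hx : x ≠ 1) (h : IsUni x) : Nat.card (cen x) = Fintype.card F := by
  obtain ⟨y, rfl, ht⟩ := h
  have hns : ¬ IsScalarTwo (y : M2) := fun hs => hx (proj_eq_one_iff.mpr hs)
  have hc : Nat.card (Subgroup.centralizer ({y} : Set S2))
      = Nat.card {c : F // c ^ 2 = 1} * Fintype.card F := by
    have : (y : M2).trace ^ 2 = 2 ^ 2 := by rw [ht]; norm_num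
    rcases eq_or_eq_neg_of_sq_eq_sq _ _ this with h | h
    · exact card_centralizer_unipotent hns h
    · rw [← centralizer_neg y]
      exact card_centralizer_unipotent (fun hs => hns (by simpa [IsScalarTwo] using hs)) (by simp [h])
  have := card_center_mul_card_map (center_le_centralizer y)
  rw [← cen_proj, hc, ← card_center_two] at this
  exact Nat.eq_of_mul_eq_mul_left Nat.card_pos this

section Torus

variable {x : Matrix.ProjectiveSpecialLinearGroup (Fin 2) F}

theorem ne_one_of_not_isUni (h : ¬ IsUni x) : x ≠ 1 := by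
  rintro rfl
  exact h ⟨1, map_one _, by simp [Matrix.trace_fin_two]; norm_num⟩

theorem isCyclic_cen (h : ¬ IsUni x) : IsCyclic (cen x) := by
  obtain ⟨y, rfl⟩ := proj_surjective x
  rw [isUni_proj] at h
  have := isCyclic_centralizer h
  rw [cen_proj]
  exact isCyclic_of_surjective _ (proj.subgroupMap_surjective (Subgroup.centralizer ({y} : Set S2)))

theorem card_cen_torus (h : ¬ IsUni x) :
    Nat.card (Subgroup.center S2) * Nat.card (cen x) = Fintype.card F - 1 ∨
      Nat.card (Subgroup.center S2) * Nat.card (cen x) = Fintype.card F + 1 := by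
  obtain ⟨y, rfl⟩ := proj_surjective x
  rw [isUni_proj] at h
  rw [cen_proj, card_center_mul_card_map (center_le_centralizer y)]
  exact card_centralizer_cases h

theorem card_cen_dvd (h : ¬ IsUni x) :
    Nat.card (cen x) ∣ (Fintype.card F - 1) / Nat.gcd 2 (Fintype.card F - 1) ∨
      Nat.card (cen x) ∣ (Fintype.card F + 1) / Nat.gcd 2 (Fintype.card F - 1) := by
  rw [← card_center_two_dvd]
  rcases card_cen_torus h with e | e
  · left
    rw [← e, Nat.mul_div_cancel_left _ Nat.card_pos]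
  · right
    rw [← e, Nat.mul_div_cancel_left _ Nat.card_pos]

theorem coprime_card_cen (p : ℕ) [Fact p.Prime] [CharP F p] (h : ¬ IsUni x) :
    ¬ p ∣ Nat.card (cen x) := by
  intro hp
  obtain ⟨f, hp', hf⟩ := FiniteField.card F p
  have h1 : p ∣ Fintype.card F := hf ▸ dvd_pow_self p f.ne_zero
  rcases card_cen_torus h with e | e
  · have h2 := Nat.dvd_sub h1 (e ▸ hp.mul_left _)
    rw [Nat.sub_sub_self Fintype.card_pos] at h2
    exact hp'.not_dvd_one h2
  · exact hp'.not_dvd_one ((Nat.dvd_add_right h1).mp (e ▸ hp.mul_left _))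

/-- An element normalising a torus either lies in it, or is an involution inverting it. -/
theorem normalizer_cases (h : ¬ IsUni x) {g : P2}
    (hg : ∀ y, y ∈ cen x ↔ g * y * g⁻¹ ∈ cen x) :
    g ∈ cen x ∨ (g * g = 1 ∧ ∀ y ∈ cen x, g * y * g⁻¹ = y⁻¹) := by
  obtain ⟨z, rfl⟩ := proj_surjective x
  obtain ⟨g, rfl⟩ := proj_surjective g
  rw [isUni_proj] at h
  have hN : g ∈ Subgroup.normalizer ((Subgroup.centralizer ({z} : Set S2)) : Set S2) := by
    rw [Subgroup.mem_normalizer_iff]
    intro y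
    have := hg (proj y)
    rwa [← map_inv, ← map_mul, ← map_mul, mem_cen_proj, mem_cen_proj] at this
  rcases (mem_normalizer_centralizer_iff h).mp hN with e | e
  · left
    rw [mem_cen_proj, Subgroup.mem_centralizer_singleton_iff, ← mul_inv_eq_iff_eq_mul, e]
  · right
    refine ⟨by rw [← map_mul, inverter_sq h e, proj_neg, map_one], fun y hy => ?_⟩
    obtain ⟨y, rfl⟩ := proj_surjective y
    rw [← map_inv, ← map_inv, ← map_mul, ← map_mul, inverter_inverts h e (mem_cen_proj.mp hy)]

/-- The product of two elements inverting a torus lies in it. -/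
theorem inverter_mul_mem (h : ¬ IsUni x) {g k : P2}
    (hg : ∀ y, y ∈ cen x ↔ g * y * g⁻¹ ∈ cen x) (hk : ∀ y, y ∈ cen x ↔ k * y * k⁻¹ ∈ cen x)
    (hgc : g ∉ cen x) (hkc : k ∉ cen x) : g * k ∈ cen x := by
  obtain ⟨z, rfl⟩ := proj_surjective x
  rw [isUni_proj] at h
  obtain ⟨g', rfl⟩ := proj_surjective g
  obtain ⟨k', rfl⟩ := proj_surjective k
  have inv : ∀ w : S2, (∀ y, y ∈ cen (proj z) ↔ proj w * y * (proj w)⁻¹ ∈ cen (proj z)) →
      proj w ∉ cen (proj z) → w * z * w⁻¹ = z⁻¹ := by
    intro w hw hwc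
    have hN : w ∈ Subgroup.normalizer ((Subgroup.centralizer ({z} : Set S2)) : Set S2) := by
      rw [Subgroup.mem_normalizer_iff]
      intro y
      have := hw (proj y)
      rwa [← map_inv, ← map_mul, ← map_mul, mem_cen_proj, mem_cen_proj] at this
    refine ((mem_normalizer_centralizer_iff h).mp hN).resolve_left fun e => hwc ?_
    rw [mem_cen_proj, Subgroup.mem_centralizer_singleton_iff, ← mul_inv_eq_iff_eq_mul, e]
  have e1 := inv g' hg hgc
  have e2 := inv k' hk hkc
  rw [← map_mul, mem_cen_proj, Subgroup.mem_centralizer_singleton_iff, ← mul_inv_eq_iff_eq_mul]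
  calc g' * k' * z * (g' * k')⁻¹ = g' * (k' * z * k'⁻¹) * g'⁻¹ := by group
    _ = (g' * z * g'⁻¹)⁻¹ := by rw [e2]; group
    _ = z := by rw [e1, inv_inv]

end Torus

section Borel

/-- The standard unipotent element of PSL_2. -/
noncomputable def stdUni : P2 := proj (upSL 1)

theorem stdUni_ne_one : (stdUni : P2) ≠ 1 := fun h =>
  not_isScalarTwo_upSL one_ne_zero (proj_eq_one_iff.mp h)

theorem isUni_stdUni : IsUni (stdUni : P2) :=
  isUni_proj.mpr (by rw [trace_upSL]; norm_num)

theorem mem_cen_stdUni {y : S2} :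
    proj y ∈ cen (stdUni : P2) ↔ (y : M2) 1 0 = 0 ∧ (y : M2) 0 0 = (y : M2) 1 1 := by
  rw [stdUni, mem_cen_proj, mem_centralizer_SL_two (not_isScalarTwo_upSL one_ne_zero)]
  constructor
  · rintro ⟨a, b, hab⟩
    rw [hab]
    simp [upSL_coe]
  · rintro ⟨h10, h00⟩
    refine ⟨(y : M2) 0 0 - (y : M2) 0 1, (y : M2) 0 1, ?_⟩
    apply ext_two <;> simp [upSL_coe, h10, h00]

/-- Every element of unipotent type is conjugate into the standard one's class member. -/
theorem exists_conj_stdUni {x : P2} (hx : x ≠ 1) (h : IsUni x) :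
    ∃ g : P2, g * x * g⁻¹ ∈ cen (stdUni : P2) := by
  obtain ⟨y, rfl, ht⟩ := h
  have hns : ¬ IsScalarTwo (y : M2) := fun hs => hx (proj_eq_one_iff.mpr hs)
  have key : ∀ z : S2, ¬ IsScalarTwo (z : M2) → (z : M2).trace = 2 →
      ∃ g : P2, g * proj z * g⁻¹ ∈ cen (stdUni : P2) := by
    intro z hz hzt
    obtain ⟨b, hb, hbz⟩ := exists_conj_upSL hz hzt
    obtain ⟨c, hc⟩ := isConj_iff.mp hbz.symm
    refine ⟨proj c, ?_⟩
    rw [← map_inv, ← map_mul, ← map_mul, hc, mem_cen_stdUni]
    simp [upSL_coe]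
  have : (y : M2).trace ^ 2 = 2 ^ 2 := by rw [ht]; norm_num
  rcases eq_or_eq_neg_of_sq_eq_sq _ _ this with h | h
  · exact key y hns h
  · rw [← proj_neg y]
    exact key (-y) (fun hs => hns (by simpa [IsScalarTwo] using hs)) (by simp [h])

/-- The standard Borel subgroup of PSL_2. -/
def borel (F : Type*) [Field F] : Subgroup (Matrix.ProjectiveSpecialLinearGroup (Fin 2) F) :=
  ((Cfsg.upperTriangularGL 2 F).comap Matrix.SpecialLinearGroup.toGL).map proj

theorem mem_borel_proj {y : S2} : proj y ∈ borel F ↔ (y : M2) 1 0 = 0 := by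
  constructor
  · rintro ⟨z, hz, hzy⟩
    have hz' : (z : M2) 1 0 = 0 := mem_upperTriangularGL_two.mp hz
    rcases proj_eq_iff.mp hzy with e | e <;> subst e <;> simp [hz']
  · intro h
    exact ⟨y, mem_upperTriangularGL_two.mpr h, rfl⟩

theorem cen_stdUni_le_borel : cen (stdUni : P2) ≤ borel F := by
  intro y hy
  obtain ⟨y, rfl⟩ := proj_surjective y
  exact mem_borel_proj.mpr (mem_cen_stdUni.mp hy).1

/-- Elements normalising the standard unipotent subgroup lie in the Borel subgroup. -/
theorem mem_borel_of_conj {g u : P2} (hu : u ∈ cen (stdUni : P2)) (hu1 : u ≠ 1)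
    (h : g * u * g⁻¹ ∈ cen (stdUni : P2)) : g ∈ borel F := by
  obtain ⟨g, rfl⟩ := proj_surjective g
  obtain ⟨u, rfl⟩ := proj_surjective u
  rw [← map_inv, ← map_mul, ← map_mul, mem_cen_stdUni] at h
  obtain ⟨u10, u00⟩ := mem_cen_stdUni.mp hu
  have u01 : (u : M2) 0 1 ≠ 0 := fun e => hu1 (proj_eq_one_iff.mpr ⟨e, u10, u00⟩)
  rw [mem_borel_proj]
  have e : (g : M2) * (u : M2) = ((g * u * g⁻¹ : S2) : M2) * (g : M2) := by
    rw [← Matrix.SpecialLinearGroup.coe_mul, ← Matrix.SpecialLinearGroup.coe_mul, inv_mul_cancel_right]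
  have hs : ((g * u * g⁻¹ : S2) : M2) 1 1 = (u : M2) 1 1 := by
    have ht := trace_conj u g
    rw [Matrix.trace_fin_two, Matrix.trace_fin_two, h.2, u00] at ht
    by_cases h2 : (2 : F) = 0
    · have d1 := SL_det_two (g * u * g⁻¹)
      have d2 := SL_det_two u
      rw [h.1, h.2, mul_zero, sub_zero] at d1
      rw [u10, u00, mul_zero, sub_zero] at d2
      have : (((g * u * g⁻¹ : S2) : M2) 1 1 - (u : M2) 1 1) ^ 2 = 0 := by
        linear_combination d1 - d2 - (((g * u * g⁻¹ : S2) : M2) 1 1 - (u : M2) 1 1) * (u : M2) 1 1 * h2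
      exact sub_eq_zero.mp (eq_zero_of_pow_eq_zero this)
    · apply mul_left_cancel₀ h2
      linear_combination ht
  have e11 := congrFun (congrFun e 1) 1
  simp only [mul_two_apply, h.1, hs] at e11
  have : (g : M2) 1 0 * (u : M2) 0 1 = 0 := by linear_combination e11
  exact (mul_eq_zero.mp this).resolve_right u01

theorem cen_le_borel {x : P2} (hx : x ≠ 1) (hB : x ∈ borel F) : cen x ≤ borel F := by
  intro y hy
  obtain ⟨x, rfl⟩ := proj_surjective x
  obtain ⟨y, rfl⟩ := proj_surjective y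
  obtain ⟨a, b, hab⟩ := (mem_centralizer_SL_two fun hs => hx (proj_eq_one_iff.mpr hs)).mp
    (mem_cen_proj.mp hy)
  rw [mem_borel_proj, hab]
  simp [mem_borel_proj.mp hB]

theorem exists_diagonal_hom : ∃ χ : borel F →* Fˣ, ∀ b : borel F, χ b = 1 ↔ (b : P2) ∈ cen (stdUni : P2) := by
  classical
  have h0 : ∀ y : S2, (y : M2) 1 0 = 0 → (y : M2) 0 0 * (y : M2) 1 1 = 1 := fun y hy => by
    have := SL_det_two y
    rwa [hy, mul_zero, sub_zero] at this
  have hex : ∀ b : borel F, ∃ y : S2, proj y = (b : P2) ∧ (y : M2) 1 0 = 0 := fun b => by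
    obtain ⟨y, hy, e⟩ := b.2
    exact ⟨y, e, mem_upperTriangularGL_two.mp hy⟩
  choose lift hl1 hl2 using hex
  have hne : ∀ b : borel F, ((lift b : S2) : M2) 0 0 ≠ 0 := fun b e => by
    have := h0 _ (hl2 b)
    rw [e, zero_mul] at this
    exact zero_ne_one this
  have key : ∀ (b : borel F) (y : S2), proj y = (b : P2) →
      (y : M2) 0 0 ^ 2 = ((lift b : S2) : M2) 0 0 ^ 2 := by
    intro b y hy
    rcases proj_eq_iff.mp (hy.trans (hl1 b).symm) with e | e <;> rw [e] <;> simp
  let χ : borel F →* Fˣ :=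
    { toFun := fun b => Units.mk0 (((lift b : S2) : M2) 0 0 ^ 2) (pow_ne_zero 2 (hne b))
      map_one' := Units.ext (by rw [Units.val_mk0, ← key 1 1 (map_one proj)]; simp)
      map_mul' := fun a b => Units.ext (by
        rw [Units.val_mk0, ← key (a * b) (lift a * lift b) (by rw [map_mul, hl1, hl1]; rfl)]
        simp [SL_mul_entries, hl2, mul_pow]) }
  refine ⟨χ, fun b => ?_⟩
  have hd := h0 _ (hl2 b)
  conv_rhs => rw [← hl1 b, mem_cen_stdUni]
  rw [show χ b = Units.mk0 (((lift b : S2) : M2) 0 0 ^ 2) (pow_ne_zero 2 (hne b)) from rfl]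
  rw [Units.ext_iff, Units.val_mk0, Units.val_one]
  refine ⟨fun h => ⟨hl2 b, mul_left_cancel₀ (hne b) ?_⟩, fun h => ?_⟩
  · rw [← sq, h, hd]
  · rw [sq]
    nth_rewrite 2 [h.2]
    exact hd

end Borel

end Cfsg.Agent.Linear.Dickson
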