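import Cfsg.Agent.Linear.Dickson.Icosa
import Cfsg.Agent.H77.MaximalIndex

/-!
Maximal subgroups of PSL_2 isomorphic to the tetrahedral, octahedral and icosahedral groups.
-/

namespace Cfsg.Agent.Linear.Dickson

open Matrix Cfsg.Agent.Linear

variable {F : Type*} [Field F] [Fintype F]

local notation "P2" => Matrix.ProjectiveSpecialLinearGroup (Fin 2) F

theorem not_isSolvable_altFive : ¬ Group.IsSolvable (alternatingGroup (Fin 5)) := fun hs => by
  have : IsSimpleGroup (alternatingGroup (Fin 5)) := alternatingGroup.isSimpleGroup (by simp)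
  have := IsSimpleGroup.comm_iff_isSolvable.mpr hs H66.x5 H66.y5
  revert this
  decide

theorem isSolvable_of_le {H M : Subgroup P2} (h : H ≤ M) (hM : Group.IsSolvable M) : Group.IsSolvable H :=
  Group.isSolvable_of_isSolvable_injective (f := Subgroup.inclusion h) (Subgroup.inclusion_injective h)

/-- Four-groups centralising no element of order three, as in the alternating group of degree four,
do not lie in Borel subgroups or torus normalisers of odd characteristic. -/
theorem not_small_of_altFour (hodd : Odd (Fintype.card F)) {H M : Subgroup P2} (h : H ≤ M)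
    (f : alternatingGroup (Fin 4) →* H) (hf : Function.Injective f) : ¬ InBorel M ∧ ¬ InTorus M := by
  classical
  obtain ⟨p, hchar⟩ := CharP.exists F
  have : Fact p.Prime := ⟨CharP.char_is_prime F p⟩
  have key : ∃ x y : alternatingGroup (Fin 4), x ^ 3 = 1 ∧ y ^ 3 = 1 ∧ x * y ≠ y * x ∧
      (x * y * x⁻¹ * y⁻¹) ^ 2 = 1 ∧ x * y * x⁻¹ * y⁻¹ ≠ 1 := by decide +kernel
  obtain ⟨x, y, hx, hy, hne, hc2, hc1⟩ := key
  let ψ : alternatingGroup (Fin 4) →* P2 := H.subtype.comp f
  have hψ : Function.Injective ψ := H.subtype_injective.comp hf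
  have hM : ∀ z, ψ z ∈ M := fun z => h (f z).2
  refine ⟨fun ⟨g, hg⟩ => ?_, fun ⟨a, ha, hN⟩ => ?_⟩
  · -- the commutator would be a unipotent involution
    obtain ⟨χ, hχ⟩ := exists_diagonal_hom (F := F)
    let η : alternatingGroup (Fin 4) →* borel F :=
      { toFun := fun z => ⟨g * ψ z * g⁻¹, hg _ (hM z)⟩
        map_one' := Subtype.ext (by simp)
        map_mul' := fun z z' => Subtype.ext (by simp [mul_assoc]) }
    have hm := (hχ (η (x * y * x⁻¹ * y⁻¹))).mp (by
      simp only [map_mul, map_inv]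
      rw [mul_comm (χ (η x)) (χ (η y)), mul_inv_cancel_right, mul_inv_cancel])
    have hu := pow_char_eq_one_of_isUni p ((isUni_conj g).mp (isUni_of_mem_cen_stdUni hm))
    have hp2 : p ≠ 2 := fun e => by
      obtain ⟨f, -, hf⟩ := FiniteField.card F p
      rw [hf, e] at hodd
      exact absurd hodd (Nat.not_odd_iff_even.mpr (Nat.even_pow.mpr ⟨even_two, f.ne_zero⟩))
    obtain ⟨j, hj⟩ := (Fact.out : p.Prime).odd_of_ne_two hp2
    refine hc1 (hψ ?_)
    rw [map_one, ← hu, hj, pow_succ, pow_mul, ← map_pow, hc2, map_one, one_pow, one_mul]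
  · -- elements of order three lie in the torus
    have hin : ∀ z : alternatingGroup (Fin 4), z ^ 3 = 1 → ψ z ∈ cen a := fun z hz => by
      rcases normalizer_cases ha (Subgroup.mem_normalizer_iff.mp (hN (hM z))) with hc | ⟨hc, -⟩
      · exact hc
      · have h3 : ψ z ^ 3 = 1 := by rw [← map_pow, hz, map_one]
        rw [pow_succ, sq, hc, one_mul] at h3
        rw [h3]
        exact (cen a).one_mem
    exact hne (hψ (by rw [map_mul, map_mul]; exact cen_comm (ne_one_of_not_isUni ha) (hin x hx) (hin y hy)))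

theorem exists_perm_four_embedding {H : Subgroup P2} (e : H ≃* Equiv.Perm (Fin 4)) :
    ∃ f : alternatingGroup (Fin 4) →* H, Function.Injective f :=
  ⟨e.symm.toMonoidHom.comp (alternatingGroup (Fin 4)).subtype,
    e.symm.injective.comp Subtype.val_injective⟩

theorem IsSubfield.eq_top_of_prime_card {H : Subgroup P2} (h : IsSubfield H)
    (hq : (Fintype.card F).Prime) : H = ⊤ := by
  refine h.eq_top_of_card.resolve_right ?_
  rintro ⟨v, m, hv, hm, hvm, -⟩
  exact Nat.Prime.not_prime_pow (x := v) (n := m) hm (hvm ▸ hq)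

/-- Icosahedral subgroups in the prime field, or in the quadratic field over one without them. -/
theorem isCoatom_altFive (p : ℕ) [Fact p.Prime] [CharP F p]
    (h : (Fintype.card F = p ∧ 7 ≤ p) ∨ (Fintype.card F = p ^ 2 ∧ 3 ≤ p ∧ ¬ 5 ∣ p * (p ^ 2 - 1)))
    {H : Subgroup P2} (e : H ≃* alternatingGroup (Fin 5)) : IsCoatom H := by
  have hH : Nat.card H = 60 := (Nat.card_congr e.toEquiv).trans card_alt_five
  have hq7 : 7 ≤ Fintype.card F := by
    rcases h with ⟨h, h7⟩ | ⟨h, h3, -⟩
    · omega
    · rw [h]; exact le_trans (by norm_num) (Nat.pow_le_pow_left h3 2)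
  refine ⟨fun htop => ?_, fun M hM => ?_⟩
  · have hG := card_PSL_two_mul (F := F)
    rw [← Subgroup.card_top (G := P2), ← htop, hH] at hG
    have h1 : 7 * 48 ≤ Fintype.card F * (Fintype.card F ^ 2 - 1) :=
      Nat.mul_le_mul hq7 (Nat.le_sub_one_of_lt (lt_of_lt_of_le (by norm_num) (Nat.pow_le_pow_left hq7 2)))
    have h2 : Nat.gcd 2 (Fintype.card F - 1) * 60 ≤ 120 :=
      Nat.mul_le_mul_right 60 (Nat.le_of_dvd two_pos (Nat.gcd_dvd_left 2 _))
    omega
  · have hns : ¬ Group.IsSolvable M := fun hs => by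
      have := isSolvable_of_le hM.le hs
      exact not_isSolvable_altFive (Group.isSolvable_of_surjective (f := e.toMonoidHom) e.surjective)
    have hdvd := Subgroup.card_dvd_of_le hM.le
    have hlt : 60 < Nat.card M := hH ▸ lt_of_le_of_ne (Subgroup.card_le_of_le hM.le)
      fun e' => hM.ne (Subgroup.eq_of_le_of_card_ge hM.le e'.ge)
    rcases shape p M with hs | hs | ⟨⟨f⟩⟩ | ⟨⟨f⟩⟩ | ⟨⟨f⟩⟩ | hs
    · exact absurd hs.isSolvable hns
    · exact absurd hs.isSolvable hns
    · rw [(Nat.card_congr f.toEquiv).trans card_alt_four] at hlt; omega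
    · rw [(Nat.card_congr f.toEquiv).trans card_sym_four] at hlt; omega
    · rw [(Nat.card_congr f.toEquiv).trans card_alt_five] at hlt; omega
    · rcases h with ⟨hq, -⟩ | ⟨hq, -, h5⟩
      · exact hs.eq_top_of_prime_card (hq ▸ Fact.out)
      · by_contra htop
        obtain ⟨v, m, hv, hm1, hvm, hMc⟩ := hs.exists_card
        obtain ⟨v', m', hv', hm', hvm', hle⟩ := hs.eq_top_of_card.resolve_left htop
        have hp := (Fact.out : p.Prime)
        have hvp : v = p ∨ (v = p ^ 2 ∧ m = 1) := by
          obtain ⟨b, hb, rfl⟩ := (Nat.dvd_prime_pow hp).mp (hq ▸ hvm ▸ dvd_pow_self v (by omega))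
          have := Nat.pow_right_injective hp.two_le (show p ^ (b * m) = p ^ 2 by rw [pow_mul, hvm, hq])
          rcases (show b = 0 ∨ b = 1 ∨ b = 2 by omega) with rfl | rfl | rfl
          · simp at hv
            exact absurd hv not_isPrimePow_one
          · left; rw [pow_one]
          · right; exact ⟨rfl, by omega⟩
        have h5M : 5 ∣ Nat.card M := (show 5 ∣ 60 by norm_num).trans (hH ▸ hdvd)
        rcases hvp with rfl | ⟨rfl, rfl⟩
        · refine h5 ?_
          rcases hMc with e | ⟨e, -⟩
          · exact e ▸ dvd_mul_of_dvd_right h5M _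
          · exact e ▸ h5M
        · -- then the subgroup is everything
          refine htop (Subgroup.eq_top_of_card_eq _ (le_antisymm (Subgroup.card_le_card_group M) ?_))
          have hG := card_PSL_two_mul (F := F)
          rw [hq] at hG
          rcases hMc with e | ⟨e, -⟩
          · exact (Nat.eq_of_mul_eq_mul_left (Nat.gcd_pos_of_pos_left _ two_pos) (e.trans hG.symm)).ge
          · rw [e, ← hG]
            exact Nat.le_mul_of_pos_left _ (Nat.gcd_pos_of_pos_left _ two_pos)

theorem five_dvd_card (h : 5 ∣ Fintype.card F * (Fintype.card F ^ 2 - 1)) : 5 ∣ Nat.card P2 := by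
  rw [← card_PSL_two_mul] at h
  refine ((Nat.prime_five.dvd_mul.mp h).resolve_left fun h5 => ?_)
  have := Nat.le_of_dvd (Nat.gcd_pos_of_pos_left _ two_pos) h5
  have := Nat.le_of_dvd two_pos (Nat.gcd_dvd_left 2 (Fintype.card F - 1))
  omega

theorem exists_altFive (h : 5 ∣ Fintype.card F * (Fintype.card F ^ 2 - 1)) :
    ∃ H : Subgroup P2, Nonempty (H ≃* alternatingGroup (Fin 5)) := by
  obtain ⟨p, hchar⟩ := CharP.exists F
  have : Fact p.Prime := ⟨CharP.char_is_prime F p⟩
  have : Fact (Nat.Prime 5) := ⟨Nat.prime_five⟩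
  obtain ⟨x, hx⟩ := exists_prime_orderOf_dvd_card' (G := P2) 5 (five_dvd_card h)
  obtain ⟨r, hr⟩ := exists_root_of_order_five hx
  exact exists_altFive_of_root p hr

theorem dvd_of_altFive {H : Subgroup P2} (e : H ≃* alternatingGroup (Fin 5)) :
    5 ∣ Fintype.card F * (Fintype.card F ^ 2 - 1) := by
  rw [← card_PSL_two_mul]
  refine dvd_mul_of_dvd_right ((show 5 ∣ 60 by norm_num).trans ?_) _
  rw [← card_alt_five, ← Nat.card_congr e.toEquiv]
  exact H.card_subgroup_dvd_card

end Cfsg.Agent.Linear.Dickson
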