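import Cfsg.Agent.Linear.Dickson.PGLCopy

/-!
Classification of the maximal subgroups of PGL_2(q) not containing PSL_2(q), q odd.
-/

namespace Cfsg.Agent.Linear.Dickson

open Matrix Cfsg.Agent.Linear

theorem altFour_mem_of_involution {G : Type*} [Group G] {H : Subgroup G} (e : H ≃* alternatingGroup (Fin 4))
    {N : Subgroup G} (h3 : ∀ x : H, x ^ 3 = 1 → (x : G) ∈ N) : H ≤ N := by
  obtain ⟨hy, hxy⟩ : genAlt.2 ^ 3 = 1 ∧ (genAlt.1 * genAlt.2) ^ 3 = 1 := by decide
  intro h hh
  have hs : ∀ a : alternatingGroup (Fin 4), a ^ 3 = 1 → (e.symm a : G) ∈ N := fun a ha =>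
    h3 _ (by rw [← map_pow, ha, map_one])
  have htop := closure_genAlt (N := N.comap (H.subtype.comp e.symm.toMonoidHom))
    (by
      have := N.mul_mem (hs _ hxy) (N.inv_mem (hs _ hy))
      rw [← Subgroup.coe_inv, ← Subgroup.coe_mul, ← map_inv, ← map_mul, mul_inv_cancel_right] at this
      exact this)
    (hs _ hy)
  have h' : e ⟨h, hh⟩ ∈ N.comap (H.subtype.comp e.symm.toMonoidHom) := htop ▸ Subgroup.mem_top _
  simpa using h'

theorem symFour_klein_le_alt : ∀ σ : Equiv.Perm (Fin 4), σ * σ = 1 →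
    (∀ τ, τ * σ * τ⁻¹ * σ = σ * (τ * σ * τ⁻¹)) → Equiv.Perm.sign σ = 1 := by decide +kernel

section InF

variable {F : Type*} [Field F] [Fintype F]

local notation "PF" => Matrix.ProjectiveSpecialLinearGroup (Fin 2) F

theorem isUni_of_pow_char (p : ℕ) [Fact p.Prime] [CharP F p] {x : PF} (h : x ^ p = 1) : IsUni x := by
  by_contra hu
  have h1 : orderOf x ∣ p := orderOf_dvd_of_pow_eq_one h
  have hne := ne_one_of_not_isUni hu
  have he : orderOf x = p :=
    ((Nat.dvd_prime (Fact.out : p.Prime)).mp h1).resolve_left fun e => hne (orderOf_eq_one_iff.mp e)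
  exact coprime_card_cen p hu (he ▸ Subgroup.orderOf_mk x (mem_cen_self x) ▸ orderOf_dvd_natCard _)

/-- A subgroup isomorphic to PSL_2 over a field of order a divisor-power of q is a conjugate subfield copy. -/
theorem exists_eq_pslSub (p : ℕ) [Fact p.Prime] [CharP F p] {K : Type} [Field K] [Fintype K]
    [CharP K p] (hodd : Odd (Fintype.card F)) (j : K →+* F) {H : Subgroup PF}
    (e : H ≃* Matrix.ProjectiveSpecialLinearGroup (Fin 2) K) :
    ∃ (K' : Type) (_ : Field K') (_ : Fintype K') (j' : K' →+* F) (g : PF) (w : Fˣ),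
      Fintype.card K' = Fintype.card K ∧ H = (pslSub j' w).map (MulAut.conj g).toMonoidHom := by
  classical
  obtain ⟨m, hm1, hm⟩ := IsSubfield.exists_pow_eq rfl j
  have hKodd : Odd (Fintype.card K) := pow_subfield_odd (by omega) hm hodd
  set v := Fintype.card K with hv
  have hv3 : 3 ≤ v := by
    have : 2 ≤ v := Fintype.one_lt_card
    obtain ⟨i, hi⟩ := hKodd
    omega
  have hgK : Nat.gcd 2 (v - 1) = 2 := Nat.gcd_eq_left (by obtain ⟨i, hi⟩ := hKodd; omega)
  have hH : 2 * Nat.card H = v * (v ^ 2 - 1) := by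
    rw [Nat.card_congr e.toEquiv, ← card_PSL_two_mul, hgK]
  have hp2 : p ≠ 2 := fun h => by
    obtain ⟨n, -, hn⟩ := FiniteField.card F p
    rw [hn, h] at hodd
    exact absurd hodd (Nat.not_odd_iff_even.mpr (Nat.even_pow.mpr ⟨even_two, n.ne_zero⟩))
  -- two elements of order p which do not commute
  set a : PF := (e.symm (proj (upSL (1 : K))) : PF) with ha
  set b : PF := (e.symm (proj (loSL (1 : K))) : PF) with hb
  have hap : a ^ p = 1 := by
    rw [ha, ← Subgroup.coe_pow, ← map_pow, pow_char_eq_one_of_isUni p (isUni_upSL _), map_one, Subgroup.coe_one]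
  have hbp : b ^ p = 1 := by
    rw [hb, ← Subgroup.coe_pow, ← map_pow, pow_char_eq_one_of_isUni p (isUni_loSL _), map_one, Subgroup.coe_one]
  have hab : a * b ≠ b * a := fun h => not_commute_up_lo (one_ne_zero (α := K)) (one_ne_zero (α := K))
    (e.symm.injective (Subtype.ext (by simpa [ha, hb] using h)))
  have hB : ¬ InBorel H := by
    rintro ⟨g, hg⟩
    have m1 := mem_cen_stdUni_of_isUni (hg a (e.symm _).2) ((isUni_conj g).mpr (isUni_of_pow_char p hap))
    have m2 := mem_cen_stdUni_of_isUni (hg b (e.symm _).2) ((isUni_conj g).mpr (isUni_of_pow_char p hbp))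
    have h := cen_comm stdUni_ne_one m1 m2
    exact hab (by simpa [mul_assoc] using congrArg (fun z => g⁻¹ * z * g) h)
  have hT : ¬ InTorus H := by
    rintro ⟨c, hc, hle⟩
    have ha1 : a ≠ 1 := fun h => hab (by rw [h, one_mul, mul_one])
    rcases normalizer_cases hc (Subgroup.mem_normalizer_iff.mp (hle (e.symm _).2 : a ∈ _)) with h | ⟨h, -⟩
    · exact hc ((isUni_iff_of_mem_cen (ne_one_of_not_isUni hc) ha1 h).mp (isUni_of_pow_char p hap))
    · obtain ⟨i, hi⟩ := (Fact.out : p.Prime).odd_of_ne_two hp2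
      rw [hi, pow_succ, pow_mul, sq, h, one_pow, one_mul] at hap
      exact ha1 hap
  have key : ∀ (g : PF) (w : Fˣ), H ≤ (pslSub j w).map (MulAut.conj g).toMonoidHom →
      ∃ (K' : Type) (_ : Field K') (_ : Fintype K') (j' : K' →+* F) (g : PF) (w : Fˣ),
        Fintype.card K' = Fintype.card K ∧ H = (pslSub j' w).map (MulAut.conj g).toMonoidHom := by
    intro g w hle
    refine ⟨K, inferInstance, inferInstance, j, g, w, rfl, Subgroup.eq_of_le_of_card_ge hle ?_⟩
    have h2 := card_pslSub_mul j w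
    rw [← hv, hgK] at h2
    rw [card_map_conj]
    omega
  rcases shape p H with h | h | ⟨⟨f⟩⟩ | ⟨⟨f⟩⟩ | ⟨⟨f⟩⟩ | h
  · exact absurd h hB
  · exact absurd h hT
  · obtain ⟨g, w, hle⟩ := exists_conj_le_pslSub_altFour hodd j f
    exact key g w hle
  · exfalso
    rw [(Nat.card_congr f.toEquiv).trans card_sym_four] at hH
    rcases (show v = 3 ∨ 4 ≤ v by omega) with e3 | e4
    · rw [e3] at hH; norm_num at hH
    · have : 4 * 15 ≤ v * (v ^ 2 - 1) :=
        Nat.mul_le_mul e4 (Nat.le_sub_one_of_lt (lt_of_lt_of_le (by norm_num) (Nat.pow_le_pow_left e4 2)))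
      omega
  · rw [(Nat.card_congr f.toEquiv).trans card_alt_five] at hH
    have hv5 : v = 5 := by
      by_contra hne
      rcases (show v = 3 ∨ v = 4 ∨ 6 ≤ v by omega) with e' | e' | e'
      · rw [e'] at hH; norm_num at hH
      · rw [e'] at hH; norm_num at hH
      · have : 6 * 35 ≤ v * (v ^ 2 - 1) :=
          Nat.mul_le_mul e' (Nat.le_sub_one_of_lt (lt_of_lt_of_le (by norm_num) (Nat.pow_le_pow_left e' 2)))
        omega
    obtain ⟨r, hr⟩ := exists_root_of_five_dvd (F := K) (by rw [← hv, hv5]; norm_num)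
    obtain ⟨g, w, hle⟩ := exists_conj_le_pslSub j hr f
    exact key g w hle
  · obtain ⟨K', iK, iK', j', g, w, h⟩ := h
    obtain ⟨m', hm1', hm'⟩ := IsSubfield.exists_pow_eq rfl j'
    set u := Fintype.card K' with hu
    have huodd : Odd u := pow_subfield_odd (by omega) hm' hodd
    have hgu : Nat.gcd 2 (u - 1) = 2 := Nat.gcd_eq_left (by
      have : 2 ≤ u := Fintype.one_lt_card
      obtain ⟨i, hi⟩ := huodd; omega)
    have hpow : ∀ x : ℕ, ∀ t : ℕ, 1 ≤ t → x ^ t = Fintype.card F → ∃ i, x = p ^ i := fun x t ht hx => by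
      obtain ⟨n, hp, hn⟩ := FiniteField.card F p
      obtain ⟨i, -, hi⟩ := (Nat.dvd_prime_pow hp).mp (hn ▸ hx ▸ dvd_pow_self x (by omega : t ≠ 0))
      exact ⟨i, hi⟩
    have hcmp : v = u ∨ 2 * v ≤ u ∨ 2 * u ≤ v := by
      obtain ⟨i, hi⟩ := hpow v m hm1 hm
      obtain ⟨i', hi'⟩ := hpow u m' hm1' hm'
      rcases Nat.lt_trichotomy i i' with hlt | rfl | hlt
      · right; left
        rw [hi, hi']
        calc 2 * p ^ i ≤ p * p ^ i := Nat.mul_le_mul_right _ (Fact.out : p.Prime).two_le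
          _ = p ^ (i + 1) := by rw [pow_succ']
          _ ≤ p ^ i' := Nat.pow_le_pow_right (Fact.out : p.Prime).pos hlt
      · left; rw [hi, hi']
      · right; right
        rw [hi, hi']
        calc 2 * p ^ i' ≤ p * p ^ i' := Nat.mul_le_mul_right _ (Fact.out : p.Prime).two_le
          _ = p ^ (i' + 1) := by rw [pow_succ']
          _ ≤ p ^ i := Nat.pow_le_pow_right (Fact.out : p.Prime).pos hlt
    have hu2 : 2 ≤ u := Fintype.one_lt_card
    have hpos : 0 < v * (v ^ 2 - 1) :=
      Nat.mul_pos (by omega) (Nat.sub_pos_of_lt (Nat.one_lt_pow two_ne_zero (by omega)))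
    have hpos' : 0 < u * (u ^ 2 - 1) :=
      Nat.mul_pos (by omega) (Nat.sub_pos_of_lt (Nat.one_lt_pow two_ne_zero (by omega)))
    rcases h with h | ⟨lam, ν, h1, h2, h⟩
    · have hc := card_pslSub_mul j' w
      rw [← hu, hgu, ← card_map_conj (pslSub j' w) g, ← h] at hc
      refine ⟨K', iK, iK', j', g, w, ?_, h⟩
      rcases hcmp with e' | e' | e'
      · exact e'.symm
      · have := two_mul_lt_card (by omega : 2 ≤ v) e'; omega
      · have := two_mul_lt_card hu2 e'; omega
    · exfalso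
      have hc := card_pglSub j' w h1 h2
      rw [← hu, ← card_map_conj (pglSub j' w lam) g, ← h] at hc
      rcases hcmp with e' | e' | e'
      · rw [e'] at hH; omega
      · have := two_mul_lt_card (by omega : 2 ≤ v) e'; omega
      · have := two_mul_lt_card hu2 e'; omega

end InF

variable {F : Type*} [Field F] [Fintype F] {E : Type*} [Field E] [Fintype E] (ι : F →+* E)
  {lam : Eˣ} {ν : Fˣ} (hν : ι (ν : F) = (lam : E) ^ 2)
  (hgen : ∀ δ : Fˣ, δ ∈ Subgroup.zpowers ν) (hodd : Odd (Fintype.card F)) (h5 : 5 ≤ Fintype.card F)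
  (p : ℕ) [Fact p.Prime] [CharP F p] [CharP E p] (hq : Fintype.card F ^ 2 = Fintype.card E)
  {M : Subgroup (Matrix.ProjectiveSpecialLinearGroup (Fin 2) E)}
  (hM : IsMaxIn (pglSub ι 1 lam) (pslSub ι 1) M)

local notation "PF" => Matrix.ProjectiveSpecialLinearGroup (Fin 2) F
local notation "PE" => Matrix.ProjectiveSpecialLinearGroup (Fin 2) E

include hq hodd in
theorem odd_card_ext : Odd (Fintype.card E) ∧ IsSquare (2 : E) := by
  refine ⟨hq ▸ hodd.pow, FiniteField.isSquare_two_iff.mpr ?_⟩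
  rw [← hq, Nat.pow_mod]
  have := Nat.odd_iff.mp hodd
  rcases (show Fintype.card F % 8 = 1 ∨ Fintype.card F % 8 = 3 ∨ Fintype.card F % 8 = 5 ∨ Fintype.card F % 8 = 7 by omega)
    with e | e | e | e <;> rw [e] <;> omega

omit [CharP E p] in
include p hodd in
theorem char_odd : Odd p := by
  refine (Fact.out : p.Prime).odd_of_ne_two fun h => ?_
  obtain ⟨n, -, hn⟩ := FiniteField.card F p
  rw [hn, h] at hodd
  exact absurd hodd (Nat.not_odd_iff_even.mpr (Nat.even_pow.mpr ⟨even_two, n.ne_zero⟩))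

omit [CharP F p] [CharP E p] [Fact p.Prime] in
include hν hgen hodd h5 hq hM in
theorem IsMaxIn.res_torus (h : InTorus M) : PGLRes F p M (M.comap (incl ι)) := by
  classical
  obtain ⟨a, ha, hle⟩ := h
  have hcard := hM.card_eq ι hν hgen hodd
  have h4 := hM.four_lt_card ι hν hgen hodd h5
  set A := (cen a).subgroupOf M with hA
  have := isCyclic_cen ha
  have hAc : IsCyclic A := by
    let f : A →* cen a :=
      { toFun := fun b => ⟨((b : M) : PE), b.2⟩
        map_one' := rfl
        map_mul' := fun _ _ => rfl }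
    exact isCyclic_of_injective f fun b c hbc => Subtype.ext (Subtype.ext (congrArg (fun z : cen a => (z : PE)) hbc))
  have hcases := fun (m : M) => normalizer_cases ha (Subgroup.mem_normalizer_iff.mp (hle m.2))
  obtain ⟨x, hx, hx2⟩ : ∃ x ∈ M, x * x ≠ 1 := by
    by_contra hc
    push Not at hc
    -- then the group has at most four elements
    have hA2 : Nat.card A ≤ 2 := by
      obtain ⟨c, hc'⟩ := IsCyclic.exists_generator (α := A)
      rw [← orderOf_eq_card_of_forall_mem_zpowers hc']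
      exact orderOf_le_of_pow_eq_one two_pos (Subtype.ext (Subtype.ext (by rw [sq]; exact hc _ (c : M).2)))
    have hidx : A.index ≤ 2 := by
      by_cases hAtop : ∀ m : M, m ∈ A
      · rw [(Subgroup.eq_top_iff' A).mpr hAtop, Subgroup.index_top]; norm_num
      push Not at hAtop
      obtain ⟨w, hw⟩ := hAtop
      refine le_of_eq (Subgroup.index_eq_two_iff.mpr ⟨w, fun b => ?_⟩)
      simp only [hA, Subgroup.mem_subgroupOf, Subgroup.coe_mul] at hw ⊢
      by_cases hb : (b : PE) ∈ cen a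
      · refine Or.inr ⟨hb, fun hbg => hw ?_⟩
        simpa using (cen a).mul_mem ((cen a).inv_mem hb) hbg
      · exact Or.inl ⟨inverter_mul_mem ha (Subgroup.mem_normalizer_iff.mp (hle b.2))
          (Subgroup.mem_normalizer_iff.mp (hle w.2)) hb hw, hb⟩
    have := A.card_mul_index
    have := Nat.mul_le_mul hA2 hidx
    omega
  have hxa : x ∈ cen a := (hcases ⟨x, hx⟩).resolve_right fun h => hx2 h.1
  have hx1 : x ≠ 1 := fun h => hx2 (by rw [h, one_mul])
  obtain ⟨z, hz⟩ : x * x ∈ (incl ι).range := range_incl ι ▸ sq_mem_psl ι hν hgen hodd (hM.le hx)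
  have he : cen (incl ι z) = cen a := hz ▸ cen_eq_of_mem (ne_one_of_not_isUni ha) hx2 ((cen a).mul_mem hxa hxa)
  have hz1 : z ≠ 1 := fun h => hx2 (by rw [← hz, h, map_one])
  have hzu : ¬ IsUni z := fun h => ha ((isUni_iff_of_mem_cen (ne_one_of_not_isUni ha) hx2
    ((cen a).mul_mem hxa hxa)).mp (hz ▸ (isUni_incl ι).mpr h))
  have hS : ¬ pslSub ι 1 ≤ Subgroup.normalizer ((cen a) : Set PE) :=
    not_psl_le_of_isSolvable ι h5 (InTorus.isSolvable ⟨a, ha, le_rfl⟩)
  have hM0 : M.comap (incl ι) = Subgroup.normalizer ((cen z) : Set PF) := by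
    rw [hM.comap_eq ι hle hS, ← he, comap_incl_normalizer ι hz1]
  obtain ⟨hN, -⟩ := torus_normalizer_props hzu
  -- an inverting involution
  obtain ⟨w, hwN, hwc, hw2, -⟩ := exists_torus_inverter hzu
  have hwM : incl ι w ∈ M := by
    have : w ∈ M.comap (incl ι) := hM0 ▸ hwN
    exact this
  have hwa : incl ι w ∉ cen a := by rw [← he, mem_cen_incl]; exact hwc
  have hidx : A.index = 2 := by
    rw [Subgroup.index_eq_two_iff]
    refine ⟨⟨_, hwM⟩, fun b => ?_⟩
    simp only [hA, Subgroup.mem_subgroupOf, Subgroup.coe_mul]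
    by_cases hb : (b : PE) ∈ cen a
    · refine Or.inr ⟨hb, fun hbg => hwa ?_⟩
      simpa using (cen a).mul_mem ((cen a).inv_mem hb) hbg
    · exact Or.inl ⟨inverter_mul_mem ha (Subgroup.mem_normalizer_iff.mp (hle b.2))
        (Subgroup.mem_normalizer_iff.mp (hle hwM)) hb hwa, hb⟩
  have hMA : Nat.card M = 2 * Nat.card A := by rw [← A.card_mul_index, hidx, mul_comm]
  rw [hM0, hN] at hcard
  have hAk : Nat.card A = 2 * Nat.card (cen z) := by omega
  obtain ⟨d⟩ := iso_dihedral_of_inverter A hMA (w := ⟨_, hwM⟩) hwa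
    (Subtype.ext (show incl ι w * incl ι w = 1 by rw [← map_mul, hw2, map_one]))
    fun y hy => Subtype.ext (((hcases ⟨_, hwM⟩).resolve_left hwa).2 _ hy)
  rw [hAk] at d
  refine Or.inr (Or.inl ⟨z, hzu, hM0, ⟨d⟩, ?_⟩)
  rintro ⟨hq5, hk⟩
  -- for five elements a four-group normaliser is bigger
  obtain ⟨-, ⟨eD⟩⟩ := torus_normalizer_props hzu
  rw [hk] at eD
  set V0 := Subgroup.normalizer ((cen z) : Set PF) with hV0
  have hV0' : IsKleinFour V0 :=
    ⟨by rw [Nat.card_congr eD.toEquiv]; exact IsKleinFour.card_four,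
      by rw [Monoid.exponent_eq_of_mulEquiv eD]; exact IsKleinFour.exponent_two⟩
  set V := V0.map (incl ι) with hV
  have hVK : IsKleinFour V :=
    let f : V0 ≃* V := V0.equivMapOfInjective _ (incl_injective ι)
    ⟨by rw [← Nat.card_congr f.toEquiv]; exact IsKleinFour.card_four,
      by rw [← Monoid.exponent_eq_of_mulEquiv f]; exact IsKleinFour.exponent_two⟩
  have hVeq : V = pslSub ι 1 ⊓ M := by rw [hV, ← hM0, map_comap_incl]
  have hMV : M ≤ Subgroup.normalizer (V : Set PE) := by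
    intro m hm
    rw [Subgroup.mem_normalizer_iff, hVeq]
    have hm' := hM.le hm
    intro y
    constructor
    · rintro ⟨hy, hyM⟩
      exact ⟨conj_mem_psl ι hν hgen hodd hm' hy, M.mul_mem (M.mul_mem hm hyM) (M.inv_mem hm)⟩
    · rintro ⟨hy, hyM⟩
      have h1 := conj_mem_psl ι hν hgen hodd ((pglSub ι 1 lam).inv_mem hm') hy
      have h2 := M.mul_mem (M.mul_mem (M.inv_mem hm) hyM) hm
      rw [inv_inv] at h1
      simp only [mul_assoc, inv_mul_cancel_left, inv_mul_cancel, mul_one] at h1 h2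
      exact ⟨h1, h2⟩
  obtain ⟨hEodd, hsq⟩ := odd_card_ext hodd hq
  have h24 := (H34.card_normalizer hEodd V).1 hsq
  have hnot : ¬ pslSub ι 1 ≤ Subgroup.normalizer (V : Set PE) := fun h => by
    have h1 := Subgroup.card_le_of_le h
    have h2 := card_pslSub_mul ι (1 : Eˣ)
    rw [hq5, show Nat.gcd 2 (5 - 1) = 2 from rfl, show 5 * (5 ^ 2 - 1) = 120 from rfl] at h2
    omega
  have h12 : Nat.card (Subgroup.normalizer (V0 : Set PF)) = 12 :=
    (H34.card_normalizer hodd V0).2 (by rw [FiniteField.isSquare_two_iff, hq5]; omega)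
  have hle12 : (Subgroup.normalizer (V0 : Set PF)) ≤ M.comap (incl ι) := by
    rw [hM.comap_eq ι hMV hnot]
    intro y hy
    exact Subgroup.le_normalizer_map (incl ι) ⟨y, hy, rfl⟩
  have h4' : Nat.card (M.comap (incl ι)) = 4 := by rw [hM0, hV0'.card_four]
  have := Subgroup.card_le_of_le hle12
  omega

omit [CharP E p] in
include hν hgen hodd h5 hq hM in
theorem IsMaxIn.res_borel (h : InBorel M) : PGLRes F p M (M.comap (incl ι)) := by
  classical
  obtain ⟨g0, hg0⟩ := h
  have hcard := hM.card_eq ι hν hgen hodd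
  have hpE : CharP E p := charP_of_injective_ringHom ι.injective p
  by_cases hu : ∃ u ∈ M, u ≠ 1 ∧ IsUni u
  · obtain ⟨u, huM, hu1, huu⟩ := hu
    obtain ⟨u0, hu0⟩ : u ∈ (incl ι).range := range_incl ι ▸
      mem_psl_of_pow_odd ι hν hgen hodd (hM.le huM) (char_odd hodd p) (pow_char_eq_one_of_isUni p huu)
    obtain ⟨g, hg⟩ := exists_conj_stdUni (x := u0) (fun h => hu1 (by rw [← hu0, h, map_one]))
      ((isUni_incl ι).mp (hu0 ▸ huu))
    have hG : incl ι g * u * (incl ι g)⁻¹ ∈ cen (stdUni : PE) := by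
      rw [← hu0, ← map_inv, ← map_mul, ← map_mul, ← incl_stdUni ι, mem_cen_incl]
      exact hg
    have hbb : g0 * (incl ι g)⁻¹ ∈ borel E := by
      refine mem_borel_of_conj hG (fun h => hu1 (conj_eq_one_iff.mp h)) ?_
      have e : g0 * (incl ι g)⁻¹ * (incl ι g * u * (incl ι g)⁻¹) * (g0 * (incl ι g)⁻¹)⁻¹ = g0 * u * g0⁻¹ := by
        group
      rw [e]
      exact mem_cen_stdUni_of_isUni (hg0 u huM) ((isUni_conj g0).mpr huu)
    set S := (borel E).map (MulAut.conj (incl ι g)⁻¹).toMonoidHom with hSdef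
    have hMS : M ≤ S := fun m hm => by
      rw [hSdef, mem_map_conj, inv_inv]
      have := (borel E).mul_mem ((borel E).mul_mem ((borel E).inv_mem hbb) (hg0 m hm)) hbb
      simpa [mul_assoc] using this
    have hSs : InBorel S := ⟨incl ι g, fun x hx => by simpa using mem_map_conj.mp hx⟩
    have hM0 : M.comap (incl ι) = (borel F).map (MulAut.conj g⁻¹).toMonoidHom := by
      rw [hM.comap_eq ι hMS (not_psl_le_of_isSolvable ι h5 hSs.isSolvable), ← comap_incl_borel ι]
      ext y
      rw [Subgroup.mem_comap, hSdef, mem_map_conj, mem_map_conj, Subgroup.mem_comap, inv_inv, inv_inv,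
        map_mul, map_mul, map_inv]
    refine Or.inl ⟨?_, g⁻¹, hM0⟩
    have hb := card_borel (F := F)
    rw [Nat.gcd_eq_left (by have := Nat.odd_iff.mp hodd; omega : 2 ∣ Fintype.card F - 1)] at hb
    rw [hcard, hM0, card_map_conj, hb]
  · push Not at hu
    refine hM.res_torus ι hν hgen hodd h5 p hq ?_
    obtain ⟨χ, hχ⟩ := exists_diagonal_hom (F := E)
    let f : M →* Eˣ := χ.comp
      { toFun := fun m => ⟨g0 * (m : PE) * g0⁻¹, hg0 m m.2⟩
        map_one' := Subtype.ext (by simp)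
        map_mul' := fun a b => Subtype.ext (by simp [mul_assoc]) }
    have hf : Function.Injective f := by
      rw [← MonoidHom.ker_eq_bot_iff, eq_bot_iff]
      intro m hm
      rw [Subgroup.mem_bot]
      by_contra hne
      refine hu m m.2 (fun h => hne (Subtype.ext h)) ?_
      exact (isUni_conj g0).mp (isUni_of_mem_cen_stdUni ((hχ _).mp hm))
    have := isCyclic_of_injective f hf
    obtain ⟨x, hx⟩ := IsCyclic.exists_generator (α := M)
    have h4 := hM.four_lt_card ι hν hgen hodd h5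
    have hx1 : (x : PE) ≠ 1 := fun h => by
      have := orderOf_eq_card_of_forall_mem_zpowers hx
      rw [OneMemClass.coe_eq_one.mp h, orderOf_one] at this
      omega
    refine ⟨x, hu x x.2 hx1, fun m hm => Subgroup.le_normalizer ?_⟩
    obtain ⟨i, hi⟩ := hx ⟨m, hm⟩
    rw [show m = ((x : PE)) ^ i from (congrArg Subtype.val hi).symm]
    exact Subgroup.zpow_mem _ (mem_cen_self _) i

omit [CharP E p] in
include hν hgen hodd h5 hq hM in
theorem IsMaxIn.res_symFour (f : M ≃* Equiv.Perm (Fin 4)) : PGLRes F p M (M.comap (incl ι)) := by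
  classical
  have hcard := hM.card_eq ι hν hgen hodd
  have h24 : Nat.card M = 24 := (Nat.card_congr f.toEquiv).trans card_sym_four
  obtain ⟨hEodd, hsqE⟩ := odd_card_ext hodd hq
  set A := (alternatingGroup (Fin 4)).map (M.subtype.comp f.symm.toMonoidHom) with hA
  let eA : A ≃* alternatingGroup (Fin 4) :=
    ((alternatingGroup (Fin 4)).equivMapOfInjective _ (M.subtype_injective.comp f.symm.injective)).symm
  have hAM : A ≤ M := by rintro _ ⟨z, -, rfl⟩; exact (f.symm z).2
  have hA0 : A = pslSub ι 1 ⊓ M := by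
    refine Subgroup.eq_of_le_of_card_ge (le_inf (altFour_mem_of_involution eA fun x hx => ?_) hAM) ?_
    · refine mem_psl_of_pow_odd ι hν hgen hodd (hM.le (hAM x.2)) (by decide : Odd 3) ?_
      rw [← Subgroup.coe_pow, hx, Subgroup.coe_one]
    · rw [← map_comap_incl, Subgroup.card_map_of_injective (incl_injective ι),
        Nat.card_congr eA.toEquiv, card_alt_four]
      omega
  set A0 := M.comap (incl ι) with hA0def
  let eA0 : A0 ≃* alternatingGroup (Fin 4) :=
    (A0.equivMapOfInjective _ (incl_injective ι)).trans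
      ((MulEquiv.subgroupCongr ((map_comap_incl ι).trans hA0.symm)).trans eA)
  obtain ⟨V, hV, hVM, hMV⟩ := exists_klein_normal_sym f
  have hVA : V ≤ A := by
    intro v hv
    refine ⟨f ⟨v, hVM hv⟩, ?_, by simp⟩
    have hsq : f ⟨v, hVM hv⟩ * f ⟨v, hVM hv⟩ = 1 := by
      rw [← map_mul, ← map_one f]
      exact congrArg f (Subtype.ext (H34.klein_props V hv hv).1)
    refine Equiv.Perm.mem_alternatingGroup.mpr (symFour_klein_le_alt _ hsq fun τ => ?_)
    have hn' : (f.symm τ : PE) * v * (f.symm τ : PE)⁻¹ ∈ V :=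
      (Subgroup.mem_normalizer_iff.mp (hMV (f.symm τ).2) v).mp hv
    have hc := (H34.klein_props V hn' hv).2
    have : f.symm τ * ⟨v, hVM hv⟩ * (f.symm τ)⁻¹ * ⟨v, hVM hv⟩ =
        ⟨v, hVM hv⟩ * (f.symm τ * ⟨v, hVM hv⟩ * (f.symm τ)⁻¹) := Subtype.ext hc
    simpa using congrArg f this
  have hVP : V ≤ (incl ι).range := range_incl ι ▸ (hA0 ▸ hVA).trans inf_le_left
  set V0 := V.comap (incl ι) with hV0
  have eV : V0.map (incl ι) = V := Subgroup.map_comap_eq_self hVP
  have hV0K : IsKleinFour V0 :=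
    let g : V0 ≃* V := (V0.equivMapOfInjective _ (incl_injective ι)).trans (MulEquiv.subgroupCongr eV)
    ⟨by rw [Nat.card_congr g.toEquiv]; exact IsKleinFour.card_four,
      by rw [Monoid.exponent_eq_of_mulEquiv g]; exact IsKleinFour.exponent_two⟩
  have hMN : M = Subgroup.normalizer (V : Set PE) :=
    Subgroup.eq_of_le_of_card_ge hMV (by rw [(H34.card_normalizer hEodd V).1 hsqE, h24])
  have hnsq : ¬ IsSquare (2 : F) := fun hs => by
    have hle : Subgroup.normalizer (V0 : Set PF) ≤ A0 := fun y hy => by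
      rw [hA0def, Subgroup.mem_comap, hMN, ← eV]
      exact Subgroup.le_normalizer_map (incl ι) ⟨y, hy, rfl⟩
    have := Subgroup.card_le_of_le hle
    rw [(H34.card_normalizer hodd V0).1 hs] at this
    omega
  obtain ⟨n, hp, hn⟩ := FiniteField.card F p
  have hpodd := Nat.odd_iff.mp (char_odd hodd p)
  have hq8 : Fintype.card F % 8 = 3 ∨ Fintype.card F % 8 = 5 := by
    rw [FiniteField.isSquare_two_iff] at hnsq
    omega
  have hp28 : p ^ 2 % 8 = 1 := by
    rw [Nat.pow_mod]
    rcases (show p % 8 = 1 ∨ p % 8 = 3 ∨ p % 8 = 5 ∨ p % 8 = 7 by omega) with e | e | e | e <;> rw [e]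
  obtain ⟨i, hi⟩ : Odd (n : ℕ) := by
    by_contra hne
    obtain ⟨i, hi⟩ := Nat.not_odd_iff_even.mp hne
    rw [hn, hi, ← two_mul, pow_mul, Nat.pow_mod, hp28] at hq8
    simp at hq8
  have hp8 : p % 8 = Fintype.card F % 8 := by
    rw [hn, hi, pow_succ, pow_mul, Nat.mul_mod, Nat.pow_mod, hp28]
    simp
  rcases (show (n : ℕ) = 1 ∨ 2 ≤ (n : ℕ) by have := n.pos; omega) with hn1 | hn2
  · exact Or.inr (Or.inr (Or.inl ⟨by rw [hn, hn1, pow_one], by omega, ⟨f⟩, ⟨eA0⟩⟩))
  obtain ⟨j⟩ := exists_ringHom_zmod (F := F) p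
  have hjq : Fintype.card (ZMod p) ^ (n : ℕ) = Fintype.card F := by rw [ZMod.card, hn]
  obtain ⟨g, w, hle⟩ := exists_conj_le_pslSub_altFour hodd j eA0
  obtain ⟨lam', ν', hν', hgen', hl⟩ := exists_sub_gen ι hν hgen hodd j (r := (n : ℕ)) ⟨i, hi⟩ hjq
  obtain ⟨eP⟩ := nonempty_pslSub_equiv (ι.comp j) (Units.map ι.toMonoidHom w)
  have hPQ := Subgroup.map_mono (f := (MulAut.conj (incl ι g)).toMonoidHom)
    (pslSub_le_pglSub (ι.comp j) (Units.map ι.toMonoidHom w) lam')
  have hKodd : Odd (Fintype.card (ZMod p)) := by rw [ZMod.card]; exact Nat.odd_iff.mpr hpodd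
  have hc2 : Nat.card ((pglSub (ι.comp j) (Units.map ι.toMonoidHom w) lam').map (MulAut.conj (incl ι g)).toMonoidHom) =
      2 * Nat.card ((pslSub (ι.comp j) (Units.map ι.toMonoidHom w)).map (MulAut.conj (incl ι g)).toMonoidHom) := by
    rw [card_map_conj, card_map_conj, card_pglSub _ _ hν' hgen', ← card_pslSub_mul (ι.comp j) (Units.map ι.toMonoidHom w),
      Nat.gcd_eq_left (by rw [ZMod.card]; omega : 2 ∣ Fintype.card (ZMod p) - 1)]
  have hVPj : V ≤ (pslSub (ι.comp j) (Units.map ι.toMonoidHom w)).map (MulAut.conj (incl ι g)).toMonoidHom := by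
    rw [pslSub_copy_le]
    refine le_trans ?_ (Subgroup.map_mono hle)
    rw [hA0def, map_comap_incl, ← hA0]
    exact hVA
  have hMQ := normalizer_klein_le hKodd (by rw [FiniteField.isSquare_two_iff, ZMod.card]; omega) hPQ hc2
    (((pslSub (ι.comp j) (Units.map ι.toMonoidHom w)).equivMapOfInjective _ (MulAut.conj (incl ι g)).injective).symm.trans eP)
    hVPj ((H34.card_normalizer hEodd V).1 hsqE)
  rw [← hMN] at hMQ
  exact hM.res_copy ι hν hgen hodd j hν' hgen' hl p hn2 ⟨i, hi⟩ hjq hMQ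

include hν hgen hodd h5 hq hM in
theorem IsMaxIn.res_subfield (h : IsSubfield M) : PGLRes F p M (M.comap (incl ι)) := by
  classical
  obtain ⟨K, iK, iK', k, g, w, h⟩ := h
  obtain ⟨m, hm1, hm⟩ := IsSubfield.exists_pow_eq rfl k
  have hKp : CharP K p := by
    obtain ⟨c, hc⟩ := CharP.exists K
    exact (CharP.eq E (charP_of_injective_ringHom k.injective c) ‹CharP E p›) ▸ hc
  have hKodd : Odd (Fintype.card K) :=
    pow_subfield_odd (by omega) hm (odd_card_ext hodd hq).1
  have hleM : (pslSub k w).map (MulAut.conj g).toMonoidHom ≤ M := by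
    rcases h with rfl | ⟨lam', ν', -, -, rfl⟩
    · exact le_rfl
    · exact Subgroup.map_mono (pslSub_le_pglSub k w lam')
  have hgenP : (pslSub k w).map (MulAut.conj g).toMonoidHom ≤ pslSub ι 1 := by
    have hconv : ∀ y, y ∈ pslSub k w → IsUni y →
        y ∈ (pslSub ι (1 : Eˣ)).map (MulAut.conj g⁻¹).toMonoidHom := fun y hy hu => by
      rw [mem_map_conj, inv_inv]
      refine mem_psl_of_pow_odd ι hν hgen hodd (hM.le (hleM (conj_mem_map_conj hy))) (char_odd hodd p) ?_
      exact pow_char_eq_one_of_isUni p ((isUni_conj g).mpr hu)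
    have hP : pslSub k w ≤ (pslSub ι (1 : Eˣ)).map (MulAut.conj g⁻¹).toMonoidHom := by
      refine pslSub_le k w (fun c => hconv _ ⟨upSL c, ?_⟩ (isUni_upSL _))
        (fun c => hconv _ ⟨loSL c, ?_⟩ (isUni_loSL _)) <;> refine congrArg proj ?_ <;>
        apply SL_ext_two <;> simp [scHom_coe, scMat, upSL_coe, loSL_coe]
    rintro _ ⟨y, hy, rfl⟩
    simpa using mem_map_conj.mp (hP hy)
  set v := Fintype.card K with hv
  have hv2 : 2 ≤ v := Fintype.one_lt_card
  have hgK : Nat.gcd 2 (v - 1) = 2 := Nat.gcd_eq_left (by obtain ⟨i, hi⟩ := hKodd; omega)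
  rcases h with h | ⟨lam', ν', h1, h2, h⟩
  · exfalso
    obtain ⟨a, ha, haP⟩ := hM.exists_outer ι hν hgen hodd
    exact haP (hgenP (h ▸ ha))
  have hMc : Nat.card M = v * (v ^ 2 - 1) := by rw [h, card_map_conj, card_pglSub k w h1 h2]
  have hcard := hM.card_eq ι hν hgen hodd
  have hP' := card_pslSub_mul k w
  rw [← hv, hgK] at hP'
  have heq : (pslSub k w).map (MulAut.conj g).toMonoidHom = pslSub ι 1 ⊓ M := by
    refine Subgroup.eq_of_le_of_card_ge (le_inf hgenP hleM) ?_
    rw [← map_comap_incl, Subgroup.card_map_of_injective (incl_injective ι), card_map_conj]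
    omega
  set H := M.comap (incl ι) with hH
  obtain ⟨eK⟩ := nonempty_pslSub_equiv k w
  let eH : H ≃* Matrix.ProjectiveSpecialLinearGroup (Fin 2) K :=
    (H.equivMapOfInjective _ (incl_injective ι)).trans
      ((MulEquiv.subgroupCongr ((map_comap_incl ι).trans heq.symm)).trans
        (((pslSub k w).equivMapOfInjective _ (MulAut.conj g).injective).symm.trans eK))
  have hme : Even m := by
    by_contra hme
    exact not_pglSub_of_odd (Nat.not_even_iff_odd.mp hme) hKodd hm hMc
  obtain ⟨r, hr⟩ := hme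
  have hrq : v ^ r = Fintype.card F := by
    refine Nat.pow_left_injective two_ne_zero (show (v ^ r) ^ 2 = Fintype.card F ^ 2 from ?_)
    rw [← pow_mul, hq, ← hm, hr]
    ring_nf
  have hr2 : 2 ≤ r := by
    by_contra hlt
    obtain rfl : r = 1 := by omega
    rw [pow_one] at hrq
    refine hM.ne (Subgroup.eq_of_le_of_card_ge hM.le ?_)
    rw [card_pglSub ι 1 hν hgen, hMc, hrq]
  obtain ⟨j0⟩ := exists_ringHom (F := F) (K := K) (m := r) (by omega) (hv ▸ hrq)
  obtain ⟨K', iK2, iK2', j, g', w', hKK, hHeq⟩ := exists_eq_pslSub p hodd j0 eH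
  rw [← hv] at hKK
  have hjq : Fintype.card K' ^ r = Fintype.card F := by rw [hKK, hrq]
  -- the whole normaliser
  set P' := H.map (incl ι) with hP'def
  set X := Subgroup.normalizer (P' : Set PE) with hX
  have hMX : M ≤ X := by
    intro m hm
    rw [hX, hP'def, hH, map_comap_incl, Subgroup.mem_normalizer_iff]
    have hm' := hM.le hm
    intro y
    constructor
    · rintro ⟨hy, hyM⟩
      exact ⟨conj_mem_psl ι hν hgen hodd hm' hy, M.mul_mem (M.mul_mem hm hyM) (M.inv_mem hm)⟩
    · rintro ⟨hy, hyM⟩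
      have h1 := conj_mem_psl ι hν hgen hodd ((pglSub ι 1 lam).inv_mem hm') hy
      have h2 := M.mul_mem (M.mul_mem (M.inv_mem hm) hyM) hm
      rw [inv_inv] at h1
      simp only [mul_assoc, inv_mul_cancel_left, inv_mul_cancel, mul_one] at h1 h2
      exact ⟨h1, h2⟩
  have hXnot : ¬ pslSub ι 1 ≤ X := by
    intro hle
    have hn : H.Normal := ⟨fun x hx y => by
      have h1 := (Subgroup.mem_normalizer_iff.mp (hle (incl_mem ι y)) (incl ι x)).mp ⟨x, hx, rfl⟩
      rw [← map_inv, ← map_mul, ← map_mul] at h1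
      exact (Subgroup.mem_map_iff_mem (incl_injective ι)).mp h1⟩
    have := isSimpleGroup_PSL_fin (F := F) le_rfl fun _ => by rw [Nat.card_eq_fintype_card]; omega
    have hpos : 0 < v * (v ^ 2 - 1) := Nat.mul_pos (by omega) (Nat.sub_pos_of_lt (Nat.one_lt_pow two_ne_zero hv2))
    have hH2 : 2 * Nat.card H = v * (v ^ 2 - 1) := by rw [← hMc, hcard]
    rcases hn.eq_bot_or_eq_top with e | e
    · rw [e, Subgroup.card_bot] at hH2
      have : 2 * 8 ≤ v * (v ^ 2 - 1) := by
        have h3 : 3 ≤ v := by obtain ⟨i, hi⟩ := hKodd; omega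
        exact Nat.mul_le_mul (by omega) (Nat.le_sub_one_of_lt (lt_of_lt_of_le (by norm_num) (Nat.pow_le_pow_left h3 2)))
      omega
    · rw [e, Subgroup.card_top] at hH2
      have hG := card_PSL_two_mul (F := F)
      rw [Nat.gcd_eq_left (by have := Nat.odd_iff.mp hodd; omega : 2 ∣ Fintype.card F - 1), hH2] at hG
      have := two_mul_lt_card hv2 (hrq ▸ two_mul_le_pow hv2 hr2)
      omega
  rcases Nat.even_or_odd r with hre | hro
  · exfalso
    obtain ⟨c, νc, hc1, hc2⟩ := exists_sqrt_gen j hre (pow_subfield_odd (by omega) hjq hodd) hjq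
    set N0 := (pglSub j w' c).map (MulAut.conj g').toMonoidHom with hN0
    have hHN : H ≤ N0 := hHeq ▸ Subgroup.map_mono (pslSub_le_pglSub j w' c)
    have hN0c : Nat.card N0 = v * (v ^ 2 - 1) := by rw [hN0, card_map_conj, card_pglSub j w' hc1 hc2, hKK]
    have hle : N0 ≤ H := by
      have hidx : (H.subgroupOf N0).index = 2 := by
        have h' := (H.subgroupOf N0).card_mul_index
        rw [Nat.card_congr (Subgroup.subgroupOfEquivOfLe hHN).toEquiv, hN0c, ← hMc, hcard,
          mul_comm 2] at h'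
        exact Nat.eq_of_mul_eq_mul_left Nat.card_pos h'
      have hn := Subgroup.normal_of_index_eq_two hidx
      rw [hH, hM.comap_eq ι hMX hXnot]
      intro y hy
      refine Subgroup.le_normalizer_map (incl ι) ⟨y, ?_, rfl⟩
      exact (Subgroup.normal_subgroupOf_iff_le_normalizer hHN).mp hn hy
    have h' := Subgroup.card_le_of_le hle
    have h0 : 0 < Nat.card H := Nat.card_pos
    omega
  obtain ⟨lamj, νj, hνj, hgenj, hlj⟩ := exists_sub_gen ι hν hgen hodd j hro hjq
  set Q := (pglSub (ι.comp j) (Units.map ι.toMonoidHom w') lamj).map (MulAut.conj (incl ι g')).toMonoidHom with hQ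
  have hQc : Nat.card Q = v * (v ^ 2 - 1) := by rw [hQ, card_map_conj, card_pglSub _ _ hνj hgenj, hKK]
  have hPQ : P' ≤ Q := by
    rw [hP'def, hHeq, ← pslSub_copy_le]
    exact Subgroup.map_mono (pslSub_le_pglSub _ _ lamj)
  have hidx : (P'.subgroupOf Q).index = 2 := by
    have h' := (P'.subgroupOf Q).card_mul_index
    rw [Nat.card_congr (Subgroup.subgroupOfEquivOfLe hPQ).toEquiv, hQc, ← hMc, hcard, hP'def,
      Subgroup.card_map_of_injective (incl_injective ι), mul_comm 2] at h'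
    exact Nat.eq_of_mul_eq_mul_left Nat.card_pos h'
  have hQX : Q ≤ X := (Subgroup.normal_subgroupOf_iff_le_normalizer hPQ).mp (Subgroup.normal_of_index_eq_two hidx)
  have hQM : Q ≤ M := by
    rw [hM.eq_inf ι hMX hXnot]
    exact le_inf hQX (pglSub_copy_le ι j hlj g' w')
  exact hM.res_copy ι hν hgen hodd j hνj hgenj hlj p hr2 hro hjq
    (Subgroup.eq_of_le_of_card_ge hQM (by rw [hQc, hMc])).ge

include hν hgen hodd h5 hq hM in
/-- The classification. -/
theorem IsMaxIn.res : PGLRes F p M (M.comap (incl ι)) := by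
  obtain ⟨a, ha, haP⟩ := hM.exists_outer ι hν hgen hodd
  rcases shape p M with h | h | ⟨⟨f⟩⟩ | ⟨⟨f⟩⟩ | ⟨⟨f⟩⟩ | h
  · exact hM.res_borel ι hν hgen hodd h5 p hq h
  · exact hM.res_torus ι hν hgen hodd h5 p hq h
  · exfalso
    refine haP (altFour_mem_of_involution f (fun x hx => ?_) ha)
    exact mem_psl_of_pow_odd ι hν hgen hodd (hM.le x.2) (by decide : Odd 3)
      (by rw [← Subgroup.coe_pow, hx, Subgroup.coe_one])
  · exact hM.res_symFour ι hν hgen hodd h5 p hq f
  · exfalso
    refine haP (gen_mem_le f (a := H66.x5) (b := H66.y5) (fun N h h' => ?_) ?_ ?_ ha)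
    · rw [eq_top_iff, ← H66.closure_x5_y5, Subgroup.closure_le]
      rintro _ (rfl | rfl) <;> assumption
    · exact mem_psl_of_pow_odd ι hν hgen hodd (hM.le (f.symm _).2) (by decide : Odd 3)
        (by rw [← Subgroup.coe_pow, ← map_pow, H66.x5_pow, map_one, Subgroup.coe_one])
    · exact mem_psl_of_pow_odd ι hν hgen hodd (hM.le (f.symm _).2) (by decide : Odd 5)
        (by rw [← Subgroup.coe_pow, ← map_pow, H66.y5_pow, map_one, Subgroup.coe_one])
  · exact hM.res_subfield ι hν hgen hodd h5 p hq h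

end Cfsg.Agent.Linear.Dickson
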