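import Cfsg.Agent.Linear.Dickson.MaxSmall

/-!
Solubilizers in PSL_2: general lemmas and the semisimple cases.
-/

namespace Cfsg.Agent.Linear.Dickson

open Matrix Cfsg.Agent.Linear

section Group

variable {G : Type*} [Group G]

/-- The elements generating a solvable subgroup together with a given one. -/
def solSet (x : G) : Set G := {y | Group.IsSolvable (Subgroup.closure ({x, y} : Set G))}

theorem closure_pair_le {N : Subgroup G} {x y : G} (hx : x ∈ N) (hy : y ∈ N) :
    Subgroup.closure ({x, y} : Set G) ≤ N :=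
  (Subgroup.closure_le N).mpr (Set.insert_subset hx (Set.singleton_subset_iff.mpr hy))

theorem mem_solSet_of_le {N : Subgroup G} {x y : G} (hN : Group.IsSolvable N) (hx : x ∈ N) (hy : y ∈ N) :
    y ∈ solSet x :=
  solvable_of_solvable_injective (f := Subgroup.inclusion (closure_pair_le hx hy))
    (Subgroup.inclusion_injective _)

theorem mul_mem_solSet_iff {x y : G} : x * y ∈ solSet x ↔ y ∈ solSet x := by
  have h : Subgroup.closure ({x, x * y} : Set G) = Subgroup.closure ({x, y} : Set G) := by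
    refine le_antisymm (closure_pair_le ?_ ?_) (closure_pair_le ?_ ?_)
    · exact Subgroup.subset_closure (Or.inl rfl)
    · exact mul_mem (Subgroup.subset_closure (Or.inl rfl)) (Subgroup.subset_closure (Or.inr rfl))
    · exact Subgroup.subset_closure (Or.inl rfl)
    · have hx : x ∈ Subgroup.closure ({x, x * y} : Set G) := Subgroup.subset_closure (Or.inl rfl)
      have := mul_mem (inv_mem hx) (Subgroup.subset_closure (k := ({x, x * y} : Set G)) (Or.inr rfl))
      rwa [inv_mul_cancel_left] at this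
  show Group.IsSolvable _ ↔ Group.IsSolvable _
  rw [h]

/-- A pair is solvable when an abelian subgroup is normalised by both, and one of them lies in it. -/
theorem mem_solSet_of_abelian_normal [Finite G] {x y : G} {A : Subgroup G}
    (hA : ∀ a ∈ A, ∀ b ∈ A, a * b = b * a) {t : G}
    (hxy : Subgroup.closure ({x, y} : Set G) ≤ A ⊔ Subgroup.zpowers t)
    (ht : t ∈ Subgroup.normalizer (A : Set G)) : y ∈ solSet x := by
  have hAs : Group.IsSolvable A := Group.isSolvable_of_comm fun a b => Subtype.ext (hA a a.2 b b.2)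
  set N := A ⊔ Subgroup.zpowers t with hN
  have hle : N ≤ Subgroup.normalizer (A : Set G) :=
    sup_le Subgroup.le_normalizer (Subgroup.zpowers_le.mpr ht)
  have hn : (A.subgroupOf N).Normal := Subgroup.normal_subgroupOf_of_le_normalizer hle
  let f : Subgroup.zpowers t →* N ⧸ A.subgroupOf N :=
    (QuotientGroup.mk' _).comp (Subgroup.inclusion le_sup_right)
  have hf : Function.Surjective f := by
    intro q
    obtain ⟨⟨n, hn'⟩, rfl⟩ := QuotientGroup.mk'_surjective _ q
    rw [hN, ← SetLike.mem_coe, Subgroup.coe_mul_of_right_le_normalizer_left A _ (Subgroup.zpowers_le.mpr ht)] at hn'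
    obtain ⟨a, ha, z, hz, rfl⟩ := hn'
    refine ⟨⟨z, hz⟩, ?_⟩
    show (QuotientGroup.mk' _ _) = QuotientGroup.mk' _ _
    rw [QuotientGroup.mk'_apply, QuotientGroup.mk'_apply, QuotientGroup.eq, Subgroup.mem_subgroupOf]
    have : z⁻¹ * (a * z) = z⁻¹ * a * (z⁻¹)⁻¹ := by group
    simpa [this] using (Subgroup.mem_normalizer_iff.mp
      ((Subgroup.normalizer (A : Set G)).inv_mem (Subgroup.zpowers_le.mpr ht hz)) a).mp ha
  have hq : Group.IsSolvable (N ⧸ A.subgroupOf N) := by
    have : Group.IsSolvable (Subgroup.zpowers t) := Group.isSolvable_of_comm fun a b => by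
      obtain ⟨a, i, rfl⟩ := a
      obtain ⟨b, j, rfl⟩ := b
      exact Subtype.ext ((Commute.refl t).zpow_zpow i j)
    exact solvable_of_surjective hf
  have hAN : Group.IsSolvable (A.subgroupOf N) :=
    solvable_of_solvable_injective (f := (Subgroup.subgroupOfEquivOfLe le_sup_left).toMonoidHom)
      (by exact (Subgroup.subgroupOfEquivOfLe (H := A) (K := N) le_sup_left).injective)
  have hNs : Group.IsSolvable N :=
    solvable_of_ker_le_range (A.subgroupOf N).subtype (QuotientGroup.mk' (A.subgroupOf N)) (by simp)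
  exact solvable_of_solvable_injective (f := Subgroup.inclusion hxy) (Subgroup.inclusion_injective _)

/-- An involution and an element inverted by it. -/
theorem mem_solSet_of_inverted [Finite G] {x y : G} (hx : x * x = 1) (h : x * y * x⁻¹ = y⁻¹) :
    y ∈ solSet x := by
  refine mem_solSet_of_abelian_normal (A := Subgroup.zpowers y) (t := x) ?_
    (closure_pair_le (Subgroup.mem_sup_right (Subgroup.mem_zpowers x))
      (Subgroup.mem_sup_left (Subgroup.mem_zpowers y))) ?_
  · rintro _ ⟨i, rfl⟩ _ ⟨j, rfl⟩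
    exact (Commute.refl y).zpow_zpow i j
  · have hc : ∀ z ∈ Subgroup.zpowers y, x * z * x⁻¹ ∈ Subgroup.zpowers y := by
      rintro _ ⟨i, rfl⟩
      refine ⟨-i, ?_⟩
      show y ^ (-i) = x * y ^ i * x⁻¹
      rw [← conj_zpow, h, _root_.inv_zpow, _root_.zpow_neg]
    rw [Subgroup.mem_normalizer_iff]
    refine fun z => ⟨hc z, fun hz => ?_⟩
    have := hc _ hz
    rwa [show x * (x * z * x⁻¹) * x⁻¹ = x * x * z * (x * x)⁻¹ by group, hx, one_mul, inv_one,
      mul_one] at this

/-- Two involutions. -/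
theorem mem_solSet_of_sq [Finite G] {x y : G} (hx : x * x = 1) (hy : y * y = 1) : y ∈ solSet x := by
  refine mul_mem_solSet_iff.mp (mem_solSet_of_inverted hx ?_)
  rw [_root_.mul_inv_rev, inv_eq_of_mul_eq_one_right hy, ← mul_assoc, hx, one_mul,
    inv_eq_of_mul_eq_one_right hx]

/-- An involution and an element of order three with product of order three. -/
theorem mem_solSet_of_two_three_three [Finite G] {x y : G} (hx : x * x = 1) (hy : y * y * y = 1)
    (hxy : x * y * (x * y) * (x * y) = 1) : y ∈ solSet x := by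
  set u := y * x * y⁻¹ with hu
  have hxi : x⁻¹ = x := inv_eq_of_mul_eq_one_right hx
  have hyi : y⁻¹ = y * y := inv_eq_of_mul_eq_one_right (by rw [← mul_assoc, hy])
  have key : x * y * x = y⁻¹ * x * y⁻¹ := by
    have h1 : x * y * x * (y * x * y) = 1 := by simpa only [mul_assoc] using hxy
    rw [eq_inv_of_mul_eq_one_left h1, _root_.mul_inv_rev, _root_.mul_inv_rev, hxi, mul_assoc]
  have hprod : x * u = y⁻¹ * x * y := by
    rw [hu, ← mul_assoc, ← mul_assoc, key, mul_assoc (y⁻¹ * x), ← _root_.mul_inv_rev, ← hyi, inv_inv]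
  have hu2 : u * u = 1 := by
    rw [hu]
    calc y * x * y⁻¹ * (y * x * y⁻¹) = y * (x * x) * y⁻¹ := by group
      _ = 1 := by rw [hx, mul_one, mul_inv_cancel]
  have hv2 : (x * u) * (x * u) = 1 := by
    rw [hprod]
    calc y⁻¹ * x * y * (y⁻¹ * x * y) = y⁻¹ * (x * x) * y := by group
      _ = 1 := by rw [hx, mul_one, inv_mul_cancel]
  have hcomm : x * u = u * x := by
    calc x * u = (x * u)⁻¹ := (inv_eq_of_mul_eq_one_right hv2).symm
      _ = u * x := by rw [_root_.mul_inv_rev, hxi, inv_eq_of_mul_eq_one_right hu2]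
  set A := Subgroup.closure ({x, u} : Set G) with hA
  have hxA : x ∈ A := Subgroup.subset_closure (Or.inl rfl)
  have huA : u ∈ A := Subgroup.subset_closure (Or.inr rfl)
  refine mem_solSet_of_abelian_normal (A := A) (t := y) (fun a ha b hb => ?_)
    (closure_pair_le (Subgroup.mem_sup_left hxA) (Subgroup.mem_sup_right (Subgroup.mem_zpowers y))) ?_
  · have hc : IsMulCommutative A := Subgroup.isMulCommutative_closure fun a ha b hb => by
      rcases ha with rfl | rfl <;> rcases hb with rfl | rfl <;> first | rfl | exact hcomm | exact hcomm.symm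
    exact congrArg Subtype.val (hc.is_comm.comm ⟨a, ha⟩ ⟨b, hb⟩)
  · have hle : A.map (MulAut.conj y).toMonoidHom ≤ A := by
      rw [hA, MonoidHom.map_closure, Subgroup.closure_le]
      rintro _ ⟨z, rfl | rfl, rfl⟩
      · simpa [hu] using huA
      · have : y * (y * x * y⁻¹) * y⁻¹ = x * u := by
          rw [hprod, hyi]
          calc y * (y * x * (y * y)) * (y * y) = y * y * x * y * (y * y * y) := by group
            _ = y * y * x * y := by rw [hy, mul_one]
        simpa [hu, ← hprod, this] using A.mul_mem hxA huA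
    have heq : A.map (MulAut.conj y).toMonoidHom = A :=
      Subgroup.eq_of_le_of_card_ge hle
        (by rw [Subgroup.card_map_of_injective (MulAut.conj y).injective])
    rw [Subgroup.mem_normalizer_iff]
    intro z
    refine ⟨fun hz => heq ▸ Subgroup.mem_map_of_mem _ hz, fun hz => ?_⟩
    rw [← heq, Subgroup.mem_map_equiv] at hz
    simpa [mul_assoc] using hz

theorem conj_mem_solSet (g : G) {x y : G} (h : y ∈ solSet x) :
    g * y * g⁻¹ ∈ solSet (g * x * g⁻¹) := by
  have hK : Group.IsSolvable ((Subgroup.closure ({x, y} : Set G)).map (MulAut.conj g).toMonoidHom) := by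
    have : Group.IsSolvable (Subgroup.closure ({x, y} : Set G)) := h
    exact solvable_of_surjective
      (f := ((Subgroup.closure ({x, y} : Set G)).equivMapOfInjective _ (MulAut.conj g).injective).toMonoidHom)
      (MulEquiv.surjective _)
  exact mem_solSet_of_le hK (Subgroup.mem_map_of_mem _ (Subgroup.subset_closure (Or.inl rfl)))
    (Subgroup.mem_map_of_mem _ (Subgroup.subset_closure (Or.inr rfl)))

theorem card_solSet_conj (g x : G) : Nat.card (solSet (g * x * g⁻¹)) = Nat.card (solSet x) := by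
  refine (Nat.card_congr (Equiv.subtypeEquiv (MulAut.conj g).toEquiv fun y => ⟨conj_mem_solSet g, ?_⟩)).symm
  intro h
  have := conj_mem_solSet g⁻¹ h
  simpa [mul_assoc] using this

end Group

variable {F : Type*} [Field F] [Fintype F]

local notation "M2" => Matrix (Fin 2) (Fin 2) F
local notation "S2" => Matrix.SpecialLinearGroup (Fin 2) F
local notation "P2" => Matrix.ProjectiveSpecialLinearGroup (Fin 2) F

theorem card_center_mul_card_set (S : Set P2) :
    Nat.card (Subgroup.center S2) * Nat.card S = Nat.card {Y : S2 // proj Y ∈ S} := by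
  rw [← Nat.card_prod]
  exact (Nat.card_congr (QuotientGroup.preimageMkEquivSubgroupProdSet (Subgroup.center S2) S)).symm

theorem ne_top_of_mem_solSet (hq : 4 ≤ Fintype.card F) {x y : P2} (h : y ∈ solSet x) :
    Subgroup.closure ({x, y} : Set P2) ≠ ⊤ := ne_top_of_isSolvable hq h

theorem mem_cen_of_normalizer {a x : P2} (ha : ¬ IsUni a)
    (h : x ∈ Subgroup.normalizer ((cen a) : Set P2)) (hx : x * x ≠ 1) : x ∈ cen a :=
  (normalizer_cases ha (Subgroup.mem_normalizer_iff.mp h)).resolve_right fun hc => hx hc.1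

/-- An element whose centraliser is a non-split torus. -/
theorem card_solSet_nonsplit {x : P2} (hq : 4 ≤ Fintype.card F) (hx : x ≠ 1) (hx2 : x * x ≠ 1)
    (hu : ¬ IsUni x) (hB : ¬ orderOf x ∣ Nat.card (borel F))
    (hc : Nat.card (Subgroup.center S2) * Nat.card (cen x) = Fintype.card F + 1)
    (hcls : ∀ H : Subgroup P2, H ≠ ⊤ → x ∈ H → InBorel H ∨ InTorus H) :
    Nat.card (Subgroup.center S2) * Nat.card (solSet x) = 2 * (Fintype.card F + 1) := by
  have hset : solSet x = (Subgroup.normalizer ((cen x) : Set P2) : Set P2) := by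
    ext y
    constructor
    · intro hy
      have hxm : x ∈ Subgroup.closure ({x, y} : Set P2) := Subgroup.subset_closure (Or.inl rfl)
      rcases hcls _ (ne_top_of_mem_solSet hq hy) hxm with h | ⟨a, ha, h⟩
      · exact absurd ((Subgroup.orderOf_mk x hxm ▸ orderOf_dvd_natCard _).trans h.card_dvd) hB
      · rw [cen_eq_of_mem (ne_one_of_not_isUni ha) hx (mem_cen_of_normalizer ha (h hxm) hx2)]
        exact h (Subgroup.subset_closure (Or.inr rfl))
    · exact mem_solSet_of_le (InTorus.isSolvable ⟨x, hu, le_rfl⟩)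
        (Subgroup.le_normalizer (mem_cen_self x))
  rw [hset, Nat.card_congr (Equiv.setCongr rfl), SetLike.coe_sort_coe, (torus_normalizer_props hu).1,
    mul_left_comm, hc]

theorem exists_conj_borel_of_split {x : P2} (hu : ¬ IsUni x)
    (hc : Nat.card (Subgroup.center S2) * Nat.card (cen x) ≠ Fintype.card F + 1) :
    ∃ (g : P2) (l : Fˣ), g * x * g⁻¹ = proj (dSL l) := by
  obtain ⟨X, rfl⟩ := proj_surjective x
  have ht : (X : M2).trace ^ 2 ≠ 4 := fun h => hu (isUni_proj.mpr h)
  obtain ⟨c, hr⟩ : ∃ c : F, c ^ 2 - c * (X : M2).trace + 1 = 0 := by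
    by_contra h
    apply hc
    rw [cen_proj, card_center_mul_card_map (center_le_centralizer _)]
    exact card_centralizer_nonsplit_SL ht (not_exists.mp h)
  have hdet : ((X : M2) - c • (1 : M2)).det = 0 := by
    have := SL_det_two X
    rw [Matrix.det_fin_two]
    rw [Matrix.trace_fin_two] at hr
    simp
    linear_combination this + hr
  obtain ⟨v, hv, hv'⟩ := Matrix.exists_mulVec_eq_zero_iff.mpr hdet
  have hfix : (X : M2).mulVec v = c • v := by
    rw [Matrix.sub_mulVec, Matrix.smul_mulVec, Matrix.one_mulVec, sub_eq_zero] at hv'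
    exact hv'
  obtain ⟨g, hg⟩ := inBorel_of_fixLine (X := X) (Y := X) (M := Subgroup.zpowers (proj X))
    ⟨v, hv, ⟨c, hfix⟩, ⟨c, hfix⟩⟩ fun N h _ => Subgroup.zpowers_le.mpr h
  obtain ⟨b, -, l, hl⟩ := exists_diag_conj (hg _ (Subgroup.mem_zpowers _))
    fun h => hu ((isUni_conj g).mp h)
  exact ⟨b * g, l, by rw [← hl]; group⟩

theorem conj_dSL_lower (g : S2) (l : Fˣ) :
    ((g * dSL l * g⁻¹ : S2) : M2) 1 0 =
      (g : M2) 1 0 * (g : M2) 1 1 * ((l : F) - ((l⁻¹ : Fˣ) : F)) := by
  simp [SL_mul_entries, dSL_coe, (SL_inv_entries g).1, (SL_inv_entries g).2.2.2]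
  ring

theorem mem_solSet_dSL_iff {l : Fˣ} (hl2 : l ^ 2 ≠ 1) (hl4 : proj (dSL l) * proj (dSL l) ≠ 1)
    (hq : 4 ≤ Fintype.card F)
    (hcls : ∀ H : Subgroup P2, H ≠ ⊤ → proj (dSL l) ∈ H → InBorel H ∨ InTorus H) (Y : S2) :
    proj Y ∈ solSet (proj (dSL l)) ↔
      (Y : M2) 1 0 = 0 ∨ (Y : M2) 0 1 = 0 ∨ ((Y : M2) 0 0 = 0 ∧ (Y : M2) 1 1 = 0) := by
  set x : P2 := proj (dSL l) with hx
  have hu : ¬ IsUni x := fun h => hl2 (isUni_dSL_iff.mp h)
  have hx1 : x ≠ 1 := ne_one_of_not_isUni hu
  have hl0 : (l : F) ≠ 0 := l.ne_zero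
  have hdiff : (l : F) - ((l⁻¹ : Fˣ) : F) ≠ 0 := by
    intro h
    apply hl2
    rw [Units.ext_iff, Units.val_pow_eq_pow_val, Units.val_one]
    rw [Units.val_inv_eq_inv_val] at h
    field_simp at h
    linear_combination h
  constructor
  · intro hy
    have hxm : x ∈ Subgroup.closure ({x, proj Y} : Set P2) := Subgroup.subset_closure (Or.inl rfl)
    have hym : proj Y ∈ Subgroup.closure ({x, proj Y} : Set P2) := Subgroup.subset_closure (Or.inr rfl)
    rcases hcls _ (ne_top_of_mem_solSet hq hy) hxm with ⟨g, hg⟩ | ⟨a, ha, h⟩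
    · obtain ⟨g, rfl⟩ := proj_surjective g
      have h1 := hg _ hxm
      have h2 := hg _ hym
      rw [hx, ← map_inv, ← map_mul, ← map_mul, mem_borel_proj, conj_dSL_lower] at h1
      rw [← map_inv, ← map_mul, ← map_mul, mem_borel_proj] at h2
      simp [SL_mul_entries, (SL_inv_entries g).1, (SL_inv_entries g).2.2.2] at h2
      have hdet := SL_det_two g
      rcases mul_eq_zero.mp ((mul_eq_zero.mp h1).resolve_right hdiff) with e | e
      · left
        have e1 : (g : M2) 1 1 * (g : M2) 1 1 * (Y : M2) 1 0 = 0 := by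
          rw [e] at h2; linear_combination h2
        have hd : (g : M2) 1 1 ≠ 0 := fun h0 => by rw [e, h0] at hdet; simp at hdet
        exact (mul_eq_zero.mp e1).resolve_left (mul_ne_zero hd hd)
      · right; left
        have e1 : (g : M2) 1 0 * (g : M2) 1 0 * (Y : M2) 0 1 = 0 := by
          rw [e] at h2; linear_combination -h2
        have hd : (g : M2) 1 0 ≠ 0 := fun h0 => by rw [e, h0] at hdet; simp at hdet
        exact (mul_eq_zero.mp e1).resolve_left (mul_ne_zero hd hd)
    · have hxa : x ∈ cen a := mem_cen_of_normalizer ha (h hxm) hl4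
      have hcen : cen x = cen a := cen_eq_of_mem (ne_one_of_not_isUni ha) hx1 hxa
      have hN := h hym
      rw [← hcen] at hN
      rcases normalizer_cases hu (Subgroup.mem_normalizer_iff.mp hN) with hc | ⟨-, hinv⟩
      · left
        rw [hx, mem_cen_proj, Subgroup.mem_centralizer_singleton_iff] at hc
        have e1 := congrArg (fun z : S2 => (z : M2) 1 0) hc
        simp [SL_mul_entries, dSL_coe] at e1
        have : (Y : M2) 1 0 * ((l : F) - ((l⁻¹ : Fˣ) : F)) = 0 := by
          rw [Units.val_inv_eq_inv_val]; linear_combination e1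
        exact (mul_eq_zero.mp this).resolve_right hdiff
      · right; right
        have e := hinv x (mem_cen_self x)
        rw [mul_inv_eq_iff_eq_mul, hx, ← map_inv, ← map_mul, ← map_mul, proj_eq_iff] at e
        have hl4' : (l : F) ^ 2 + 1 ≠ 0 := by
          intro h0
          apply hl4
          rw [hx, ← map_mul, ← map_mul, proj_dSL_eq_one_iff, ← sq, ← pow_mul, Units.ext_iff,
            Units.val_pow_eq_pow_val, Units.val_one]
          linear_combination ((l : F) ^ 2 - 1) * h0
        have hl2' : (l : F) ^ 2 - 1 ≠ 0 := fun h0 => hl2 (Units.ext (by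
          rw [Units.val_pow_eq_pow_val, Units.val_one]; linear_combination h0))
        have key : ∀ s : F, (s = 1 ∨ s = -1) →
            (∀ i j, (((dSL l)⁻¹ * Y : S2) : M2) i j = s * ((Y * dSL l : S2) : M2) i j) →
            (Y : M2) 0 0 = 0 ∧ (Y : M2) 1 1 = 0 := by
          intro s hs he
          have e0 := he 0 0
          have e1 := he 1 1
          simp [SL_mul_entries, (SL_inv_entries (dSL l)).1, (SL_inv_entries (dSL l)).2.1,
            (SL_inv_entries (dSL l)).2.2.1, (SL_inv_entries (dSL l)).2.2.2, dSL_coe] at e0 e1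
          field_simp at e0 e1
          rcases hs with rfl | rfl
          · exact ⟨(mul_eq_zero.mp (show (Y : M2) 0 0 * ((l : F) ^ 2 - 1) = 0 by
              linear_combination -e0)).resolve_right hl2', (mul_eq_zero.mp (show (Y : M2) 1 1 *
              ((l : F) ^ 2 - 1) = 0 by linear_combination e1)).resolve_right hl2'⟩
          · exact ⟨(mul_eq_zero.mp (show (Y : M2) 0 0 * ((l : F) ^ 2 + 1) = 0 by
              linear_combination e0)).resolve_right hl4', (mul_eq_zero.mp (show (Y : M2) 1 1 *
              ((l : F) ^ 2 + 1) = 0 by linear_combination e1)).resolve_right hl4'⟩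
        rcases e with e | e
        · exact key 1 (Or.inl rfl) fun i j => by rw [e, one_mul]
        · exact key (-1) (Or.inr rfl) fun i j => by rw [e]; simp
  · have hxB : x ∈ borel F := mem_borel_proj.mpr (by simp [dSL_coe])
    rintro (h | h | ⟨h0, h1⟩)
    · exact mem_solSet_of_le isSolvable_borel hxB (mem_borel_proj.mpr h)
    · let w : S2 := ⟨!![0, 1; -1, 0], by simp [Matrix.det_fin_two_of]⟩
      have hw : (w : M2) = !![0, 1; -1, 0] := rfl
      have hs : proj w * proj Y * (proj w)⁻¹ ∈ solSet (proj w * x * (proj w)⁻¹) := by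
        refine mem_solSet_of_le isSolvable_borel ?_ ?_
        · rw [hx, ← map_inv, ← map_mul, ← map_mul, mem_borel_proj, conj_dSL_lower]
          simp [hw]
        · rw [← map_inv, ← map_mul, ← map_mul, mem_borel_proj]
          simp [SL_mul_entries, (SL_inv_entries w).1, (SL_inv_entries w).2.2.2, hw, h]
      have := conj_mem_solSet (proj w)⁻¹ hs
      simpa [mul_assoc] using this
    · have hd := SL_det_two Y
      rw [h0, zero_mul, zero_sub] at hd
      have hYY : Y * Y = -1 := by
        apply SL_ext_two <;> simp [SL_mul_entries, h0, h1] <;> linear_combination -hd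
      have hsq : proj Y * proj Y = 1 := by rw [← map_mul, hYY, proj_neg, map_one]
      have hinv : proj Y * x * (proj Y)⁻¹ = x⁻¹ := by
        rw [mul_inv_eq_iff_eq_mul, hx, ← map_inv, ← map_mul, ← map_mul]
        congr 1
        apply SL_ext_two <;> simp [SL_mul_entries, (SL_inv_entries (dSL l)).1,
          (SL_inv_entries (dSL l)).2.1, (SL_inv_entries (dSL l)).2.2.1,
          (SL_inv_entries (dSL l)).2.2.2, dSL_coe, h0, h1, mul_comm]
      have hs := mem_solSet_of_inverted hsq hinv
      show Group.IsSolvable (Subgroup.closure ({x, proj Y} : Set P2))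
      rw [Set.pair_comm]
      exact hs

theorem card_dSL_set : Nat.card {Y : S2 // (Y : M2) 1 0 = 0 ∨ (Y : M2) 0 1 = 0 ∨
    ((Y : M2) 0 0 = 0 ∧ (Y : M2) 1 1 = 0)} = 2 * (Fintype.card F * (Fintype.card F - 1)) := by
  classical
  let low : Fˣ × F → S2 := fun uc =>
    if hc : uc.2 = 0 then ⟨!![0, (uc.1 : F); -((uc.1⁻¹ : Fˣ) : F), 0], by simp [Matrix.det_fin_two_of]⟩
    else ⟨!![(uc.1 : F), 0; uc.2, ((uc.1⁻¹ : Fˣ) : F)], by simp [Matrix.det_fin_two_of]⟩
  let up : Fˣ × F → S2 := fun ub =>
    ⟨!![(ub.1 : F), ub.2; 0, ((ub.1⁻¹ : Fˣ) : F)], by simp [Matrix.det_fin_two_of]⟩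
  have hup : ∀ ub : Fˣ × F, ((up ub : S2) : M2) = !![(ub.1 : F), ub.2; 0, ((ub.1⁻¹ : Fˣ) : F)] :=
    fun _ => rfl
  have hlow0 : ∀ u : Fˣ, ((low (u, 0) : S2) : M2) = !![0, (u : F); -((u⁻¹ : Fˣ) : F), 0] :=
    fun u => by simp [low]
  have hlow1 : ∀ (u : Fˣ) (c : F), c ≠ 0 →
      ((low (u, c) : S2) : M2) = !![(u : F), 0; c, ((u⁻¹ : Fˣ) : F)] :=
    fun u c hc => by simp [low, hc]
  have hlow10 : ∀ uc : Fˣ × F, ((low uc : S2) : M2) 1 0 ≠ 0 := by
    rintro ⟨u, c⟩
    rcases eq_or_ne c 0 with rfl | hc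
    · simp [hlow0]
    · simp [hlow1 u c hc, hc]
  have h := Nat.card_eq_of_bijective
    (α := (Fˣ × F) ⊕ (Fˣ × F)) (β := {Y : S2 // (Y : M2) 1 0 = 0 ∨ (Y : M2) 0 1 = 0 ∨
      ((Y : M2) 0 0 = 0 ∧ (Y : M2) 1 1 = 0)})
    (Sum.elim (fun ub => ⟨up ub, Or.inl (by simp [hup])⟩) (fun uc => ⟨low uc, by
      obtain ⟨u, c⟩ := uc
      rcases eq_or_ne c 0 with rfl | hc
      · exact Or.inr (Or.inr (by simp [hlow0]))
      · exact Or.inr (Or.inl (by simp [hlow1 u c hc]))⟩)) ⟨?_, ?_⟩
  · rw [← h, Nat.card_sum, Nat.card_prod, Nat.card_units, Nat.card_eq_fintype_card]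
    ring
  · refine Function.Injective.sumElim ?_ ?_ ?_
    · intro a b h
      have e := congrArg (fun z => ((z : {Y : S2 // _}) : S2)) h
      have e1 := congrArg (fun z : S2 => (z : M2) 0 0) e
      have e2 := congrArg (fun z : S2 => (z : M2) 0 1) e
      simp [hup] at e1 e2
      exact Prod.ext (Units.ext e1) e2
    · rintro ⟨u, c⟩ ⟨u', c'⟩ h
      have e := congrArg (fun z => ((z : {Y : S2 // _}) : S2)) h
      have e00 := congrArg (fun z : S2 => (z : M2) 0 0) e
      have e01 := congrArg (fun z : S2 => (z : M2) 0 1) e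
      have e10 := congrArg (fun z : S2 => (z : M2) 1 0) e
      rcases eq_or_ne c 0 with rfl | hc <;> rcases eq_or_ne c' 0 with rfl | hc'
      · simp [hlow0] at e01
        exact Prod.ext (Units.ext e01) rfl
      · simp [hlow0, hlow1 u' c' hc'] at e01
      · simp [hlow0, hlow1 u c hc] at e01
        exact absurd e01.symm u'.ne_zero
      · simp [hlow1 u c hc, hlow1 u' c' hc'] at e00 e10
        exact Prod.ext (Units.ext e00) e10
    · intro a b h
      have e := congrArg (fun z => ((z : {Y : S2 // _}) : M2) 1 0) h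
      exact hlow10 b (by simpa [hup] using e.symm)
  · rintro ⟨Y, hY⟩
    have hd := SL_det_two Y
    by_cases hc : (Y : M2) 1 0 = 0
    · rw [hc, mul_zero, sub_zero] at hd
      have ha : (Y : M2) 0 0 ≠ 0 := fun e => by simp [e] at hd
      refine ⟨Sum.inl (Units.mk0 _ ha, (Y : M2) 0 1), Subtype.ext ?_⟩
      apply SL_ext_two <;> simp [hup, hc]
      exact (eq_inv_of_mul_eq_one_right hd).symm
    · rcases hY.resolve_left hc with hb | ⟨h0, h1⟩
      · rw [hb, zero_mul, sub_zero] at hd
        have ha : (Y : M2) 0 0 ≠ 0 := fun e => by simp [e] at hd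
        refine ⟨Sum.inr (Units.mk0 _ ha, (Y : M2) 1 0), Subtype.ext ?_⟩
        apply SL_ext_two <;> simp [hlow1 _ _ hc, hb]
        exact (eq_inv_of_mul_eq_one_right hd).symm
      · rw [h0, zero_mul, zero_sub] at hd
        have hb : (Y : M2) 0 1 ≠ 0 := fun e => by simp [e] at hd
        refine ⟨Sum.inr (Units.mk0 _ hb, 0), Subtype.ext ?_⟩
        apply SL_ext_two <;> simp [hlow0, h0, h1]
        field_simp
        linear_combination hd

/-- An element whose centraliser is a split torus. -/
theorem card_solSet_split {x : P2} (hq : 4 ≤ Fintype.card F) (hu : ¬ IsUni x) (hx2 : x * x ≠ 1)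
    (hc : Nat.card (Subgroup.center S2) * Nat.card (cen x) ≠ Fintype.card F + 1)
    (hcls : ∀ (g : P2) (H : Subgroup P2), H ≠ ⊤ → g * x * g⁻¹ ∈ H → InBorel H ∨ InTorus H) :
    Nat.card (Subgroup.center S2) * Nat.card (solSet x) =
      2 * (Fintype.card F * (Fintype.card F - 1)) := by
  obtain ⟨g, l, hl⟩ := exists_conj_borel_of_split hu hc
  have hu' : ¬ IsUni (proj (dSL l)) := by rwa [← hl, isUni_conj]
  have hl4 : proj (dSL l) * proj (dSL l) ≠ 1 := by
    rw [← hl]
    intro h
    apply hx2
    have : g * (x * x) * g⁻¹ = 1 := by rw [← h]; group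
    exact conj_eq_one_iff.mp this
  rw [← card_solSet_conj g x, hl, card_center_mul_card_set, ← card_dSL_set (F := F)]
  exact Nat.card_congr (Equiv.subtypeEquivRight fun Y => mem_solSet_dSL_iff
    (fun h => hu' (isUni_dSL_iff.mpr h)) hl4 hq (fun H hH hm => hcls g H hH (hl ▸ hm)) Y)

end Cfsg.Agent.Linear.Dickson
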