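import Cfsg.Agent.Linear.Dickson.Solubilizer

/-!
Solubilizers in PSL_2: lemmas for elements of unipotent type, and counting.
-/

namespace Cfsg.Agent.Linear.Dickson

open Matrix Cfsg.Agent.Linear

variable {F : Type*} [Field F] [Fintype F]

local notation "M2" => Matrix (Fin 2) (Fin 2) F
local notation "S2" => Matrix.SpecialLinearGroup (Fin 2) F
local notation "P2" => Matrix.ProjectiveSpecialLinearGroup (Fin 2) F

theorem trace_upSL_mul (a : F) (Y : S2) :
    ((upSL a * Y : S2) : M2).trace = (Y : M2).trace + a * (Y : M2) 1 0 := by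
  rw [Matrix.trace_fin_two, Matrix.trace_fin_two, SL_mul_entries, SL_mul_entries]
  simp [upSL_coe]
  ring

theorem proj_upSL_ne_one {a : F} (ha : a ≠ 0) : proj (upSL a) ≠ 1 := fun h =>
  not_isScalarTwo_upSL ha (proj_eq_one_iff.mp h)

theorem isUni_proj_upSL (a : F) : IsUni (proj (upSL a)) :=
  isUni_proj.mpr (by rw [trace_upSL]; norm_num)

/-- A subgroup in a Borel subgroup with a standard unipotent element is in the standard one. -/
theorem le_borel_of_inBorel {a : F} (ha : a ≠ 0) {H : Subgroup P2} (h : InBorel H)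
    (hx : proj (upSL a) ∈ H) : H ≤ borel F := by
  obtain ⟨g, hg⟩ := h
  have hgB : g ∈ borel F := mem_borel_of_conj (proj_upSL_mem_cen a) (proj_upSL_ne_one ha)
    (mem_cen_stdUni_of_isUni (hg _ hx) ((isUni_conj g).mpr (isUni_proj_upSL a)))
  intro y hy
  have := mul_mem (mul_mem ((borel F).inv_mem hgB) (hg y hy)) hgB
  rwa [show g⁻¹ * (g * y * g⁻¹) * g = y by group] at this

theorem not_mem_cen_of_isUni {a x : P2} (ha : ¬ IsUni a) (hx : x ≠ 1) (hxu : IsUni x) : x ∉ cen a :=
  fun h => ha ((isUni_iff_of_mem_cen (ne_one_of_not_isUni ha) hx h).mp hxu)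

/-- An element in a torus normaliser but not in the torus, paired with another one. -/
theorem sq_cases_of_inverter {a x y : P2} (ha : ¬ IsUni a)
    (hx : x ∈ Subgroup.normalizer ((cen a) : Set P2)) (hxc : x ∉ cen a)
    (hy : y ∈ Subgroup.normalizer ((cen a) : Set P2)) :
    x * x = 1 ∧ (y * y = 1 ∨ (x * y) * (x * y) = 1) := by
  obtain ⟨hx2, hinv⟩ := (normalizer_cases ha (Subgroup.mem_normalizer_iff.mp hx)).resolve_left hxc
  refine ⟨hx2, ?_⟩
  rcases normalizer_cases ha (Subgroup.mem_normalizer_iff.mp hy) with h | ⟨h, -⟩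
  · right
    calc x * y * (x * y) = x * y * x⁻¹ * (x * x) * y := by group
      _ = 1 := by rw [hinv y h, hx2, mul_one, inv_mul_cancel]
  · exact Or.inl h

omit [Fintype F] in
theorem trace_sq_eq_one_iff_cube {Y : S2} (h3 : (3 : F) = 0) :
    proj Y ^ 3 = 1 ↔ (Y : M2).trace ^ 2 = 1 := by
  constructor
  · intro h
    by_cases h1 : proj Y = 1
    · obtain ⟨hb, hc, hd⟩ := proj_eq_one_iff.mp h1
      have := SL_det_two Y
      rw [hb, hc, mul_zero, sub_zero, ← hd] at this
      rw [Matrix.trace_fin_two, ← hd]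
      linear_combination 4 * this + h3
    · exact trace_sq_eq_one_of_cube h1 h
  · intro h
    rw [← map_pow, proj_eq_one_iff, SL_pow_three_eq, h]
    simp [IsScalarTwo]

theorem card_trace_set (Q : F → F → Prop) (hQ : ∀ c τ, Q c τ → c ≠ 0) :
    Nat.card {Y : S2 // Q ((Y : M2) 1 0) ((Y : M2).trace)} =
      Nat.card {ct : F × F // Q ct.1 ct.2} * Fintype.card F := by
  rw [← Nat.card_eq_fintype_card, ← Nat.card_prod]
  refine Nat.card_congr
    { toFun := fun Y => (⟨((Y.1 : M2) 1 0, (Y.1 : M2).trace), Y.2⟩, (Y.1 : M2) 0 0)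
      invFun := fun z => ⟨⟨!![z.2, (z.2 * (z.1.1.2 - z.2) - 1) / z.1.1.1; z.1.1.1, z.1.1.2 - z.2], by
        have := hQ _ _ z.1.2
        simp [Matrix.det_fin_two_of]
        field_simp
        ring⟩, by simpa [Matrix.trace_fin_two] using z.1.2⟩
      left_inv := fun Y => Subtype.ext (by
        have hd := SL_det_two Y.1
        have hc := hQ _ _ Y.2
        apply SL_ext_two <;> simp [Matrix.trace_fin_two]
        field_simp
        linear_combination hd)
      right_inv := fun z => by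
        refine Prod.ext (Subtype.ext (Prod.ext ?_ ?_)) ?_ <;> simp [Matrix.trace_fin_two] }

theorem card_lower_zero_set : Nat.card {Y : S2 // (Y : M2) 1 0 = 0} =
    Fintype.card F * (Fintype.card F - 1) := by
  have hne : ∀ Y : {Y : S2 // (Y : M2) 1 0 = 0}, (Y.1 : M2) 0 0 ≠ 0 := fun Y e => by
    have hd := SL_det_two Y.1
    rw [Y.2, e] at hd
    simp at hd
  let e : {Y : S2 // (Y : M2) 1 0 = 0} ≃ Fˣ × F :=
    { toFun := fun Y => (Units.mk0 _ (hne Y), (Y.1 : M2) 0 1)
      invFun := fun cb => ⟨⟨!![(cb.1 : F), cb.2; 0, ((cb.1⁻¹ : Fˣ) : F)], by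
        simp [Matrix.det_fin_two_of]⟩, rfl⟩
      left_inv := fun Y => by
        refine Subtype.ext (SL_ext_two rfl rfl Y.2.symm ?_)
        have hd := SL_det_two Y.1
        rw [Y.2, mul_zero, sub_zero] at hd
        simpa using inv_eq_of_mul_eq_one_right hd
      right_inv := fun cb => Prod.ext (Units.ext rfl) rfl }
  rw [Nat.card_congr e, Nat.card_prod, Nat.card_units, Nat.card_eq_fintype_card, mul_comm]

theorem card_borel_or_trace_set (Q : F → F → Prop) (hQ : ∀ c τ, Q c τ → c ≠ 0) :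
    Nat.card {Y : S2 // (Y : M2) 1 0 = 0 ∨ Q ((Y : M2) 1 0) ((Y : M2).trace)} =
      Fintype.card F * (Fintype.card F - 1) +
        Nat.card {ct : F × F // Q ct.1 ct.2} * Fintype.card F := by
  classical
  rw [← card_trace_set Q hQ, ← card_lower_zero_set (F := F), ← Nat.card_sum]
  refine Nat.card_congr (subtypeOrEquiv _ _ ?_)
  rw [Pi.disjoint_iff]
  intro Y
  rw [Prop.disjoint_iff]
  rintro ⟨h, hq⟩
  exact hQ _ _ hq h

end Cfsg.Agent.Linear.Dickson
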