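import Cfsg.Agent.Linear.Dickson.Maximal

/-!
Subfield subgroups of PSL_2: existence and maximality.
-/

namespace Cfsg.Agent.Linear.Dickson

open Matrix Cfsg.Agent.Linear

variable {F : Type*} [Field F] [Fintype F] {K : Type*} [Field K] [Fintype K]

local notation "M2" => Matrix (Fin 2) (Fin 2) F
local notation "S2" => Matrix.SpecialLinearGroup (Fin 2) F
local notation "P2" => Matrix.ProjectiveSpecialLinearGroup (Fin 2) F

theorem exists_ringHom {m : ℕ} (hm : 1 ≤ m) (h : Fintype.card K ^ m = Fintype.card F) :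
    Nonempty (K →+* F) := by
  obtain ⟨p, hpF⟩ := CharP.exists F
  have : Fact p.Prime := ⟨CharP.char_is_prime F p⟩
  obtain ⟨f, hp, hf⟩ := FiniteField.card F p
  obtain ⟨p', hpK⟩ := CharP.exists K
  have : Fact p'.Prime := ⟨CharP.char_is_prime K p'⟩
  obtain ⟨e, hp', he⟩ := FiniteField.card K p'
  rw [he, hf, ← pow_mul] at h
  obtain rfl : p' = p := by
    have h1 : p' ∣ p ^ (f : ℕ) := h ▸ dvd_pow_self p' (Nat.mul_ne_zero e.ne_zero (by omega))
    exact (Nat.prime_dvd_prime_iff_eq hp' hp).mp (hp'.dvd_of_dvd_pow h1)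
  have hem : (e : ℕ) * m = f := Nat.pow_right_injective hp.two_le h
  let _ := ZMod.algebra K p'
  let _ := ZMod.algebra F p'
  have hK : Module.finrank (ZMod p') K = e := by
    have := Module.card_eq_pow_finrank (K := ZMod p') (V := K)
    rw [ZMod.card, he] at this
    exact (Nat.pow_right_injective hp.two_le this).symm
  have hF : Module.finrank (ZMod p') F = f := by
    have := Module.card_eq_pow_finrank (K := ZMod p') (V := F)
    rw [ZMod.card, hf] at this
    exact (Nat.pow_right_injective hp.two_le this).symm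
  obtain ⟨φ⟩ := FiniteField.nonempty_algHom_of_finrank_dvd (F := ZMod p') (K := K) (L := F)
    (by rw [hK, hF, ← hem]; exact dvd_mul_right _ _)
  exact ⟨φ.toRingHom⟩

theorem exists_sqrt_gen (ι : K →+* F) {m : ℕ} (hm : Even m) (hodd : Odd (Fintype.card K))
    (h : Fintype.card K ^ m = Fintype.card F) :
    ∃ (lam : Fˣ) (ν : Kˣ), ι (ν : K) = (lam : F) ^ 2 ∧ ∀ δ : Kˣ, δ ∈ Subgroup.zpowers ν := by
  classical
  obtain ⟨ν, hν⟩ := IsCyclic.exists_generator (α := Kˣ)
  obtain ⟨j, hj⟩ := hodd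
  obtain ⟨k, rfl⟩ := hm
  have hsq : IsSquare (ι (ν : K)) := by
    by_cases h2 : (2 : F) = 0
    · have : CharP F 2 := CharTwo.of_one_ne_zero_of_two_eq_zero one_ne_zero h2
      exact FiniteField.isSquare_of_char_two (ringChar.eq F 2) _
    rw [FiniteField.isSquare_iff (fun e => by
      have : CharP F 2 := e ▸ ringChar.charP F
      exact h2 CharTwo.two_eq_zero) (fun e => ν.ne_zero (ι.injective (e.trans (map_zero ι).symm)))]
    obtain ⟨S, hS⟩ := Nat.sub_one_dvd_pow_sub_one (Fintype.card K ^ 2) k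
    rw [← pow_mul, two_mul k, h] at hS
    have h1 : Fintype.card K ^ 2 - 1 = (2 * j) * (2 * (j + 1)) := by
      rw [hj, show (2 * j + 1) ^ 2 = 2 * j * (2 * (j + 1)) + 1 by ring, Nat.add_sub_cancel]
    rw [h1] at hS
    have hq : Fintype.card F / 2 = 2 * j * ((j + 1) * S) := by
      have : 2 * j * (2 * (j + 1)) * S = 2 * (2 * j * ((j + 1) * S)) := by ring
      have hpos : 0 < Fintype.card F := Fintype.card_pos
      omega
    have h2j : (ν : K) ^ (2 * j) = 1 := by
      rw [show 2 * j = Fintype.card Kˣ by rw [Fintype.card_units, hj, Nat.add_sub_cancel],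
        ← Units.val_pow_eq_pow_val, pow_card_eq_one, Units.val_one]
    rw [hq, pow_mul, ← map_pow, h2j, map_one, one_pow]
  obtain ⟨l, hl⟩ := hsq
  have hl0 : l ≠ 0 := fun e => ν.ne_zero (ι.injective (by rw [map_zero, hl, e, mul_zero]))
  exact ⟨Units.mk0 l hl0, ν, by rw [Units.val_mk0, sq, hl], hν⟩

omit [Fintype F] [Fintype K] in
theorem proj_upSL_mem_pslSub (ι : K →+* F) (w : Fˣ) :
    proj (upSL (w : F)) ∈ pslSub ι w ∧ proj (loSL (w : F)⁻¹) ∈ pslSub ι w := by
  refine ⟨⟨upSL 1, ?_⟩, ⟨loSL 1, ?_⟩⟩ <;> refine congrArg proj ?_ <;>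
    apply SL_ext_two <;> simp [scHom_coe, scMat, upSL_coe, loSL_coe]

omit [Fintype F] in
theorem not_commute_up_lo {x y : F} (hx : x ≠ 0) (hy : y ≠ 0) :
    proj (upSL x) * proj (loSL y) ≠ proj (loSL y) * proj (upSL x) := by
  intro h
  rw [← map_mul, ← map_mul, proj_eq_iff] at h
  rcases h with e | e
  · have e1 := congrArg (fun z : S2 => (z : M2) 0 0) e
    simp [SL_mul_entries, upSL_coe, loSL_coe] at e1
    exact e1.elim hx hy
  · have e1 := congrArg (fun z : S2 => (z : M2) 0 1) e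
    have e2 := congrArg (fun z : S2 => (z : M2) 0 0) e
    simp [SL_mul_entries, upSL_coe, loSL_coe] at e1 e2
    have h2 : (2 : F) = 0 := by
      have : x * (2 : F) = 0 := by linear_combination e1
      exact (mul_eq_zero.mp this).resolve_left hx
    exact mul_ne_zero hx hy (by linear_combination e2 - h2)

omit [Fintype F] in
theorem isUni_upSL (x : F) : IsUni (proj (upSL x)) := by
  rw [isUni_proj, trace_upSL]; norm_num

omit [Fintype F] in
theorem isUni_loSL (x : F) : IsUni (proj (loSL x)) := by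
  rw [isUni_proj, loSL_coe, Matrix.trace_fin_two]; simp; norm_num

theorem not_inBorel_of_pslSub_le (ι : K →+* F) (w : Fˣ) {M : Subgroup P2} (h : pslSub ι w ≤ M) :
    ¬ InBorel M := by
  rintro ⟨g, hg⟩
  obtain ⟨h1, h2⟩ := proj_upSL_mem_pslSub ι w
  have m1 := mem_cen_stdUni_of_isUni (hg _ (h h1)) ((isUni_conj g).mpr (isUni_upSL _))
  have m2 := mem_cen_stdUni_of_isUni (hg _ (h h2)) ((isUni_conj g).mpr (isUni_loSL _))
  refine not_commute_up_lo w.ne_zero (inv_ne_zero w.ne_zero) ?_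
  have e := congrArg (fun z => g⁻¹ * z * g) (cen_comm stdUni_ne_one m1 m2)
  simpa [mul_assoc] using e

theorem not_inTorus_of_pslSub_le (ι : K →+* F) (w : Fˣ) (hK : 3 ≤ Fintype.card K) {M : Subgroup P2}
    (h : pslSub ι w ≤ M) : ¬ InTorus M := by
  intro hT
  rcases Nat.lt_or_ge (Fintype.card K) 4 with h4 | h4
  · -- the field with three elements: an element of order three in a torus normaliser
    have h3 : Fintype.card K = 3 := by omega
    obtain ⟨p, hchar⟩ := CharP.exists F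
    have : Fact p.Prime := ⟨CharP.char_is_prime F p⟩
    have hK3 : CharP K 3 := by
      obtain ⟨q, hq⟩ := CharP.exists K
      obtain ⟨e, hq', he⟩ := FiniteField.card K q
      have : q ∣ 3 := h3 ▸ he.symm ▸ dvd_pow_self q e.ne_zero
      exact ((Nat.prime_dvd_prime_iff_eq hq' Nat.prime_three).mp this) ▸ hq
    obtain rfl : p = 3 := CharP.eq F hchar (charP_of_injective_ringHom ι.injective 3)
    obtain ⟨b, hb, hM⟩ := hT
    obtain ⟨h1, -⟩ := proj_upSL_mem_pslSub ι w
    have hx1 : proj (upSL (w : F)) ≠ 1 := fun e => not_isScalarTwo_upSL w.ne_zero (proj_eq_one_iff.mp e)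
    rcases normalizer_cases hb (Subgroup.mem_normalizer_iff.mp (hM (h h1))) with hc | ⟨hc, -⟩
    · exact hb ((isUni_iff_of_mem_cen (ne_one_of_not_isUni hb) hx1 hc).mp (isUni_upSL _))
    · refine hx1 ?_
      have h3' := pow_char_eq_one_of_isUni 3 (isUni_upSL (w : F))
      rwa [pow_succ, sq, hc, one_mul] at h3'
  · have := hT.isSolvable
    have hs : Group.IsSolvable (pslSub ι w) :=
      solvable_of_solvable_injective (f := Subgroup.inclusion h) (Subgroup.inclusion_injective h)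
    obtain ⟨e⟩ := nonempty_pslSub_equiv ι w
    exact not_isSolvable_PSL (K := K) (by rwa [Nat.card_eq_fintype_card])
      (solvable_of_surjective (f := e.toMonoidHom) e.surjective)

/-- Overgroups of a copy of PSL_2 over a subfield of prime index. -/
theorem pslSub_overgroup (ι : K →+* F) (w : Fˣ) (hK : 3 ≤ Fintype.card K) {r : ℕ} (hr : r.Prime)
    (hq : Fintype.card K ^ r = Fintype.card F) {M : Subgroup P2} (h : pslSub ι w ≤ M) :
    M = ⊤ ∨ (Nat.card M ≤ Fintype.card K * (Fintype.card K ^ 2 - 1) ∧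
        (Odd r → Nat.card M = Nat.card (pslSub ι w))) ∨
      (r = 2 ∧ Fintype.card K = 3 ∧ Nat.card M = 60) := by
  classical
  set u := Fintype.card K with hu
  have hcard := card_pslSub_mul ι w
  rw [← hu] at hcard
  set P := pslSub ι w with hP
  have hdvd : Nat.card P ∣ Nat.card M := Subgroup.card_dvd_of_le h
  have hd0 : 0 < Nat.gcd 2 (u - 1) := Nat.gcd_pos_of_pos_left _ two_pos
  have hd2 : Nat.gcd 2 (u - 1) ≤ 2 := Nat.le_of_dvd two_pos (Nat.gcd_dvd_left 2 _)
  have hupp := FiniteField.isPrimePow_card K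
  rw [← hu] at hupp
  have hbig : u ≠ 3 → 60 ≤ Nat.card P ∧ (Nat.card P = 60 → u = 4 ∨ u = 5) := by
    intro h3
    rcases (show u = 4 ∨ u = 5 ∨ 6 ≤ u by omega) with e | e | e
    · rw [e] at hcard ⊢; norm_num at hcard ⊢; omega
    · rw [e] at hcard ⊢; norm_num at hcard ⊢; omega
    · have h1 : 6 * 35 ≤ u * (u ^ 2 - 1) :=
        Nat.mul_le_mul e (Nat.le_sub_one_of_lt (lt_of_lt_of_le (by norm_num) (Nat.pow_le_pow_left e 2)))
      rw [← hcard] at h1
      have h2 : 6 * 35 ≤ 2 * Nat.card P := h1.trans (Nat.mul_le_mul_right _ hd2)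
      exact ⟨by omega, fun _ => by omega⟩
  have hMdvd := M.card_subgroup_dvd_card
  obtain ⟨p, hchar⟩ := CharP.exists F
  have : Fact p.Prime := ⟨CharP.char_is_prime F p⟩
  have hG := card_PSL_two_mul (F := F)
  have hcard3 : u = 3 → Nat.card P = 12 := fun e => by
    rw [e, show Nat.gcd 2 (3 - 1) = 2 from rfl, show 3 * (3 ^ 2 - 1) = 24 from rfl] at hcard
    omega
  have hodd3 : u = 3 → Odd r → ∀ c, c = 24 ∨ c = 60 → Nat.card M ≠ c := by
    intro e hro c hc hMc
    obtain ⟨i, rfl⟩ := hro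
    rw [hMc] at hMdvd
    obtain ⟨j, hj⟩ := hMdvd
    have hqi : Fintype.card F = 3 * 9 ^ i := by
      rw [← hq, e, pow_succ, pow_mul, mul_comm]; norm_num
    have hdF : Nat.gcd 2 (Fintype.card F - 1) = 2 :=
      Nat.gcd_eq_left (by rw [hqi]; have : 9 ^ i % 2 = 1 := by simp [Nat.pow_mod]
                          omega)
    rw [hdF, hj, hqi] at hG
    rcases hc with rfl | rfl
    · have h8 : (9 ^ i) % 8 = 1 := by simp [Nat.pow_mod]
      obtain ⟨N, hN⟩ : ∃ N, 9 ^ i = 8 * N + 1 := ⟨9 ^ i / 8, by omega⟩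
      rw [hN, show (3 * (8 * N + 1)) ^ 2 = 16 * (36 * N * N + 9 * N) + 9 by ring,
        show 16 * (36 * N * N + 9 * N) + 9 - 1 = 8 * (2 * (36 * N * N + 9 * N) + 1) by omega,
        show 3 * (8 * N + 1) * (8 * (2 * (36 * N * N + 9 * N) + 1)) =
          48 * (8 * N * (36 * N * N + 9 * N) + 36 * N * N + 9 * N + 4 * N) + 24 by ring] at hG
      omega
    · have h9 : 9 ^ i % 5 = 1 ∨ 9 ^ i % 5 = 4 := by
        clear * -
        induction i with
        | zero => simp
        | succ n ih => rw [pow_succ]; omega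
      have hq5 : 3 * 9 ^ i % 5 = 3 ∨ 3 * 9 ^ i % 5 = 2 := by omega
      have h5 : (3 * 9 ^ i) ^ 2 % 5 = 4 := by
        rw [Nat.pow_mod]; rcases hq5 with e | e <;> rw [e] <;> norm_num
      have h2' : ((3 * 9 ^ i) ^ 2 - 1) % 5 = 3 := by omega
      have e0 : 2 * (60 * j) % 5 = 0 := by omega
      rw [hG, Nat.mul_mod, h2'] at e0
      rcases hq5 with e | e <;> rw [e] at e0 <;> norm_num at e0
  rcases shape p M with hs | hs | ⟨⟨f⟩⟩ | ⟨⟨f⟩⟩ | ⟨⟨f⟩⟩ | hs
  · exact absurd hs (not_inBorel_of_pslSub_le ι w h)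
  · exact absurd hs (not_inTorus_of_pslSub_le ι w hK h)
  · have hc : Nat.card M = 12 := (Nat.card_congr f.toEquiv).trans card_alt_four
    have hle := Nat.le_of_dvd (by omega) hdvd
    by_cases h3 : u = 3
    · exact Or.inr (Or.inl ⟨by rw [hc, h3]; norm_num, fun _ => by rw [hc, hcard3 h3]⟩)
    · have := (hbig h3).1; omega
  · have hc : Nat.card M = 24 := (Nat.card_congr f.toEquiv).trans card_sym_four
    have hle := Nat.le_of_dvd (by omega) hdvd
    by_cases h3 : u = 3
    · exact Or.inr (Or.inl ⟨by rw [hc, h3]; norm_num, fun ho => absurd hc (hodd3 h3 ho 24 (Or.inl rfl))⟩)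
    · have := (hbig h3).1; omega
  · have hc : Nat.card M = 60 := (Nat.card_congr f.toEquiv).trans card_alt_five
    have hle := Nat.le_of_dvd (by omega) hdvd
    by_cases h3 : u = 3
    · refine Or.inr (Or.inr ⟨?_, h3, hc⟩)
      exact hr.eq_two_or_odd'.resolve_right fun ho => hodd3 h3 ho 60 (Or.inr rfl) hc
    · obtain ⟨hb, hb'⟩ := hbig h3
      have e : Nat.card P = 60 := by omega
      refine Or.inr (Or.inl ⟨?_, fun _ => hc.trans e.symm⟩)
      rcases hb' e with e' | e' <;> rw [hc, e'] <;> norm_num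
  · obtain ⟨v, m, hv, hm1, hvm, hMc⟩ := hs.exists_card
    rcases hs.eq_top_of_card with htop | ⟨_, _, _, _, _, _⟩
    · exact Or.inl htop
    by_cases htop : M = ⊤
    · exact Or.inl htop
    have hm2 : 2 ≤ m := by
      by_contra hm2
      obtain rfl : m = 1 := by omega
      rw [pow_one] at hvm
      refine htop (Subgroup.eq_top_of_card_eq _ (le_antisymm (Subgroup.card_le_card_group M) ?_))
      rw [hvm] at hMc
      rcases hMc with e | ⟨e, -⟩
      · exact (Nat.eq_of_mul_eq_mul_left (Nat.gcd_pos_of_pos_left _ two_pos) (e.trans hG.symm)).ge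
      · rw [e, ← hG]
        exact Nat.le_mul_of_pos_left _ (Nat.gcd_pos_of_pos_left _ two_pos)
    -- the two fields agree
    have huv : v = u := by
      obtain ⟨p', e, hp', he0, hpe⟩ := hupp
      rw [← Nat.prime_iff] at hp'
      have hvdvd : v ∣ p' ^ (e * r) := by
        rw [pow_mul, hpe, hq, ← hvm]
        exact dvd_pow_self v (by omega)
      obtain ⟨b, -, rfl⟩ := (Nat.dvd_prime_pow hp').mp hvdvd
      have hbm : b * m = e * r := by
        apply Nat.pow_right_injective hp'.two_le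
        show p' ^ (b * m) = p' ^ (e * r)
        rw [pow_mul, pow_mul, hvm, hpe, hq]
      have hdiv : u * (u ^ 2 - 1) ∣ 2 * (p' ^ b * ((p' ^ b) ^ 2 - 1)) := by
        have h1 : Nat.card M ∣ p' ^ b * ((p' ^ b) ^ 2 - 1) := by
          rcases hMc with e | ⟨e, -⟩
          · exact e ▸ dvd_mul_left _ _
          · rw [e]
        rw [← hcard]
        exact Nat.mul_dvd_mul (Nat.gcd_dvd_left 2 _) (hdvd.trans h1)
      have h2 : p' ^ (2 * e) - 1 ∣ 2 * (p' ^ (2 * b) - 1) := by
        have hd1 : u ^ 2 - 1 ∣ p' ^ b * (2 * ((p' ^ b) ^ 2 - 1)) := by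
          rw [mul_left_comm]
          exact (dvd_mul_left _ u).trans hdiv
        have hcop : Nat.Coprime (u ^ 2 - 1) (p' ^ b) := by
          refine Nat.Coprime.pow_right _ ((hp'.coprime_iff_not_dvd.mpr fun hdd => ?_).symm)
          have h1 : p' ∣ u ^ 2 := dvd_pow (hpe ▸ dvd_pow_self p' (by omega)) two_ne_zero
          have h2 := Nat.dvd_sub h1 hdd
          rw [Nat.sub_sub_self (Nat.one_le_pow _ _ (by omega))] at h2
          exact hp'.not_dvd_one h2
        have := hcop.dvd_of_dvd_mul_left hd1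
        rwa [← hpe, ← pow_mul, ← pow_mul, mul_comm e, mul_comm b] at this
      obtain ⟨i, hi⟩ : e ∣ b := Nat.dvd_of_mul_dvd_mul_left two_pos
        (dvd_of_pow_sub_one_dvd hp'.two_le (by omega) h2)
      rw [hi, mul_assoc] at hbm
      have him : i * m = r := Nat.eq_of_mul_eq_mul_left he0 hbm
      rcases (Nat.dvd_prime hr).mp (Dvd.intro _ him) with hi1 | hi1
      · rw [hi, hi1, mul_one, hpe]
      · exfalso
        rw [hi1] at him
        have : r * 2 ≤ r * m := Nat.mul_le_mul_left r hm2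
        have := hr.pos
        omega
    subst huv
    have hmr : m = r := Nat.pow_right_injective hupp.two_le (hvm.trans hq.symm)
    subst hmr
    refine Or.inr (Or.inl ⟨?_, fun ho => ?_⟩)
    · rcases hMc with e | ⟨e, -⟩
      · rw [← e]; exact Nat.le_mul_of_pos_left _ hd0
      · exact e.le
    · rcases hMc with e | ⟨e, hev⟩
      · exact Nat.eq_of_mul_eq_mul_left hd0 (e.trans hcard.symm)
      · rcases Nat.even_or_odd u with hve | hvo
        · have : Nat.gcd 2 (u - 1) = 1 := Nat.prime_two.coprime_iff_not_dvd.mpr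
            (fun hdd => by obtain ⟨j, hj⟩ := hve; omega)
          rw [this, one_mul] at hcard
          rw [e, hcard]
        · exact absurd (hev hvo) (Nat.not_even_iff_odd.mpr ho)

theorem isCoatom_pslSub (ι : K →+* F) (hK : 3 ≤ Fintype.card K) {r : ℕ} (hr : r.Prime)
    (hq : Fintype.card K ^ r = Fintype.card F) (h2 : Odd r ∨ Even (Fintype.card K)) :
    IsCoatom (pslSub ι (1 : Fˣ)) := by
  have hcard := card_pslSub_mul ι (1 : Fˣ)
  have hlt : Fintype.card K < Fintype.card F := by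
    rw [← hq]
    exact lt_self_pow₀ (by omega) hr.one_lt
  refine ⟨fun e => ?_, fun M hM => ?_⟩
  · rw [e, Subgroup.card_top] at hcard
    have hG := card_PSL_two_mul (F := F)
    set u := Fintype.card K
    set q := Fintype.card F
    set g := Nat.card (Matrix.ProjectiveSpecialLinearGroup (Fin 2) F)
    have h1 : g ≤ u * (u ^ 2 - 1) := hcard ▸ Nat.le_mul_of_pos_left _ (Nat.gcd_pos_of_pos_left _ two_pos)
    have h3 : q * (q ^ 2 - 1) ≤ 2 * (u * (u ^ 2 - 1)) :=
      hG ▸ Nat.mul_le_mul (Nat.le_of_dvd two_pos (Nat.gcd_dvd_left 2 _)) h1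
    have h4 : 2 * u ≤ q := by
      rw [← hq]
      exact (Nat.mul_le_mul_right u (by omega : 2 ≤ u)).trans
        ((sq u).ge.trans (Nat.pow_le_pow_right (by omega) hr.two_le))
    have h5 : u ^ 2 - 1 < q ^ 2 - 1 :=
      Nat.sub_lt_sub_right (Nat.one_le_pow _ _ (by omega)) (Nat.pow_lt_pow_left hlt two_ne_zero)
    have : 2 * u * (u ^ 2 - 1) < q * (q ^ 2 - 1) :=
      lt_of_le_of_lt (Nat.mul_le_mul_right _ h4) (Nat.mul_lt_mul_of_pos_left h5 (by omega))
    rw [← mul_assoc] at h3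
    omega
  · rcases pslSub_overgroup ι 1 hK hr hq hM.le with h | ⟨h, ho⟩ | ⟨h, h', -⟩
    · exact h
    · exfalso
      refine hM.ne (Subgroup.eq_of_le_of_card_ge hM.le ?_)
      rcases h2 with h2 | ⟨j, hj⟩
      · exact (ho h2).le
      · have hd : Nat.gcd 2 (Fintype.card K - 1) = 1 :=
          Nat.prime_two.coprime_iff_not_dvd.mpr fun hdd => by omega
        rw [hd, one_mul] at hcard
        exact h.trans hcard.ge
    · exfalso
      rcases h2 with h2 | ⟨j, hj⟩
      · rw [h] at h2; exact absurd h2 (by decide)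
      · omega

theorem isCoatom_pglSub (ι : K →+* F) (hK : 3 ≤ Fintype.card K)
    (hq : Fintype.card K ^ 2 = Fintype.card F) {lam : Fˣ} {ν : Kˣ}
    (hν : ι (ν : K) = (lam : F) ^ 2) (hgen : ∀ δ : Kˣ, δ ∈ Subgroup.zpowers ν) :
    IsCoatom (pglSub ι (1 : Fˣ) lam) := by
  have hcard := card_pglSub ι (1 : Fˣ) hν hgen
  refine ⟨fun e => ?_, fun M hM => ?_⟩
  · rw [e, Subgroup.card_top] at hcard
    have hG := card_PSL_two_mul (F := F)
    rw [hcard] at hG
    have hd : Nat.gcd 2 (Fintype.card F - 1) ≤ 2 := Nat.le_of_dvd two_pos (Nat.gcd_dvd_left 2 _)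
    set u := Fintype.card K
    rw [← hq] at hG hd
    have h1 : u ^ 2 * ((u ^ 2) ^ 2 - 1) ≤ 2 * (u * (u ^ 2 - 1)) := hG ▸ Nat.mul_le_mul_right _ hd
    have h2 : u ^ 2 - 1 ≤ (u ^ 2) ^ 2 - 1 := Nat.sub_le_sub_right (Nat.le_self_pow two_ne_zero _) 1
    have h3 : 3 * (u * (u ^ 2 - 1)) ≤ u ^ 2 * ((u ^ 2) ^ 2 - 1) := by
      rw [← mul_assoc]
      exact Nat.mul_le_mul (by rw [sq]; exact Nat.mul_le_mul_right u hK) h2
    have : 0 < u * (u ^ 2 - 1) := Nat.mul_pos (by omega)
      (Nat.sub_pos_of_lt (Nat.one_lt_pow two_ne_zero (by omega)))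
    omega
  · rcases pslSub_overgroup ι 1 hK Nat.prime_two hq ((pslSub_le_pglSub ι 1 lam).trans hM.le) with
      h | ⟨h, -⟩ | ⟨-, h', h60⟩
    · exact h
    · exfalso
      exact hM.ne (Subgroup.eq_of_le_of_card_ge hM.le (h.trans hcard.ge))
    · exfalso
      have := Subgroup.card_dvd_of_le hM.le
      rw [hcard, h', h60] at this
      norm_num at this

theorem not_pglSub_of_odd {m : ℕ} (hm : Odd m) (hodd : Odd (Fintype.card K))
    (h : Fintype.card K ^ m = Fintype.card F) {H : Subgroup P2}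
    (hH : Nat.card H = Fintype.card K * (Fintype.card K ^ 2 - 1)) : False := by
  set u := Fintype.card K with hu
  obtain ⟨S, hS, hS'⟩ := exists_odd_factor (hodd.pow (n := 2)) hm
  obtain ⟨X, hX⟩ := H.card_subgroup_dvd_card
  have hG := card_PSL_two_mul (F := F)
  have hd : Nat.gcd 2 (Fintype.card F - 1) = 2 := Nat.gcd_eq_left (by
    have := Nat.odd_iff.mp (h ▸ hodd.pow (n := m))
    omega)
  rw [hd, hX, hH, ← h, ← pow_mul, mul_comm m 2, pow_mul, hS'] at hG
  have h2 : 0 < u ^ 2 - 1 := Nat.sub_pos_of_lt (Nat.one_lt_pow two_ne_zero Fintype.one_lt_card)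
  have e : 2 * (u * X) = u ^ m * S := Nat.eq_of_mul_eq_mul_left h2 (by linarith)
  exact Nat.not_even_iff_odd.mpr ((hodd.pow (n := m)).mul hS) (e ▸ even_two_mul _)

end Cfsg.Agent.Linear.Dickson
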