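import Cfsg.Agent.Linear.Dickson.ClassEquation
import Cfsg.Agent.PGroups.TwoGroups
import Cfsg.Agent.H66.OrderSixty
import Cfsg.Agent.S0228

/-!
Recognition of the small groups occurring in Dickson's theorem.
-/

namespace Cfsg.Agent.Linear.Dickson

variable {G : Type*} [Group G] [Finite G]

/-- A group with a cyclic subgroup of index two inverted by an outside involution is dihedral. -/
theorem iso_dihedral_of_inverter (A : Subgroup G) [IsCyclic A] (hA : Nat.card G = 2 * Nat.card A)
    {w : G} (hw : w ∉ A) (hw2 : w * w = 1) (hinv : ∀ y ∈ A, w * y * w⁻¹ = y⁻¹) :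
    Nonempty (G ≃* DihedralGroup (Nat.card A)) := by
  obtain ⟨c, hc⟩ := IsCyclic.exists_generator (α := A)
  have hz : Subgroup.zpowers (c : G) = A := by
    refine le_antisymm (Subgroup.zpowers_le.mpr c.2) fun a ha => ?_
    obtain ⟨k, hk⟩ := hc ⟨a, ha⟩
    exact ⟨k, by simpa using congrArg Subtype.val hk⟩
  have hord : orderOf (c : G) = Nat.card A := by rw [← Nat.card_zpowers, hz]
  have : NeZero (Nat.card A) := ⟨Nat.card_pos.ne'⟩
  exact Cfsg.Agent.PGroups.nonempty_mulEquiv_dihedral hord (hz.symm ▸ hw) (by rw [sq, hw2])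
    (hinv _ c.2) hA

/-- Order twelve, and some element commutes with no involution: alternating of degree four. -/
theorem iso_altFour {y : G} (hG : Nat.card G = 12) (h : ∀ z : G, orderOf z = 2 → z * y ≠ y * z) :
    Nonempty (G ≃* alternatingGroup (Fin 4)) :=
  Cfsg.Agent.S0228.result hG fun z hz hc => h z hz (Subgroup.mem_center_iff.mp hc y).symm

namespace CenPartition

variable (P : CenPartition G)

theorem mem_nor_of_commute {x z : G} (hx : x ≠ 1) (h : z * x = x * z) : z ∈ P.nor x :=
  P.cen_eq_of_conj hx hx (P.mem_self x) (P.mem_self x) (by rw [h, mul_inv_cancel_right])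

theorem zpowers_eq_of_prime {y : G} (hy : y ≠ 1) {p : ℕ} (hp : p.Prime)
    (hc : Nat.card (P.cen y) = p) : Subgroup.zpowers y = P.cen y ∧ orderOf y = p := by
  have hle : Subgroup.zpowers y ≤ P.cen y := Subgroup.zpowers_le.mpr (P.mem_self y)
  have hd : orderOf y ∣ p := by
    rw [← hc, ← Nat.card_zpowers]
    exact Subgroup.card_dvd_of_le hle
  have ho : orderOf y = p := ((Nat.dvd_prime hp).mp hd).resolve_left fun e => hy (orderOf_eq_one_iff.mp e)
  exact ⟨Subgroup.eq_of_le_of_card_ge hle (by rw [Nat.card_zpowers, ho, hc]), ho⟩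

/-- If the member is of order three and is inverted outside of itself, no involution commutes with
its generator. -/
theorem not_commute_invol {y : G} (hy : y ≠ 1) (hc : Nat.card (P.cen y) = 3)
    (hinv : ∀ g ∈ P.nor y, g ∈ P.cen y ∨ g * y * g⁻¹ = y⁻¹) :
    ∀ z : G, orderOf z = 2 → z * y ≠ y * z := by
  intro z hz hzy
  rcases hinv z (P.mem_nor_of_commute hy hzy) with h | h
  · have : orderOf z ∣ 3 := by
      rw [← hc, ← Nat.card_zpowers]
      exact Subgroup.card_dvd_of_le (Subgroup.zpowers_le.mpr h)
    rw [hz] at this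
    omega
  · rw [hzy, mul_inv_cancel_right] at h
    have : orderOf y ∣ 2 := orderOf_dvd_of_pow_eq_one (by rw [sq]; exact mul_eq_one_iff_eq_inv.mpr h)
    rw [(P.zpowers_eq_of_prime hy Nat.prime_three hc).2] at this
    omega

/-- Order 24 with a member of order three inverted in its normaliser of order six: symmetric of
degree four. -/
theorem iso_symFour {y : G} (hG : Nat.card G = 24) (hy : y ≠ 1) (hc : Nat.card (P.cen y) = 3)
    (hn : Nat.card (P.nor y) = 6) (hinv : ∀ g ∈ P.nor y, g ∈ P.cen y ∨ g * y * g⁻¹ = y⁻¹) :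
    Nonempty (G ≃* Equiv.Perm (Fin 4)) := by
  classical
  set N := P.nor y with hN
  have hidx : N.index = 4 := by
    have := N.card_mul_index
    rw [hn, hG] at this
    omega
  let e : G ⧸ N ≃ Fin 4 := Finite.equivFinOfCardEq hidx
  let f : G →* Equiv.Perm (Fin 4) := e.permCongrHom.toMonoidHom.comp (MulAction.toPermHom G (G ⧸ N))
  have hker : f.ker = N.normalCore := by
    rw [Subgroup.normalCore_eq_ker]
    ext z
    simp [f, MonoidHom.mem_ker]
  have hord := (P.zpowers_eq_of_prime hy Nat.prime_three hc)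
  have hne : y⁻¹ ≠ y := fun e => by
    have : orderOf y ∣ 2 := orderOf_dvd_of_pow_eq_one (by
      rw [sq]; exact mul_eq_one_iff_eq_inv.mpr e.symm)
    rw [hord.2] at this
    omega
  have hthree : ∀ g ∈ N, g * g * g = 1 → g ∈ P.cen y := fun g hg h3 => by
    refine (hinv g hg).resolve_right fun h => hne ?_
    have h' : g * y⁻¹ * g⁻¹ = y := by
      have e := congrArg (·⁻¹) h
      simpa [mul_assoc] using e
    calc y⁻¹ = g * y * g⁻¹ := h.symm
      _ = g * (g * y⁻¹ * g⁻¹) * g⁻¹ := by rw [h']
      _ = g * (g * (g * y * g⁻¹) * g⁻¹) * g⁻¹ := by rw [h]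
      _ = (g * g * g) * y * (g * g * g)⁻¹ := by group
      _ = y := by rw [h3]; group
  have hy3 : y * y * y = 1 := by rw [← pow_three', ← hord.2, pow_orderOf_eq_one]
  have hycore : y ∉ N.normalCore := fun hyc => by
    have hall : ∀ g : G, g ∈ N := fun g => by
      have hm : g * y * g⁻¹ ∈ N := N.normalCore_le (N.normalCore_normal.conj_mem y hyc g)
      refine P.cen_eq_of_conj hy hy (P.mem_self y) (hthree _ hm ?_) rfl
      calc g * y * g⁻¹ * (g * y * g⁻¹) * (g * y * g⁻¹) = g * (y * y * y) * g⁻¹ := by group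
        _ = 1 := by rw [hy3]; group
    rw [(Subgroup.eq_top_iff' N).mpr hall, Subgroup.index_top] at hidx
    omega
  have hbot : N.normalCore = ⊥ := by
    rw [Subgroup.eq_bot_iff_forall]
    intro k hk
    by_contra hk1
    rcases hinv k (N.normalCore_le hk) with h | h
    · have ho : orderOf k = 3 := by
        have hd : orderOf k ∣ 3 := by
          rw [← hc, ← Nat.card_zpowers]
          exact Subgroup.card_dvd_of_le (Subgroup.zpowers_le.mpr h)
        exact ((Nat.dvd_prime Nat.prime_three).mp hd).resolve_left fun e => hk1 (orderOf_eq_one_iff.mp e)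
      refine hycore (Subgroup.zpowers_le.mpr hk ?_)
      rw [Subgroup.eq_of_le_of_card_ge (Subgroup.zpowers_le.mpr h) (by rw [Nat.card_zpowers, ho, hc])]
      exact P.mem_self y
    · refine hycore ?_
      have hm : k * (y * k⁻¹ * y⁻¹) ∈ N.normalCore :=
        N.normalCore.mul_mem hk (N.normalCore_normal.conj_mem _ (N.normalCore.inv_mem hk) y)
      have e : k * (y * k⁻¹ * y⁻¹) = y :=
        calc k * (y * k⁻¹ * y⁻¹) = k * y * k⁻¹ * y⁻¹ := by group
          _ = y⁻¹ * y⁻¹ * (y * y * y) := by rw [h, hy3, mul_one]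
          _ = y := by group
      rwa [e] at hm
  have hinj : Function.Injective f := (MonoidHom.ker_eq_bot_iff f).mp (hker.trans hbot)
  have hcard : Nat.card (Equiv.Perm (Fin 4)) = 24 := by
    rw [Nat.card_eq_fintype_card, Fintype.card_perm, Fintype.card_fin]; rfl
  exact ⟨MulEquiv.ofBijective f (hinj.bijective_of_nat_card_le (by omega))⟩

/-- Order 60 with a member of order five whose normaliser has order ten: alternating of degree five. -/
theorem iso_altFive' {y : G} (hG : Nat.card G = 60) (hy : y ≠ 1) (hc : Nat.card (P.cen y) = 5)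
    (hn : Nat.card (P.nor y) = 10) : Nonempty (G ≃* alternatingGroup (Fin 5)) := by
  refine Cfsg.Agent.H66.iso_altFive hG fun h1 => ?_
  have : Fact (Nat.Prime 5) := ⟨by norm_num⟩
  obtain ⟨S, hS⟩ := (IsPGroup.of_card (p := 5) (n := 1) (G := P.cen y) (by rw [hc, pow_one])).exists_le_sylow
  have h5 : Nat.card (S : Subgroup G) = 5 := by
    rw [show Nat.card (S : Subgroup G) = Nat.card S from rfl, S.card_eq_multiplicity, hG,
      show (60 : ℕ) = 5 ^ 1 * 12 from rfl, Nat.factorization_mul (by norm_num) (by norm_num),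
      Finsupp.add_apply, (show Nat.Prime 5 by norm_num).factorization_pow,
      Nat.factorization_eq_zero_of_not_dvd (n := 12) (by norm_num)]
    simp
  have e : P.cen y = (S : Subgroup G) := Subgroup.eq_of_le_of_card_ge hS (by omega)
  have h10 : P.nor y = Subgroup.normalizer ((S : Subgroup G) : Set G) := by rw [nor, e]
  have := S.card_eq_index_normalizer
  rw [h1] at this
  replace this : 1 = (P.nor y).index := by rw [h10]; exact this
  have hm := (P.nor y).card_mul_index
  rw [← this, hn, hG] at hm
  omega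

end CenPartition

end Cfsg.Agent.Linear.Dickson
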