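import Cfsg.Agent.Linear.Dickson.Setting
import Cfsg.Agent.Linear.Dickson.Scaled
import Cfsg.Agent.Linear.Dickson.Identify

/-!
Dickson's theorem: subgroups without elements of unipotent type.
-/

namespace Cfsg.Agent.Linear.Dickson

open Matrix Cfsg.Agent.Linear

/-- The list in Dickson's theorem, as a property of an abstract group. -/
def Concl (F : Type*) [Field F] (q p : ℕ) (G : Type*) [Group G] : Prop :=
  (∃ k : ℕ, (k ∣ (q + 1) / Nat.gcd 2 (q - 1) ∨ k ∣ (q - 1) / Nat.gcd 2 (q - 1)) ∧
      ((IsCyclic G ∧ Nat.card G = k) ∨ Nonempty (G ≃* DihedralGroup k))) ∨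
    (∃ (P : Sylow p (Matrix.ProjectiveSpecialLinearGroup (Fin 2) F))
      (K : Subgroup (Matrix.ProjectiveSpecialLinearGroup (Fin 2) F)),
      K ≤ Subgroup.normalizer ((P : Subgroup (Matrix.ProjectiveSpecialLinearGroup (Fin 2) F)) :
        Set (Matrix.ProjectiveSpecialLinearGroup (Fin 2) F)) ∧ Nonempty (G ≃* K)) ∨
    Nonempty (G ≃* alternatingGroup (Fin 4)) ∨ Nonempty (G ≃* Equiv.Perm (Fin 4)) ∨
    Nonempty (G ≃* alternatingGroup (Fin 5)) ∨
    (∃ (K : Type) (_ : Field K) (_ : Fintype K) (m : ℕ), Fintype.card K ^ m = q ∧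
      (Nonempty (G ≃* Matrix.ProjectiveSpecialLinearGroup (Fin 2) K) ∨
        Nonempty (G ≃* Matrix.ProjGenLinGroup (Fin 2) K)))

theorem Concl.congr {F : Type*} [Field F] {q p : ℕ} {G G' : Type*} [Group G] [Group G'] (e : G ≃* G')
    (h : Concl F q p G) : Concl F q p G' := by
  rcases h with ⟨k, hk, ⟨hc, hcard⟩ | ⟨⟨f⟩⟩⟩ | ⟨P, K, hK, ⟨f⟩⟩ | ⟨⟨f⟩⟩ | ⟨⟨f⟩⟩ | ⟨⟨f⟩⟩ |
    ⟨K, iK, iK', m, hm, ⟨⟨f⟩⟩ | ⟨⟨f⟩⟩⟩
  · exact Or.inl ⟨k, hk, Or.inl ⟨isCyclic_of_surjective e e.surjective, by rw [← hcard, Nat.card_congr e.toEquiv]⟩⟩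
  · exact Or.inl ⟨k, hk, Or.inr ⟨e.symm.trans f⟩⟩
  · exact Or.inr (Or.inl ⟨P, K, hK, ⟨e.symm.trans f⟩⟩)
  · exact Or.inr (Or.inr (Or.inl ⟨e.symm.trans f⟩))
  · exact Or.inr (Or.inr (Or.inr (Or.inl ⟨e.symm.trans f⟩)))
  · exact Or.inr (Or.inr (Or.inr (Or.inr (Or.inl ⟨e.symm.trans f⟩))))
  · exact Or.inr (Or.inr (Or.inr (Or.inr (Or.inr ⟨K, iK, iK', m, hm, Or.inl ⟨e.symm.trans f⟩⟩))))
  · exact Or.inr (Or.inr (Or.inr (Or.inr (Or.inr ⟨K, iK, iK', m, hm, Or.inr ⟨e.symm.trans f⟩⟩))))

section Shape

variable {F : Type*} [Field F]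

local notation "P2" => Matrix.ProjectiveSpecialLinearGroup (Fin 2) F

/-- Contained in a conjugate of the standard Borel subgroup. -/
def InBorel (H : Subgroup P2) : Prop := ∃ g : P2, ∀ h ∈ H, g * h * g⁻¹ ∈ borel F

/-- Contained in the normaliser of a torus. -/
def InTorus (H : Subgroup P2) : Prop :=
  ∃ a : P2, ¬ IsUni a ∧ H ≤ Subgroup.normalizer ((cen a) : Set P2)

/-- A conjugate of a scaled copy of PSL_2 or PGL_2 over a finite field embedded in F. -/
def IsSubfield (H : Subgroup P2) : Prop :=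
  ∃ (K : Type) (_ : Field K) (_ : Fintype K) (ι : K →+* F) (g : P2) (w : Fˣ),
    H = (pslSub ι w).map (MulAut.conj g).toMonoidHom ∨
      ∃ (lam : Fˣ) (ν : Kˣ), ι (ν : K) = (lam : F) ^ 2 ∧ (∀ δ : Kˣ, δ ∈ Subgroup.zpowers ν) ∧
        H = (pglSub ι w lam).map (MulAut.conj g).toMonoidHom

/-- The strong form of the list in Dickson's theorem. -/
def Shape (H : Subgroup P2) : Prop :=
  InBorel H ∨ InTorus H ∨ Nonempty (H ≃* alternatingGroup (Fin 4)) ∨ Nonempty (H ≃* Equiv.Perm (Fin 4)) ∨
    Nonempty (H ≃* alternatingGroup (Fin 5)) ∨ IsSubfield H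

theorem map_conj_mul (H : Subgroup P2) (g h : P2) :
    (H.map (MulAut.conj g).toMonoidHom).map (MulAut.conj h).toMonoidHom =
      H.map (MulAut.conj (h * g)).toMonoidHom := by
  rw [Subgroup.map_map]
  congr 1
  ext x
  simp [mul_assoc]

theorem map_conj_one (H : Subgroup P2) : H.map (MulAut.conj (1 : P2)).toMonoidHom = H := by
  ext x
  simp

theorem mem_map_conj {H : Subgroup P2} {g x : P2} :
    x ∈ H.map (MulAut.conj g).toMonoidHom ↔ g⁻¹ * x * g ∈ H := by
  rw [Subgroup.mem_map_equiv]
  simp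

theorem conj_mem_map_conj {H : Subgroup P2} {g x : P2} (hx : x ∈ H) :
    g * x * g⁻¹ ∈ H.map (MulAut.conj g).toMonoidHom := Subgroup.mem_map_of_mem _ hx

theorem Shape.of_conj {H : Subgroup P2} {g : P2} (h : Shape (H.map (MulAut.conj g).toMonoidHom)) :
    Shape H := by
  let e : H ≃* H.map (MulAut.conj g).toMonoidHom := H.equivMapOfInjective _ (MulAut.conj g).injective
  rcases h with ⟨k, hk⟩ | ⟨a, ha, hk⟩ | ⟨⟨f⟩⟩ | ⟨⟨f⟩⟩ | ⟨⟨f⟩⟩ | ⟨K, iK, iK', ι, k, w, hk⟩
  · refine Or.inl ⟨k * g, fun x hx => ?_⟩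
    have := hk _ (conj_mem_map_conj hx)
    simpa [mul_assoc] using this
  · refine Or.inr (Or.inl ⟨g⁻¹ * a * g, by
      have := isUni_conj g (x := g⁻¹ * a * g)
      rw [show g * (g⁻¹ * a * g) * g⁻¹ = a by group] at this
      rwa [← this], fun x hx => ?_⟩)
    have hn := Subgroup.mem_normalizer_iff.mp (hk (conj_mem_map_conj (g := g) hx))
    rw [Subgroup.mem_normalizer_iff]
    intro y
    have h1 := mem_cen_conj g (g⁻¹ * a * g) y
    have h2 := mem_cen_conj g (g⁻¹ * a * g) (x * y * x⁻¹)
    rw [show g * (g⁻¹ * a * g) * g⁻¹ = a by group] at h1 h2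
    rw [← h1, ← h2, hn (g * y * g⁻¹)]
    simp [mul_assoc]
  · exact Or.inr (Or.inr (Or.inl ⟨e.trans f⟩))
  · exact Or.inr (Or.inr (Or.inr (Or.inl ⟨e.trans f⟩)))
  · exact Or.inr (Or.inr (Or.inr (Or.inr (Or.inl ⟨e.trans f⟩))))
  · have back : ∀ X : Subgroup P2, H.map (MulAut.conj g).toMonoidHom = X.map (MulAut.conj k).toMonoidHom →
        H = X.map (MulAut.conj (g⁻¹ * k)).toMonoidHom := fun X hX => by
      rw [← map_conj_mul, ← hX, map_conj_mul, inv_mul_cancel, map_conj_one]
    refine Or.inr (Or.inr (Or.inr (Or.inr (Or.inr ⟨K, iK, iK', ι, g⁻¹ * k, w, ?_⟩))))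
    rcases hk with hk | ⟨lam, ν, h1, h2, hk⟩
    · exact Or.inl (back _ hk)
    · exact Or.inr ⟨lam, ν, h1, h2, back _ hk⟩

end Shape

namespace CenPartition

variable {G : Type*} [Group G] [Finite G] (P : CenPartition G)

theorem weight_of_eq {x : G} (h : Nat.card (P.nor x) = Nat.card (P.cen x)) :
    P.weight x = 1 - 1 / (Nat.card (P.cen x) : ℚ) := by
  have : (Nat.card (P.cen x) : ℚ) ≠ 0 := by exact_mod_cast Nat.card_pos.ne'
  rw [weight, h]
  field_simp

theorem weight_of_double {x : G} (h : Nat.card (P.nor x) = 2 * Nat.card (P.cen x)) :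
    P.weight x = 1 / 2 - 1 / (2 * (Nat.card (P.cen x) : ℚ)) := by
  have : (Nat.card (P.cen x) : ℚ) ≠ 0 := by exact_mod_cast Nat.card_pos.ne'
  rw [weight, h]
  push_cast
  field_simp

end CenPartition

variable {F : Type*} [Field F] [Fintype F] 
  {H : Subgroup (Matrix.ProjectiveSpecialLinearGroup (Fin 2) F)}

theorem part_inv_cases {a : H} (ha : a ≠ 1) (ht : ¬ IsUni (a : Matrix.ProjectiveSpecialLinearGroup (Fin 2) F)) :
    ∀ g ∈ (part H).nor a, g ∈ (part H).cen a ∨ g * a * g⁻¹ = a⁻¹ :=
  fun _ hg => (part_normalizer_cases ha ht hg).imp_right fun h => h.2 a ((part H).mem_self a)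

theorem card_part_dvd_torus {q : ℕ} (hF : Fintype.card F = q) {a : H}
    (ht : ¬ IsUni (a : Matrix.ProjectiveSpecialLinearGroup (Fin 2) F)) :
    Nat.card ((part H).cen a) ∣ (q + 1) / Nat.gcd 2 (q - 1) ∨
      Nat.card ((part H).cen a) ∣ (q - 1) / Nat.gcd 2 (q - 1) := by
  subst hF
  exact (card_cen_dvd ht).symm.imp (card_part_dvd a).trans (card_part_dvd a).trans

/-- A torus normaliser which is the whole group. -/
theorem shape_of_nor_eq {a : H} (ha : a ≠ 1)
    (ht : ¬ IsUni (a : Matrix.ProjectiveSpecialLinearGroup (Fin 2) F))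
    (h2 : Nat.card ((part H).nor a) = 2 * Nat.card ((part H).cen a))
    (hg : Nat.card H = 2 * Nat.card ((part H).cen a)) : Shape H := by
  have htop : (part H).nor a = ⊤ := Subgroup.eq_top_of_card_eq _ (h2.trans hg.symm)
  refine Or.inr (Or.inl ⟨a, ht, fun x hx => ?_⟩)
  rw [Subgroup.mem_normalizer_iff]
  exact global_normalises ha (htop ▸ Subgroup.mem_top (⟨x, hx⟩ : H))

theorem shape_altFour {a : H} (ha : a ≠ 1) (ht : ¬ IsUni (a : Matrix.ProjectiveSpecialLinearGroup (Fin 2) F))
    (hc : Nat.card ((part H).cen a) = 3) (hg : Nat.card H = 12) : Shape H :=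
  Or.inr (Or.inr (Or.inl (iso_altFour hg
    ((part H).not_commute_invol ha hc (part_inv_cases ha ht)))))

/-- Subgroups without elements of unipotent type. -/
theorem shape_of_no_uni
    (hn : ∀ a : H, a ≠ 1 → ¬ IsUni (a : Matrix.ProjectiveSpecialLinearGroup (Fin 2) F)) :
    Shape H := by
  classical
  obtain ⟨S, -, hS⟩ := (part H).exists_reps ∅ (by simp) (by simp)
  have hsum := (part H).sum_weight hS
  set g := Nat.card H with hgdef
  have hgpos : (0 : ℚ) < g := by exact_mod_cast (Nat.card_pos : 0 < Nat.card H)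
  have hg1 : (0 : ℚ) < 1 / g := by positivity
  have hne := hS.ne_one
  have htor : ∀ x ∈ S, (part H).IsTor x := fun x hx => isTor (hne x hx) (hn x (hne x hx))
  have hlow : ∀ x ∈ S, (1 : ℚ) / 4 ≤ (part H).weight x := fun x hx =>
    (part H).quarter_le_weight (hne x hx) (htor x hx)
  have hlow' : ∀ x ∈ S, Nat.card ((part H).nor x) = Nat.card ((part H).cen x) →
      (1 : ℚ) / 2 ≤ (part H).weight x := fun x hx => (part H).half_le_weight (hne x hx)
  have h4 : S.card ≤ 3 := by
    by_contra h
    have h' : (4 : ℚ) ≤ S.card := by exact_mod_cast (by omega : 4 ≤ S.card)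
    have := Finset.card_nsmul_le_sum S _ _ hlow
    rw [hsum, nsmul_eq_mul] at this
    linarith
  have htwo : ∀ x : H, x ≠ 1 → (2 : ℚ) ≤ Nat.card ((part H).cen x) := fun x hx => by
    exact_mod_cast (part H).two_le_card hx
  have hcases : S.card = 0 ∨ S.card = 1 ∨ S.card = 2 ∨ S.card = 3 := by omega
  rcases hcases with h | h | h | h
  · -- trivial group
    rw [Finset.card_eq_zero.mp h, Finset.sum_empty] at hsum
    have hg : (g : ℚ) = 1 := by field_simp at hsum; linarith
    have hg' : g = 1 := by exact_mod_cast hg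
    have : Subsingleton H := (Nat.card_eq_one_iff_unique.mp hg').1
    refine Or.inl ⟨1, fun x hx => ?_⟩
    rw [show x = ((1 : H) : Matrix.ProjectiveSpecialLinearGroup (Fin 2) F) from
      congrArg Subtype.val (Subsingleton.elim (⟨x, hx⟩ : H) 1)]
    simp
  · -- cyclic
    obtain ⟨x, rfl⟩ := Finset.card_eq_one.mp h
    rw [Finset.sum_singleton] at hsum
    have hx := hne x (Finset.mem_singleton_self x)
    rcases htor x (Finset.mem_singleton_self x) with h1 | h1
    · rw [(part H).weight_of_eq h1] at hsum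
      have e : (Nat.card ((part H).cen x) : ℚ) = g := inv_injective (by rw [← one_div, ← one_div]; linarith)
      have e' : Nat.card ((part H).cen x) = g := by exact_mod_cast e
      have htop : (part H).cen x = ⊤ := Subgroup.eq_top_of_card_eq _ e'
      refine Or.inr (Or.inl ⟨x, hn x hx, fun z hz => Subgroup.le_normalizer ?_⟩)
      exact mem_part_cen.mp (htop ▸ Subgroup.mem_top (⟨z, hz⟩ : H))
    · exfalso
      rw [(part H).weight_of_double h1] at hsum
      have : (2 : ℕ) ≤ g := (by
        have := (part H).two_le_card hx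
        have := Nat.le_of_dvd Nat.card_pos (Subgroup.card_subgroup_dvd_card ((part H).cen x))
        omega)
      have hge : (1 : ℚ) / g ≤ 1 / 2 := one_div_le_one_div_of_le two_pos (by exact_mod_cast this)
      have hpos : (0 : ℚ) < 1 / (2 * (Nat.card ((part H).cen x) : ℚ)) := by
        have := htwo x hx
        positivity
      linarith
  · -- two classes
    obtain ⟨x, y, hxy, rfl⟩ := Finset.card_eq_two.mp h
    rw [Finset.sum_pair hxy] at hsum
    have hxS : x ∈ ({x, y} : Finset H) := by simp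
    have hyS : y ∈ ({x, y} : Finset H) := by simp
    have key : ∀ x y : H, x ≠ 1 → y ≠ 1 → Nat.card ((part H).nor x) = Nat.card ((part H).cen x) →
        Nat.card ((part H).nor y) = 2 * Nat.card ((part H).cen y) →
        (part H).weight x + (part H).weight y = 1 - 1 / (g : ℚ) → Shape H := by
      intro x y hx hy h1 h2 hsum
      rw [(part H).weight_of_eq h1, (part H).weight_of_double h2] at hsum
      have ha := (part H).two_le_card hx
      have hb := (part H).two_le_card hy
      set a := Nat.card ((part H).cen x) with hadef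
      set b := Nat.card ((part H).cen y) with hbdef
      have qa : (2 : ℚ) ≤ a := by exact_mod_cast ha
      have qb : (2 : ℚ) ≤ b := by exact_mod_cast hb
      have hb0 : (0 : ℚ) < 1 / (2 * b) := by positivity
      have hb4 : (1 : ℚ) / (2 * b) ≤ 1 / 4 := one_div_le_one_div_of_le (by norm_num) (by linarith)
      have ha3 : a ≤ 3 := by
        by_contra h'
        have h'' : (4 : ℚ) ≤ a := by exact_mod_cast (by omega : 4 ≤ a)
        have : (1 : ℚ) / a ≤ 1 / 4 := one_div_le_one_div_of_le (by norm_num) h''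
        linarith
      obtain e | e : a = 2 ∨ a = 3 := by omega
      · have e2 : (2 * b : ℚ) = g := inv_injective (by
          rw [← one_div, ← one_div]
          rw [e] at hsum
          push_cast at hsum
          linarith)
        have e2' : 2 * b = g := by exact_mod_cast e2
        exact shape_of_nor_eq hy (hn y hy) h2 e2'.symm
      · rw [e] at hsum
        push_cast at hsum
        have hb2 : b = 2 := by
          by_contra h'
          have h'' : (3 : ℚ) ≤ b := by exact_mod_cast (by omega : 3 ≤ b)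
          have : (1 : ℚ) / (2 * b) ≤ 1 / 6 := one_div_le_one_div_of_le (by norm_num) (by linarith)
          linarith
        rw [hb2] at hsum
        have e2 : (g : ℚ) = 12 := inv_injective (by rw [← one_div, ← one_div]; push_cast at hsum; linarith)
        exact shape_altFour hx (hn x hx) e (by exact_mod_cast e2)
    rcases htor x hxS with h1 | h1 <;> rcases htor y hyS with h2 | h2
    · linarith [hlow' x hxS h1, hlow' y hyS h2]
    · exact key x y (hne x hxS) (hne y hyS) h1 h2 hsum
    · exact key y x (hne y hyS) (hne x hxS) h2 h1 (by linarith)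
    · exfalso
      rw [(part H).weight_of_double h1, (part H).weight_of_double h2] at hsum
      have hx2 : 2 * Nat.card ((part H).cen x) ≤ g := h1 ▸ Nat.le_of_dvd Nat.card_pos ((part H).card_nor_dvd x)
      have hy2 : 2 * Nat.card ((part H).cen y) ≤ g := h2 ▸ Nat.le_of_dvd Nat.card_pos ((part H).card_nor_dvd y)
      have qx := htwo x (hne x hxS)
      have qy := htwo y (hne y hyS)
      have b1 : (1 : ℚ) / g ≤ 1 / (2 * (Nat.card ((part H).cen x) : ℚ)) :=
        one_div_le_one_div_of_le (by linarith) (by exact_mod_cast hx2)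
      have b2 : (1 : ℚ) / g ≤ 1 / (2 * (Nat.card ((part H).cen y) : ℚ)) :=
        one_div_le_one_div_of_le (by linarith) (by exact_mod_cast hy2)
      linarith
  · -- three classes
    obtain ⟨x, y, z, hxy, hxz, hyz, rfl⟩ := Finset.card_eq_three.mp h
    rw [Finset.sum_insert (by simp [hxy, hxz]), Finset.sum_pair hyz] at hsum
    have hxS : x ∈ ({x, y, z} : Finset H) := by simp
    have hyS : y ∈ ({x, y, z} : Finset H) := by simp
    have hzS : z ∈ ({x, y, z} : Finset H) := by simp
    have lx := hlow x hxS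
    have ly := hlow y hyS
    have lz := hlow z hzS
    have hx2 := (htor x hxS).resolve_left fun e => by linarith [hlow' x hxS e]
    have hy2 := (htor y hyS).resolve_left fun e => by linarith [hlow' y hyS e]
    have hz2 := (htor z hzS).resolve_left fun e => by linarith [hlow' z hzS e]
    rw [(part H).weight_of_double hx2, (part H).weight_of_double hy2, (part H).weight_of_double hz2] at hsum
    have key : ∀ x y z : H, x ≠ 1 → y ≠ 1 → z ≠ 1 →
        Nat.card ((part H).nor y) = 2 * Nat.card ((part H).cen y) →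
        Nat.card ((part H).nor z) = 2 * Nat.card ((part H).cen z) →
        Nat.card ((part H).cen x) ≤ Nat.card ((part H).cen y) →
        Nat.card ((part H).cen y) ≤ Nat.card ((part H).cen z) →
        (1 : ℚ) / Nat.card ((part H).cen x) + 1 / Nat.card ((part H).cen y) +
          1 / Nat.card ((part H).cen z) = 1 + 2 / g → Shape H := by
      intro x y z hx hy hz hny hnz hle hle' he
      rcases triple_solutions ((part H).two_le_card hx) hle hle' Nat.card_pos he with
        ⟨-, -, e⟩ | ⟨-, e, -, e'⟩ | ⟨-, e, -, e'⟩ | ⟨-, -, e, e'⟩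
      · exact shape_of_nor_eq hz (hn z hz) hnz e
      · exact shape_altFour hy (hn y hy) e e'
      · exact Or.inr (Or.inr (Or.inr (Or.inl ((part H).iso_symFour e' hy e (by rw [hny, e])
          (part_inv_cases hy (hn y hy))))))
      · exact Or.inr (Or.inr (Or.inr (Or.inr (Or.inl ((part H).iso_altFive' e' hz e (by rw [hnz, e]))))))
    have he : (1 : ℚ) / Nat.card ((part H).cen x) + 1 / Nat.card ((part H).cen y) +
          1 / Nat.card ((part H).cen z) = 1 + 2 / g := by
      have := htwo x (hne x hxS)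
      have := htwo y (hne y hyS)
      have := htwo z (hne z hzS)
      rw [show (2 : ℚ) / g = 2 * (1 / g) by ring]
      simp only [one_div, mul_inv] at hsum ⊢
      linarith
    have X := hne x hxS
    have Y := hne y hyS
    have Z := hne z hzS
    rcases le_total (Nat.card ((part H).cen x)) (Nat.card ((part H).cen y)) with a | a <;>
      rcases le_total (Nat.card ((part H).cen y)) (Nat.card ((part H).cen z)) with b | b <;>
        rcases le_total (Nat.card ((part H).cen x)) (Nat.card ((part H).cen z)) with c | c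
    · exact key x y z X Y Z hy2 hz2 a b (by linarith)
    · exact key x y z X Y Z hy2 hz2 a b (by linarith)
    · exact key x z y X Z Y hz2 hy2 c b (by linarith)
    · exact key z x y Z X Y hx2 hy2 c a (by linarith)
    · exact key y x z Y X Z hx2 hz2 a c (by linarith)
    · exact key y z x Y Z X hz2 hx2 b c (by linarith)
    · exact key z y x Z Y X hy2 hx2 b a (by linarith)
    · exact key z y x Z Y X hy2 hx2 b a (by linarith)

end Cfsg.Agent.Linear.Dickson
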