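import Mathlib

/-!
The class equation of a finite group with a partition into subgroups, and the finite case analysis
used in Dickson's theorem.
-/

namespace Cfsg.Agent.Linear.Dickson

open scoped Pointwise

variable {G : Type*} [Group G]

/-- A partition of the non-trivial elements by subgroups, compatible with conjugation. -/
structure CenPartition (G : Type*) [Group G] where
  /-- the member of the partition containing an element -/
  cen : G → Subgroup G
  mem_self : ∀ x, x ∈ cen x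
  eq_of_mem : ∀ {x y}, x ≠ 1 → y ≠ 1 → y ∈ cen x → cen y = cen x
  mem_conj : ∀ g x y, g * y * g⁻¹ ∈ cen (g * x * g⁻¹) ↔ y ∈ cen x

namespace CenPartition

variable (P : CenPartition G)

/-- The normaliser of a member. -/
def nor (x : G) : Subgroup G := Subgroup.normalizer (P.cen x : Set G)

/-- Two elements whose members are conjugate. -/
def Rel (x y : G) : Prop := ∃ g, g * y * g⁻¹ ∈ P.cen x

theorem conj_mem {x y g : G} : g * y * g⁻¹ ∈ P.cen x ↔ y ∈ P.cen (g⁻¹ * x * g) := by
  rw [← P.mem_conj g (g⁻¹ * x * g) y, show g * (g⁻¹ * x * g) * g⁻¹ = x by group]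

theorem conj_ne_one' {y g : G} (hy : y ≠ 1) : g * y * g⁻¹ ≠ 1 := fun e => hy (by
  simpa [mul_assoc] using congrArg (fun z => g⁻¹ * z * g) e)

theorem Rel.refl (x : G) : P.Rel x x := ⟨1, by simpa using P.mem_self x⟩

theorem Rel.symm {x y : G} (hx : x ≠ 1) (hy : y ≠ 1) (h : P.Rel x y) : P.Rel y x := by
  obtain ⟨g, hg⟩ := h
  refine ⟨g⁻¹, ?_⟩
  rw [P.conj_mem, inv_inv, P.eq_of_mem hx (conj_ne_one' hy) hg]
  exact P.mem_self x

theorem Rel.trans {x y z : G} (hx : x ≠ 1) (hy : y ≠ 1) (h : P.Rel x y) (h' : P.Rel y z) :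
    P.Rel x z := by
  obtain ⟨g, hg⟩ := h
  obtain ⟨k, hk⟩ := h'
  refine ⟨g * k, ?_⟩
  rw [show g * k * z * (g * k)⁻¹ = g * (k * z * k⁻¹) * g⁻¹ by group,
    ← P.eq_of_mem hx (conj_ne_one' hy) hg, P.mem_conj]
  exact hk

theorem cen_eq_of_conj {x a b c : G} (hx : x ≠ 1) (ha : a ≠ 1) (ha' : a ∈ P.cen x)
    (hb' : b ∈ P.cen x) (hc : c * a * c⁻¹ = b) : c ∈ P.nor x := by
  have hb : b ≠ 1 := hc ▸ conj_ne_one' ha
  rw [nor, Subgroup.mem_normalizer_iff]
  intro y
  conv_rhs => rw [← P.eq_of_mem hx hb hb', ← hc, P.mem_conj, P.eq_of_mem hx ha ha']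

theorem le_nor (x : G) : P.cen x ≤ P.nor x := Subgroup.le_normalizer

theorem nor_eq_of_mem {x y : G} (hx : x ≠ 1) (hy : y ≠ 1) (h : y ∈ P.cen x) : P.nor y = P.nor x := by
  rw [nor, nor, P.eq_of_mem hx hy h]

variable [Finite G]

/-- The weight of a class. -/
noncomputable def weight (x : G) : ℚ := ((Nat.card (P.cen x) : ℚ) - 1) / Nat.card (P.nor x)

theorem two_le_card {x : G} (hx : x ≠ 1) : 2 ≤ Nat.card (P.cen x) := by
  have : Nontrivial (P.cen x) := ⟨⟨x, P.mem_self x⟩, 1, fun e => hx (congrArg Subtype.val e)⟩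
  exact Finite.one_lt_card

theorem weight_pos {x : G} (hx : x ≠ 1) : 0 < P.weight x := by
  have h := P.two_le_card hx
  have h' : (2 : ℚ) ≤ Nat.card (P.cen x) := by exact_mod_cast h
  refine div_pos (by linarith) ?_
  exact_mod_cast Nat.card_pos

theorem card_class {x : G} (hx : x ≠ 1) :
    (Nat.card {y : G // y ≠ 1 ∧ P.Rel x y} : ℚ) = Nat.card G * P.weight x := by
  let f : (G ⧸ P.nor x) × {a : P.cen x // a ≠ 1} → {y : G // y ≠ 1 ∧ P.Rel x y} :=
    fun ca => ⟨ca.1.out * (ca.2.1 : G) * ca.1.out⁻¹,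
      conj_ne_one' fun e => ca.2.2 (Subtype.ext e),
      ⟨ca.1.out⁻¹, by simp [mul_assoc]⟩⟩
  have hf : Function.Bijective f := by
    refine ⟨fun u v huv => ?_, fun y => ?_⟩
    · obtain ⟨c, ⟨a, ha⟩, hna⟩ := u
      obtain ⟨d, ⟨b, hb⟩, hnb⟩ := v
      have e : c.out * a * c.out⁻¹ = d.out * b * d.out⁻¹ := congrArg Subtype.val huv
      have e' : (d.out⁻¹ * c.out) * a * (d.out⁻¹ * c.out)⁻¹ = b := by
        have := congrArg (fun z => d.out⁻¹ * z * d.out) e
        simpa [mul_assoc] using this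
      have hmem := P.cen_eq_of_conj hx (fun h => hna (Subtype.ext h)) ha hb e'
      have hcd : c = d := by
        rw [← QuotientGroup.out_eq' c, ← QuotientGroup.out_eq' d]
        exact (QuotientGroup.eq.mpr hmem).symm
      subst hcd
      simp only [mul_left_inj, mul_right_inj] at e
      subst e
      rfl
    · obtain ⟨y, hy, g, hg⟩ := y
      have hn : (g * (QuotientGroup.mk g⁻¹ : G ⧸ P.nor x).out) ∈ P.nor x := by
        simpa using QuotientGroup.eq.mp (QuotientGroup.out_eq' (QuotientGroup.mk g⁻¹ : G ⧸ P.nor x)).symm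
      set c : G ⧸ P.nor x := QuotientGroup.mk g⁻¹
      have hmem : c.out⁻¹ * y * c.out ∈ P.cen x := by
        have := (Subgroup.mem_normalizer_iff.mp ((P.nor x).inv_mem hn) (g * y * g⁻¹)).mp hg
        simpa [mul_assoc] using this
      refine ⟨(c, ⟨⟨c.out⁻¹ * y * c.out, hmem⟩, fun e => hy ?_⟩), Subtype.ext (by simp [f, mul_assoc])⟩
      have := congrArg (fun z : P.cen x => c.out * (z : G) * c.out⁻¹) e
      simpa [mul_assoc] using this
  have hne : Nat.card {a : P.cen x // a ≠ 1} = Nat.card (P.cen x) - 1 := by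
    have := Fintype.ofFinite (P.cen x)
    classical
    simp [Nat.card_eq_fintype_card, Fintype.card_subtype_compl]
  rw [← Nat.card_congr (Equiv.ofBijective f hf), Nat.card_prod, hne, weight, Nat.cast_mul,
    Nat.cast_sub (Nat.one_le_of_lt (P.two_le_card hx)), ← Subgroup.card_mul_index (P.nor x),
    Subgroup.index, Nat.cast_mul]
  have : (Nat.card (P.nor x) : ℚ) ≠ 0 := by exact_mod_cast Nat.card_pos.ne'
  field_simp
  ring

/-- A complete system of representatives containing a given set. -/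
structure Reps (S : Finset G) : Prop where
  ne_one : ∀ x ∈ S, x ≠ 1
  indep : ∀ x ∈ S, ∀ y ∈ S, P.Rel x y → x = y
  complete : ∀ y, y ≠ 1 → ∃ x ∈ S, P.Rel x y

theorem exists_reps (S : Finset G) (h1 : ∀ x ∈ S, x ≠ 1) (h2 : ∀ x ∈ S, ∀ y ∈ S, P.Rel x y → x = y) :
    ∃ T : Finset G, S ⊆ T ∧ P.Reps T := by
  classical
  have := Fintype.ofFinite G
  obtain ⟨T, hST, hT⟩ := Finset.exists_le_maximal
    (Finset.univ.filter fun T : Finset G => (∀ x ∈ T, x ≠ 1) ∧ ∀ x ∈ T, ∀ y ∈ T, P.Rel x y → x = y)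
    (show S ∈ Finset.univ.filter _ by simp only [Finset.mem_filter, Finset.mem_univ, true_and]; exact ⟨h1, h2⟩)
  obtain ⟨hT1, hT2⟩ := hT
  simp only [Finset.mem_filter, Finset.mem_univ, true_and] at hT1
  refine ⟨T, hST, hT1.1, hT1.2, fun y hy => ?_⟩
  by_contra hc
  push Not at hc
  have hins : insert y T ∈ Finset.univ.filter fun T : Finset G =>
      (∀ x ∈ T, x ≠ 1) ∧ ∀ x ∈ T, ∀ y ∈ T, P.Rel x y → x = y := by
    simp only [Finset.mem_filter, Finset.mem_univ, true_and]
    refine ⟨fun x hx => ?_, fun a ha b hb hab => ?_⟩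
    · rcases Finset.mem_insert.mp hx with rfl | hx
      · exact hy
      · exact hT1.1 x hx
    · rcases Finset.mem_insert.mp ha with ha | ha <;> rcases Finset.mem_insert.mp hb with hb | hb
      · rw [ha, hb]
      · rw [ha] at hab
        exact absurd (Rel.symm P hy (hT1.1 b hb) hab) (hc b hb)
      · rw [hb] at hab
        exact absurd hab (hc a ha)
      · exact hT1.2 a ha b hb hab
  have hmem : y ∈ T := hT2 hins (Finset.subset_insert y T) (Finset.mem_insert_self y T)
  exact hc y hmem (Rel.refl P y)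

/-- The class equation. -/
theorem sum_weight {S : Finset G} (h : P.Reps S) :
    ∑ x ∈ S, P.weight x = 1 - 1 / (Nat.card G : ℚ) := by
  classical
  have := Fintype.ofFinite G
  have hg : (Nat.card G : ℚ) ≠ 0 := by exact_mod_cast Nat.card_pos.ne'
  have hu : (Finset.univ.erase (1 : G)) = S.biUnion fun x => Finset.univ.filter fun y => y ≠ 1 ∧ P.Rel x y := by
    ext y
    simp only [Finset.mem_erase, Finset.mem_univ, and_true, Finset.mem_biUnion, Finset.mem_filter,
      true_and]
    exact ⟨fun hy => (h.complete y hy).imp fun x hx => ⟨hx.1, hy, hx.2⟩, fun ⟨_, _, hy, _⟩ => hy⟩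
  have hdisj : (S : Set G).PairwiseDisjoint
      fun x => Finset.univ.filter fun y => y ≠ 1 ∧ P.Rel x y := by
    intro a ha b hb hab
    simp only [Function.onFun, Finset.disjoint_left, Finset.mem_filter, Finset.mem_univ, true_and]
    rintro y ⟨hy, hay⟩ ⟨-, hby⟩
    exact hab (h.indep a ha b hb
      (Rel.trans P (h.ne_one a ha) hy hay (Rel.symm P (h.ne_one b hb) hy hby)))
  have hcard := congrArg Finset.card hu
  rw [Finset.card_biUnion hdisj, Finset.card_erase_of_mem (Finset.mem_univ _), Finset.card_univ,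
    ← Nat.card_eq_fintype_card] at hcard
  have hq := congrArg (Nat.cast : ℕ → ℚ) hcard
  rw [Nat.cast_sub Nat.card_pos, Nat.cast_one, Nat.cast_sum] at hq
  rw [Finset.sum_congr rfl (g := fun x => (Nat.card G : ℚ) * P.weight x) fun x hx => by
    rw [← P.card_class (h.ne_one x hx), Nat.card_eq_fintype_card, Fintype.card_subtype],
    ← Finset.mul_sum] at hq
  field_simp
  linarith [hq]

/-- x is of torus type: self-normalising or of index two in its normaliser. -/
def IsTor (x : G) : Prop :=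
  Nat.card (P.nor x) = Nat.card (P.cen x) ∨ Nat.card (P.nor x) = 2 * Nat.card (P.cen x)

theorem quarter_le_weight {x : G} (hx : x ≠ 1) (h : P.IsTor x) : (1 : ℚ) / 4 ≤ P.weight x := by
  have h2 : (2 : ℚ) ≤ Nat.card (P.cen x) := by exact_mod_cast P.two_le_card hx
  rcases h with h | h <;> rw [weight, h] <;> push_cast <;>
    rw [div_le_div_iff₀ (by norm_num) (by positivity)] <;> linarith

theorem half_le_weight {x : G} (hx : x ≠ 1) (h : Nat.card (P.nor x) = Nat.card (P.cen x)) :
    (1 : ℚ) / 2 ≤ P.weight x := by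
  have h2 : (2 : ℚ) ≤ Nat.card (P.cen x) := by exact_mod_cast P.two_le_card hx
  rw [weight, h, div_le_div_iff₀ (by norm_num) (by positivity)]
  linarith

theorem card_cen_le_nor (x : G) : Nat.card (P.cen x) ∣ Nat.card (P.nor x) :=
  Subgroup.card_dvd_of_le (P.le_nor x)

theorem card_nor_dvd (x : G) : Nat.card (P.nor x) ∣ Nat.card G :=
  Subgroup.card_subgroup_dvd_card _

end CenPartition

/-- The ordered solutions of 1/a + 1/b + 1/c = 1 + 2/g. -/
theorem triple_solutions {a b c g : ℕ} (ha : 2 ≤ a) (hab : a ≤ b) (hbc : b ≤ c) (hg : 0 < g)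
    (h : (1 : ℚ) / a + 1 / b + 1 / c = 1 + 2 / g) :
    (a = 2 ∧ b = 2 ∧ g = 2 * c) ∨ (a = 2 ∧ b = 3 ∧ c = 3 ∧ g = 12) ∨
      (a = 2 ∧ b = 3 ∧ c = 4 ∧ g = 24) ∨ (a = 2 ∧ b = 3 ∧ c = 5 ∧ g = 60) := by
  have hgq : (0 : ℚ) < g := by exact_mod_cast hg
  have hpos : (0 : ℚ) < 2 / g := by positivity
  have hb' : (2 : ℕ) ≤ b := ha.trans hab
  have hc' : (2 : ℕ) ≤ c := hb'.trans hbc
  have qa : (0 : ℚ) < a := by exact_mod_cast (by omega : 0 < a)
  have qb : (0 : ℚ) < b := by exact_mod_cast (by omega : 0 < b)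
  have qc : (0 : ℚ) < c := by exact_mod_cast (by omega : 0 < c)
  have key : ∀ {m n : ℕ}, 0 < m → m ≤ n → (1 : ℚ) / n ≤ 1 / m := fun hm hmn =>
    one_div_le_one_div_of_le (by exact_mod_cast hm) (by exact_mod_cast hmn)
  have ha2 : a = 2 := by
    by_contra hne
    have h1 := key (by norm_num) (show 3 ≤ a by omega)
    have h2 := key (by norm_num) (show 3 ≤ b by omega)
    have h3 := key (by norm_num) (show 3 ≤ c by omega)
    push_cast at h1 h2 h3
    linarith
  subst ha2
  have hb3 : b ≤ 3 := by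
    by_contra hne
    have h2 := key (by norm_num) (show 4 ≤ b by omega)
    have h3 := key (by norm_num) (show 4 ≤ c by omega)
    push_cast at h2 h3 h
    linarith
  obtain rfl | rfl : b = 2 ∨ b = 3 := by omega
  · left
    refine ⟨rfl, rfl, ?_⟩
    push_cast at h
    field_simp at h
    have h' : (g : ℚ) = 2 * c := by linarith
    exact_mod_cast h'
  · right
    have hc5 : c ≤ 5 := by
      by_contra hne
      have h3 := key (by norm_num) (show 6 ≤ c by omega)
      push_cast at h3 h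
      linarith
    push_cast at h
    obtain rfl | rfl | rfl : c = 3 ∨ c = 4 ∨ c = 5 := by omega
    · left
      refine ⟨rfl, rfl, rfl, ?_⟩
      push_cast at h
      field_simp at h
      have h' : (g : ℚ) = 12 := by linarith
      exact_mod_cast h'
    · right; left
      refine ⟨rfl, rfl, rfl, ?_⟩
      push_cast at h
      field_simp at h
      have h' : (g : ℚ) = 24 := by linarith
      exact_mod_cast h'
    · right; right
      refine ⟨rfl, rfl, rfl, ?_⟩
      push_cast at h
      field_simp at h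
      have h' : (g : ℚ) = 60 := by linarith
      exact_mod_cast h'

end Cfsg.Agent.Linear.Dickson
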