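import Cfsg.Agent.Linear.Dickson.Rigid
import Cfsg.Agent.H66.AltFive
import Cfsg.Agent.H66.Triangle235
import Cfsg.Agent.H66.OrderSixty
import Cfsg.Agent.Unitary.Order72

/-!
Subgroups of PSL_2 isomorphic to the alternating group of degree five.
-/

namespace Cfsg.Agent.Linear.Dickson

open Matrix Cfsg.Agent.Linear

variable {F : Type*} [Field F]

local notation "M2" => Matrix (Fin 2) (Fin 2) F
local notation "S2" => Matrix.SpecialLinearGroup (Fin 2) F
local notation "P2" => Matrix.ProjectiveSpecialLinearGroup (Fin 2) F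

theorem SL_pow_three_eq (g : S2) :
    ((g ^ 3 : S2) : M2) = ((g : M2).trace ^ 2 - 1) • (g : M2) - (g : M2).trace • (1 : M2) := by
  rw [Matrix.SpecialLinearGroup.coe_pow, pow_succ, sq, SL_sq_eq, sub_mul, one_mul, Matrix.smul_mul, SL_sq_eq]
  module

theorem SL_pow_five_eq (g : S2) :
    ((g ^ 5 : S2) : M2) = ((g : M2).trace ^ 4 - 3 * (g : M2).trace ^ 2 + 1) • (g : M2)
      - ((g : M2).trace ^ 3 - 2 * (g : M2).trace) • (1 : M2) := by
  set t := (g : M2).trace with ht
  have h2 := SL_sq_eq g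
  rw [← ht] at h2
  rw [Matrix.SpecialLinearGroup.coe_pow]
  simp only [pow_succ, pow_zero, one_mul, sub_mul, Matrix.smul_mul, h2, smul_sub, smul_smul]
  module

theorem coeff_eq_zero {g : M2} (hg : ¬ IsScalarTwo g) {a b : F}
    (h : IsScalarTwo (a • g - b • (1 : M2))) : a = 0 := by
  obtain ⟨c, hc⟩ := isScalarTwo_iff.mp h
  have : (c + b) • (1 : M2) + (0 : F) • g = (0 : F) • (1 : M2) + a • g := by
    have e := congrArg (fun A : M2 => A + b • (1 : M2)) hc
    simp only [sub_add_cancel] at e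
    rw [e]; module
  exact ((smul_add_smul_injective hg this).2).symm

theorem not_isScalarTwo_of_proj_ne_one {g : S2} (h : proj g ≠ 1) : ¬ IsScalarTwo (g : M2) :=
  fun hs => h (proj_eq_one_iff.mpr hs)

theorem trace_eq_zero_of_sq {g : S2} (h1 : proj g ≠ 1) (h : proj g ^ 2 = 1) : (g : M2).trace = 0 := by
  rw [← map_pow, proj_eq_one_iff] at h
  refine coeff_eq_zero (not_isScalarTwo_of_proj_ne_one h1) (b := 1) ?_
  rwa [one_smul, ← SL_sq_eq, ← sq, ← Matrix.SpecialLinearGroup.coe_pow]

theorem trace_sq_eq_one_of_cube {g : S2} (h1 : proj g ≠ 1) (h : proj g ^ 3 = 1) :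
    (g : M2).trace ^ 2 = 1 := by
  rw [← map_pow, proj_eq_one_iff, SL_pow_three_eq] at h
  exact sub_eq_zero.mp (coeff_eq_zero (not_isScalarTwo_of_proj_ne_one h1) h)

theorem trace_of_fifth {g : S2} (h1 : proj g ≠ 1) (h : proj g ^ 5 = 1) :
    (g : M2).trace ^ 2 = (g : M2).trace + 1 ∨ (-(g : M2).trace) ^ 2 = -(g : M2).trace + 1 := by
  rw [← map_pow, proj_eq_one_iff, SL_pow_five_eq] at h
  have := coeff_eq_zero (not_isScalarTwo_of_proj_ne_one h1) h
  set s := (g : M2).trace
  have e : (s ^ 2 - s - 1) * ((-s) ^ 2 - (-s) - 1) = 0 := by linear_combination this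
  rcases mul_eq_zero.mp e with e | e
  · exact Or.inl (by linear_combination e)
  · exact Or.inr (by linear_combination e)

/-- An element of order five forces a root of X² - X - 1. -/
theorem exists_root_of_order_five {x : P2} (hx : orderOf x = 5) : ∃ r : F, r ^ 2 = r + 1 := by
  obtain ⟨g, rfl⟩ := proj_surjective x
  have h1 : proj g ≠ 1 := fun e => by rw [e, orderOf_one] at hx; omega
  rcases trace_of_fifth h1 (by rw [← hx, pow_orderOf_eq_one]) with h | h
  · exact ⟨_, h⟩
  · exact ⟨_, h⟩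

theorem neg_mul_trace (X Y : S2) : ((-X * Y : S2) : M2).trace = -((X * Y : S2) : M2).trace := by
  simp

variable [Fintype F]

/-- The conic of a triangle pair has a point. -/
theorem exists_conic_point {r : F} (hr : r ^ 2 = r + 1) :
    ∃ a c : F, a ^ 2 - 1 * a + c ^ 2 + r * c + 1 = 0 := by
  by_cases h2 : (2 : F) = 0
  · exact ⟨r, 0, by linear_combination hr + h2⟩
  · have hodd : Fintype.card F % 2 = 1 := FiniteField.odd_card_of_char_ne_two fun e => h2 (by
      have : CharP F 2 := e ▸ ringChar.charP F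
      exact CharTwo.two_eq_zero)
    obtain ⟨A, B, hAB⟩ := FiniteField.exists_root_sum_quadratic
      (f := (Polynomial.X : Polynomial F) ^ 2)
      (g := Polynomial.X ^ 2 - Polynomial.C (r ^ 2 - 3))
      (Polynomial.degree_X_pow 2) (Polynomial.degree_X_pow_sub_C (by norm_num) _) hodd
    simp at hAB
    refine ⟨(A + 1) / 2, (B - r) / 2, ?_⟩
    field_simp
    linear_combination hAB

/-- A root of X² - X - 1 gives a subgroup isomorphic to the alternating group of degree five. -/
theorem exists_altFive_of_root (p : ℕ) [Fact p.Prime] [CharP F p] {r : F} (hr : r ^ 2 = r + 1) :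
    ∃ H : Subgroup P2, Nonempty (H ≃* alternatingGroup (Fin 5)) := by
  classical
  obtain ⟨a, c, hcon⟩ := exists_conic_point hr
  let X : S2 := ⟨!![0, -1; 1, 0], by simp [Matrix.det_fin_two_of]⟩
  let Y : S2 := ⟨!![a, c + r; c, 1 - a], by rw [Matrix.det_fin_two_of]; linear_combination -hcon⟩
  have hXt : (X : M2).trace = 0 := by
    show (!![(0 : F), -1; 1, 0]).trace = 0
    simp [Matrix.trace_fin_two]
  have hYt : (Y : M2).trace = 1 := by
    show (!![a, c + r; c, 1 - a]).trace = 1
    simp [Matrix.trace_fin_two]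
  have hXYt : ((Y * X : S2) : M2).trace = r := by
    show (!![a, c + r; c, 1 - a] * !![(0 : F), -1; 1, 0]).trace = r
    simp [Matrix.trace_fin_two, mul_two_apply]
  have hX : proj X ^ 2 = 1 := by
    rw [← map_pow, proj_eq_one_iff, Matrix.SpecialLinearGroup.coe_pow, sq, SL_sq_eq, hXt]
    simp [IsScalarTwo]
  have hY : proj Y ^ 3 = 1 := by
    rw [← map_pow, proj_eq_one_iff, SL_pow_three_eq, hYt]
    simp [IsScalarTwo]
  have hZ : (proj Y * proj X) ^ 5 = 1 := by
    rw [← map_mul, ← map_pow, proj_eq_one_iff, SL_pow_five_eq, hXYt,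
      show r ^ 4 - 3 * r ^ 2 + 1 = 0 by linear_combination (r ^ 2 + r - 1) * hr]
    simp [IsScalarTwo]
  have hY1 : proj Y ≠ 1 := fun e => by
    have := congrArg (· * proj X) e
    rw [one_mul, ← map_mul] at this
    have ht : ((Y * X : S2) : M2).trace ^ 2 = (X : M2).trace ^ 2 := by
      rcases proj_eq_iff.mp this with h | h <;>
      · have := congrArg (fun z : S2 => (z : M2).trace ^ 2) h
        simpa using this.symm
    rw [hXYt, hXt] at ht
    have hr0 : r = 0 := by simpa using ht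
    rw [hr0] at hr
    simp at hr
  have hX1 : proj X ≠ 1 := fun e => by
    rw [proj_eq_one_iff] at e
    have e10 : (1 : F) = 0 := e.2.1
    exact one_ne_zero e10
  -- generators of orders three and five
  set x := (proj Y)⁻¹ with hx
  set y := proj Y * proj X with hy
  have hx3 : x ^ 3 = 1 := by rw [hx, inv_pow, hY, inv_one]
  have hxy : (x * y) ^ 2 = 1 := by rw [hx, hy, inv_mul_cancel_left]; exact hX
  set H := Subgroup.closure ({x, y} : Set P2) with hH
  let x' : H := ⟨x, Subgroup.subset_closure (Set.mem_insert _ _)⟩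
  let y' : H := ⟨y, Subgroup.subset_closure (Set.mem_insert_of_mem _ rfl)⟩
  have hgen : Subgroup.closure ({x', y'} : Set H) = ⊤ := by
    have h := Subgroup.closure_closure_coe_preimage (k := ({x, y} : Set P2))
    rw [← h]
    congr 1
    ext z
    simp [x', y', Subtype.ext_iff]
  obtain ⟨-, hle⟩ := H66.card_triangle235_le x' y' (Subtype.ext hx3) (Subtype.ext hZ) (Subtype.ext hxy) hgen
  have hy1 : y ≠ 1 := fun e => by
    rw [e, mul_one] at hxy
    have : x = 1 :=
      calc x = x ^ 3 * (x ^ 2)⁻¹ := by group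
        _ = 1 := by rw [hx3, hxy, inv_one, mul_one]
    exact hY1 (inv_eq_one.mp this)
  have ho5 : orderOf y = 5 := by
    have : Fact (Nat.Prime 5) := ⟨by norm_num⟩
    exact orderOf_eq_prime hZ hy1
  have ho3 : orderOf x = 3 := by
    have : Fact (Nat.Prime 3) := ⟨Nat.prime_three⟩
    exact orderOf_eq_prime hx3 fun e => hY1 (inv_eq_one.mp e)
  have ho2 : orderOf (x * y) = 2 := by
    refine orderOf_eq_prime hxy ?_
    rw [hx, hy, inv_mul_cancel_left]
    exact hX1
  have hdvd : 30 ∣ Nat.card H := by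
    have h2 := Subgroup.orderOf_dvd_natCard H (H.mul_mem x'.2 y'.2 : x * y ∈ H)
    have h3 := Subgroup.orderOf_dvd_natCard H (x'.2 : x ∈ H)
    have h5 := Subgroup.orderOf_dvd_natCard H (y'.2 : y ∈ H)
    rw [ho2] at h2
    rw [ho3] at h3
    rw [ho5] at h5
    exact Nat.Coprime.mul_dvd_of_dvd_of_dvd (by norm_num : Nat.Coprime 6 5)
      (Nat.Coprime.mul_dvd_of_dvd_of_dvd (by norm_num : Nat.Coprime 2 3) h2 h3) h5
  -- it is perfect
  have hperf : ∀ (A : Type _) [CommGroup A] (φ : H →* A), φ = 1 := by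
    intro A _ φ
    have e3 : φ x' ^ 3 = 1 := by rw [← map_pow, show x' ^ 3 = 1 from Subtype.ext hx3, map_one]
    have e5 : φ y' ^ 5 = 1 := by rw [← map_pow, show y' ^ 5 = 1 from Subtype.ext hZ, map_one]
    have e2 : φ x' ^ 2 * φ y' ^ 2 = 1 := by
      rw [← mul_pow, ← map_mul, ← map_pow, show (x' * y') ^ 2 = 1 from Subtype.ext hxy, map_one]
    have ey : φ y' ^ 6 = 1 := by
      calc φ y' ^ 6 = (φ x' ^ 3) ^ 2 * (φ y' ^ 2) ^ 3 := by rw [e3, one_pow, one_mul, ← pow_mul]
        _ = (φ x' ^ 2 * φ y' ^ 2) ^ 3 := by simp only [mul_pow, ← pow_mul]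
        _ = 1 := by rw [e2, one_pow]
    have hy0 : φ y' = 1 := by rwa [pow_succ, e5, one_mul] at ey
    have hx0 : φ x' = 1 := by
      rw [hy0, one_pow, mul_one] at e2
      rwa [pow_succ, e2, one_mul] at e3
    refine MonoidHom.eq_of_eqOn_dense hgen fun z hz => ?_
    rcases hz with rfl | rfl
    · exact hx0
    · exact hy0
  have hns : ¬ Group.IsSolvable H := fun hs => by
    have : Nontrivial H := by
      rw [← Finite.one_lt_card_iff_nontrivial]
      have := Nat.le_of_dvd Nat.card_pos hdvd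
      omega
    refine (Group.IsSolvable.commutator_lt_top_of_nontrivial H).ne ?_
    rw [← Abelianization.ker_of, MonoidHom.ker_eq_top_iff]
    exact hperf _ _
  have h60 : Nat.card H = 60 := by
    rcases shape p H with h | h | ⟨⟨f⟩⟩ | ⟨⟨f⟩⟩ | ⟨⟨f⟩⟩ | h
    · exact absurd h.isSolvable hns
    · exact absurd h.isSolvable hns
    · rw [(Nat.card_congr f.toEquiv).trans card_alt_four] at hdvd; norm_num at hdvd
    · rw [(Nat.card_congr f.toEquiv).trans card_sym_four] at hdvd; norm_num at hdvd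
    · exact (Nat.card_congr f.toEquiv).trans card_alt_five
    · obtain ⟨j, hj⟩ := hdvd
      by_contra hne
      have hpos : 0 < Nat.card H := Nat.card_pos
      have hj1 : Nat.card H = 30 := by omega
      obtain ⟨v, m, hv, -, -, hvH⟩ := h.exists_card
      rw [hj1] at hvH
      have hv2 := hv.two_le
      have hb : v * (v ^ 2 - 1) ≤ 60 := by
        rcases hvH with e | ⟨e, -⟩
        · rw [← e]
          exact le_trans (Nat.mul_le_mul_right 30 (Nat.le_of_dvd two_pos (Nat.gcd_dvd_left 2 _))) (by norm_num)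
        · omega
      have hv5 : v ≤ 4 := by
        by_contra hlt
        have : 5 * 24 ≤ v * (v ^ 2 - 1) := Nat.mul_le_mul (by omega)
          (Nat.le_sub_one_of_lt (lt_of_lt_of_le (by norm_num) (Nat.pow_le_pow_left (by omega : 5 ≤ v) 2)))
        omega
      interval_cases v <;> norm_num at hvH
  refine ⟨H, H66.iso_altFive h60 fun h1 => ?_⟩
  -- the Sylow subgroup for five is not normal
  have : Fact (Nat.Prime 5) := ⟨by norm_num⟩
  obtain ⟨hsub, ⟨P⟩⟩ := Nat.card_eq_one_iff_unique.mp h1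
  have hcard5 : Nat.card (P : Subgroup H) = 5 := by
    rw [show Nat.card (P : Subgroup H) = Nat.card P from rfl, P.card_eq_multiplicity, h60,
      show (60 : ℕ) = 5 ^ 1 * 12 from rfl, Nat.factorization_mul (by norm_num) (by norm_num),
      Finsupp.add_apply, (show Nat.Prime 5 by norm_num).factorization_pow,
      Nat.factorization_eq_zero_of_not_dvd (n := 12) (by norm_num)]
    simp
  have : (P : Subgroup H).Normal := Sylow.normal_of_subsingleton P
  refine hns ?_
  have hq : Group.IsSolvable (H ⧸ (P : Subgroup H)) :=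
    Unitary.isSolvable_of_card_dvd_24 (m := 12) (by
      have := (P : Subgroup H).card_mul_index
      rw [hcard5, h60, Subgroup.index_eq_card] at this
      omega) (by norm_num)
  have : IsCyclic (P : Subgroup H) := isCyclic_of_prime_card hcard5
  have : Group.IsSolvable (P : Subgroup H) := by
    let := IsCyclic.commGroup (α := (P : Subgroup H))
    exact Group.isSolvable_of_comm fun a b => mul_comm a b
  exact Group.isSolvable_of_ker_le_range (P : Subgroup H).subtype (QuotientGroup.mk' (P : Subgroup H))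
    (by rw [QuotientGroup.ker_mk', Subgroup.range_subtype])

/-- The fixed field of the square of the Frobenius map contains the roots of X² - X - 1. -/
theorem exists_small_subfield (p : ℕ) [Fact p.Prime] [CharP F p] {r : F} (hr : r ^ 2 = r + 1) :
    (r ^ p = r ∨ r ^ p = 1 - r) ∧ r ^ p ^ 2 = r := by
  have h : (r ^ p - r) * (r ^ p - (1 - r)) = 0 := by
    have h1 : (r ^ p) ^ 2 = r ^ p + 1 := by
      rw [← pow_mul, mul_comm, pow_mul, hr, add_pow_char, one_pow]
    linear_combination h1 - hr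
  have h1 : r ^ p = r ∨ r ^ p = 1 - r := by
    rcases mul_eq_zero.mp h with e | e
    · exact Or.inl (sub_eq_zero.mp e)
    · exact Or.inr (sub_eq_zero.mp e)
  refine ⟨h1, ?_⟩
  rw [sq, pow_mul]
  rcases h1 with e | e
  · rw [e, e]
  · rw [e, sub_pow_char, one_pow, e]; ring

/-- An icosahedral subgroup is conjugate into the scaled copy over any subfield with such a root. -/
theorem exists_conj_le_pslSub {K : Type*} [Field K] [Fintype K] (ι : K →+* F) {r : K}
    (hr : r ^ 2 = r + 1) {M : Subgroup P2} (e : M ≃* alternatingGroup (Fin 5)) :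
    ∃ (g : P2) (w : Fˣ), M ≤ (pslSub ι w).map (MulAut.conj g).toMonoidHom := by
  classical
  set a0 := e.symm H66.x5 with ha0
  set b0 := e.symm H66.y5 with hb0
  -- lifts of an involution and an element of order three
  obtain ⟨X, hX⟩ := proj_surjective ((a0 * b0 : M) : P2)
  obtain ⟨Y0, hY0⟩ := proj_surjective ((a0⁻¹ : M) : P2)
  have hne : ∀ z : alternatingGroup (Fin 5), z ≠ 1 → ((e.symm z : M) : P2) ≠ 1 := fun z hz h =>
    hz (e.symm.injective ((Subtype.ext h : e.symm z = 1).trans (map_one e.symm).symm))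
  have hX1 : proj X ≠ 1 := by
    rw [hX, ha0, hb0, ← map_mul]; exact hne _ (by decide)
  have hX2 : proj X ^ 2 = 1 := by
    rw [hX, ← Subgroup.coe_pow, ha0, hb0, ← map_mul, ← map_pow, H66.x5y5_pow, map_one, Subgroup.coe_one]
  have hY1 : proj Y0 ≠ 1 := by
    rw [hY0, ha0, ← map_inv]; exact hne _ (by decide)
  have hY3 : proj Y0 ^ 3 = 1 := by
    rw [hY0, ← Subgroup.coe_pow, ha0, inv_pow, ← map_pow, H66.x5_pow, map_one, inv_one, Subgroup.coe_one]
  obtain ⟨Y, hY, hYt⟩ : ∃ Y : S2, proj Y = ((a0⁻¹ : M) : P2) ∧ (Y : M2).trace = 1 := by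
    rcases sq_eq_one_iff.mp (trace_sq_eq_one_of_cube hY1 hY3) with h | h
    · exact ⟨Y0, hY0, h⟩
    · exact ⟨-Y0, by rw [proj_neg, hY0], by simp [h]⟩
  have hyx : proj Y * proj X = (b0 : P2) := by
    rw [hY, hX, ← Subgroup.coe_mul, inv_mul_cancel_left]
  have hb1 : (b0 : P2) ≠ 1 := hne _ (by decide)
  obtain ⟨X', hX', hXt, hs⟩ : ∃ X' : S2, proj X' = ((a0 * b0 : M) : P2) ∧ (X' : M2).trace = 0 ∧
      ((X' * Y : S2) : M2).trace ^ 2 = ((X' * Y : S2) : M2).trace + 1 := by
    have ht : ((Y * X : S2) : M2).trace = ((X * Y : S2) : M2).trace := by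
      rw [Matrix.SpecialLinearGroup.coe_mul, Matrix.trace_mul_comm, ← Matrix.SpecialLinearGroup.coe_mul]
    have h5 := trace_of_fifth (g := Y * X) (by rw [map_mul, hyx]; exact hb1) (by
      rw [map_mul, hyx, ← Subgroup.coe_pow, hb0, ← map_pow, H66.y5_pow, map_one, Subgroup.coe_one])
    rw [ht] at h5
    rcases h5 with h | h
    · exact ⟨X, hX, trace_eq_zero_of_sq hX1 hX2, h⟩
    · exact ⟨-X, by rw [proj_neg, hX], by simp [trace_eq_zero_of_sq hX1 hX2], by rw [neg_mul_trace]; exact h⟩
  -- the trace of the product lies in the subfield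
  obtain ⟨s, hs1, hs2⟩ : ∃ s : K, s ^ 2 = s + 1 ∧ ι s = ((X' * Y : S2) : M2).trace := by
    set T := ((X' * Y : S2) : M2).trace
    have hr' : (ι r) ^ 2 = ι r + 1 := by rw [← map_pow, hr, map_add, map_one]
    have : (T - ι r) * (T - (1 - ι r)) = 0 := by linear_combination hs - hr'
    rcases mul_eq_zero.mp this with h | h
    · exact ⟨r, hr, (sub_eq_zero.mp h).symm⟩
    · exact ⟨1 - r, by linear_combination hr, by rw [map_sub, map_one]; exact (sub_eq_zero.mp h).symm⟩
  obtain ⟨a, c, hcon⟩ := exists_conic_point hs1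
  have hgenM : ∀ (N : Subgroup P2), (a0 : P2) ∈ N → (b0 : P2) ∈ N → M ≤ N := by
    intro N h1 h2 m hm
    have htop : ((N.comap M.subtype).map e.toMonoidHom) = ⊤ := by
      rw [eq_top_iff, ← H66.closure_x5_y5, Subgroup.closure_le]
      rintro _ (rfl | rfl)
      · exact ⟨a0, h1, e.apply_symm_apply _⟩
      · exact ⟨b0, h2, e.apply_symm_apply _⟩
    have : e ⟨m, hm⟩ ∈ (N.comap M.subtype).map e.toMonoidHom := htop ▸ Subgroup.mem_top _
    obtain ⟨z, hz, hze⟩ := this
    rwa [e.injective hze] at hz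
  have hirr : ¬ FixLine (X' : M2) (Y : M2) := by
    rintro ⟨v, hv, ⟨μ, hμ⟩, ⟨μ', hμ'⟩⟩
    obtain ⟨k, hk⟩ : ∃ k : S2, ∀ G : S2, (∃ m : F, (G : M2).mulVec v = m • v) →
        proj (k⁻¹ * G * k) ∈ borel F := by
      obtain ⟨k, hk0, hk1⟩ : ∃ k : S2, (k : M2) 0 0 = v 0 ∧ (k : M2) 1 0 = v 1 := by
        by_cases h0 : v 0 = 0
        · have h1 : v 1 ≠ 0 := fun h1 => hv (by ext i; fin_cases i <;> assumption)
          exact ⟨⟨!![v 0, -(v 1)⁻¹; v 1, 0], by simp [Matrix.det_fin_two_of, h1]⟩, rfl, rfl⟩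
        · exact ⟨⟨!![v 0, 0; v 1, (v 0)⁻¹], by simp [Matrix.det_fin_two_of, h0]⟩, rfl, rfl⟩
      refine ⟨k, fun G ⟨m, hm⟩ => ?_⟩
      have e1 := congrFun hm 0
      have e2 := congrFun hm 1
      simp [Matrix.mulVec, dotProduct, Fin.sum_univ_two] at e1 e2
      rw [mem_borel_proj, mul_assoc, SL_mul_entries, SL_mul_entries, SL_mul_entries,
        (SL_inv_entries k).2.2.2, (SL_inv_entries k).2.1, hk0, hk1]
      linear_combination -v 1 * e1 + v 0 * e2
    have hM : ∀ m ∈ M, proj k⁻¹ * m * proj k ∈ borel F := by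
      have hle := hgenM ((borel F).map (MulAut.conj (proj k)).toMonoidHom) ?_ ?_
      · intro m hm
        obtain ⟨z, hz, rfl⟩ := hle hm
        simpa [mul_assoc] using hz
      · rw [show (a0 : P2) = (proj Y)⁻¹ by rw [hY, Subgroup.coe_inv, inv_inv]]
        refine Subgroup.inv_mem _ (mem_map_conj.mpr ?_)
        rw [← map_inv, ← map_mul, ← map_mul]
        exact hk Y ⟨μ', hμ'⟩
      · rw [← hyx, show proj X = proj X' by rw [hX, hX']]
        refine Subgroup.mul_mem _ (mem_map_conj.mpr ?_) (mem_map_conj.mpr ?_) <;>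
          rw [← map_inv, ← map_mul, ← map_mul]
        · exact hk Y ⟨μ', hμ'⟩
        · exact hk X' ⟨μ, hμ⟩
    have hB : InBorel M := ⟨proj k⁻¹, fun m hm => by
      rw [← map_inv, inv_inv]; exact hM m hm⟩
    have : Group.IsSolvable M := hB.isSolvable
    have hs : Group.IsSolvable (alternatingGroup (Fin 5)) :=
      solvable_of_surjective (f := e.toMonoidHom) e.surjective
    have : IsSimpleGroup (alternatingGroup (Fin 5)) := alternatingGroup.isSimpleGroup (by simp)
    have := IsSimpleGroup.comm_iff_isSolvable.mpr hs H66.x5 H66.y5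
    revert this
    decide
  obtain ⟨g, w, X1, Y1, hgX, hgY⟩ :=
    exists_conj_scHom ι X' Y hXt (by rw [hYt, map_one]) hs2.symm hcon hirr
  refine ⟨proj g, w, hgenM _ ?_ ?_⟩
  · rw [show (a0 : P2) = (proj Y)⁻¹ by rw [hY, Subgroup.coe_inv, inv_inv]]
    refine Subgroup.inv_mem _ ?_
    rw [hgY, map_mul, map_mul, map_inv]
    exact conj_mem_map_conj ⟨Y1, rfl⟩
  · rw [← hyx, show proj X = proj X' by rw [hX, hX']]
    refine Subgroup.mul_mem _ ?_ ?_
    · rw [hgY, map_mul, map_mul, map_inv]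
      exact conj_mem_map_conj ⟨Y1, rfl⟩
    · rw [hgX, map_mul, map_mul, map_inv]
      exact conj_mem_map_conj ⟨X1, rfl⟩

end Cfsg.Agent.Linear.Dickson
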