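import Cfsg.Agent.Linear.Dickson.SmallConj
import Cfsg.Agent.S0802
import Cfsg.Agent.S0803

/-!
The possibilities for a maximal subgroup of PSL_2.
-/

namespace Cfsg.Agent.Linear.Dickson

open Matrix Cfsg.Agent.Linear

theorem two_mul_lt_card {u v : ℕ} (hu : 2 ≤ u) (h : 2 * u ≤ v) :
    2 * (u * (u ^ 2 - 1)) < v * (v ^ 2 - 1) := by
  have h5 : u ^ 2 - 1 < v ^ 2 - 1 :=
    Nat.sub_lt_sub_right (Nat.one_le_pow _ _ (by omega)) (Nat.pow_lt_pow_left (by omega) two_ne_zero)
  rw [← mul_assoc]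
  exact lt_of_le_of_lt (Nat.mul_le_mul_right _ h) (Nat.mul_lt_mul_of_pos_left h5 (by omega))

theorem two_mul_le_pow {u m : ℕ} (hu : 2 ≤ u) (hm : 2 ≤ m) : 2 * u ≤ u ^ m :=
  (Nat.mul_le_mul_right u hu).trans ((sq u).ge.trans (Nat.pow_le_pow_right (by omega) hm))

variable {F : Type*} [Field F] [Fintype F]

local notation "M2" => Matrix (Fin 2) (Fin 2) F
local notation "S2" => Matrix.SpecialLinearGroup (Fin 2) F
local notation "P2" => Matrix.ProjectiveSpecialLinearGroup (Fin 2) F

theorem sixty_le_card (hq : 4 ≤ Fintype.card F) : 60 ≤ Nat.card P2 := by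
  have hG := card_PSL_two_mul (F := F)
  rcases (show Fintype.card F = 4 ∨ Fintype.card F = 5 ∨ 6 ≤ Fintype.card F by omega) with e | e | e
  · rw [e, show Nat.gcd 2 (4 - 1) = 1 from rfl, show 4 * (4 ^ 2 - 1) = 60 from rfl] at hG; omega
  · rw [e, show Nat.gcd 2 (5 - 1) = 2 from rfl, show 5 * (5 ^ 2 - 1) = 120 from rfl] at hG; omega
  · have h1 : 6 * 35 ≤ Fintype.card F * (Fintype.card F ^ 2 - 1) :=
      Nat.mul_le_mul e (Nat.le_sub_one_of_lt (lt_of_lt_of_le (by norm_num) (Nat.pow_le_pow_left e 2)))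
    rw [← hG] at h1
    have := h1.trans (Nat.mul_le_mul_right _ (Nat.le_of_dvd two_pos (Nat.gcd_dvd_left 2 _)))
    omega

theorem ne_top_of_isSolvable (hq : 4 ≤ Fintype.card F) {H : Subgroup P2} (h : Group.IsSolvable H) :
    H ≠ ⊤ := fun e => by
  subst e
  exact not_isSolvable_PSL (K := F) (by rwa [Nat.card_eq_fintype_card])
    (solvable_of_surjective (f := (Subgroup.topEquiv (G := P2)).toMonoidHom) (Subgroup.topEquiv (G := P2)).surjective)

omit [Fintype F] in
theorem eq_of_coatom_le {M N : Subgroup P2} (hM : IsCoatom M) (h : M ≤ N) (hN : N ≠ ⊤) : M = N :=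
  h.eq_or_lt.resolve_right fun h' => hN (hM.2 N h')

theorem coatom_borel (hq : 4 ≤ Fintype.card F) {M : Subgroup P2} (hM : IsCoatom M) (h : InBorel M) :
    Nat.gcd 2 (Fintype.card F - 1) * Nat.card M = Fintype.card F * (Fintype.card F - 1) := by
  obtain ⟨g, hg⟩ := h.le
  have hB : InBorel ((borel F).map (MulAut.conj g).toMonoidHom) :=
    ⟨g⁻¹, fun x hx => by simpa using mem_map_conj.mp hx⟩
  rw [eq_of_coatom_le hM hg (ne_top_of_isSolvable hq hB.isSolvable), card_map_conj, card_borel]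

theorem coatom_torus_eq (hq : 4 ≤ Fintype.card F) {M : Subgroup P2} (hM : IsCoatom M) (h : InTorus M) :
    ∃ a : P2, ¬ IsUni a ∧ M = Subgroup.normalizer ((cen a) : Set P2) := by
  obtain ⟨a, ha, hle⟩ := h
  have hN : InTorus (Subgroup.normalizer ((cen a) : Set P2)) := ⟨a, ha, le_rfl⟩
  exact ⟨a, ha, eq_of_coatom_le hM hle (ne_top_of_isSolvable hq hN.isSolvable)⟩

section Subfield

variable {K : Type*} [Field K] [Fintype K]

theorem pslSub_ne_top {m : ℕ} (hm : 2 ≤ m) (h : Fintype.card K ^ m = Fintype.card F) {H : Subgroup P2}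
    (hH : Nat.card H ≤ Fintype.card K * (Fintype.card K ^ 2 - 1)) : H ≠ ⊤ := fun e => by
  rw [e, Subgroup.card_top] at hH
  have hG := card_PSL_two_mul (F := F)
  have h1 := Nat.mul_le_mul (Nat.le_of_dvd two_pos (Nat.gcd_dvd_left 2 (Fintype.card F - 1))) hH
  rw [hG] at h1
  exact absurd h1 (not_le.mpr (two_mul_lt_card Fintype.one_lt_card (h ▸ two_mul_le_pow Fintype.one_lt_card hm)))

theorem card_pslSub_le (ι : K →+* F) (w : Fˣ) :
    Nat.card (pslSub ι w) ≤ Fintype.card K * (Fintype.card K ^ 2 - 1) :=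
  card_pslSub_mul ι w ▸ Nat.le_mul_of_pos_left _ (Nat.gcd_pos_of_pos_left _ two_pos)

omit [Fintype F] [Fintype K] in
theorem pslSub_le_pslSub {L : Type*} [Field L] (ι : K →+* F) (ιL : L →+* F) (w : Fˣ)
    (hsub : ∀ k : K, ι k ∈ Set.range ιL) : pslSub ι w ≤ pslSub ιL w := by
  refine pslSub_le ι w (fun k => ?_) (fun k => ?_) <;> obtain ⟨l, hl⟩ := hsub k
  · refine ⟨upSL l, congrArg proj ?_⟩
    apply SL_ext_two <;> simp [scHom_coe, scMat, upSL_coe, hl]
  · refine ⟨loSL l, congrArg proj ?_⟩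
    apply SL_ext_two <;> simp [scHom_coe, scMat, loSL_coe, hl]

omit [Fintype F] [Fintype K] in
theorem dSL_mem_pslSub (ι : K →+* F) (w : Fˣ) {lam : Fˣ} (h : (lam : F) ∈ Set.range ι) :
    proj (dSL lam) ∈ pslSub ι w := by
  obtain ⟨l, hl⟩ := h
  have hl0 : l ≠ 0 := fun e => lam.ne_zero (by rw [← hl, e, map_zero])
  refine ⟨dSL (Units.mk0 l hl0), congrArg proj ?_⟩
  apply SL_ext_two <;> simp [scHom_coe, scMat, dSL_coe, hl]

theorem mem_range_of_pow_card (ι : K →+* F) {x : F} (h : x ^ Fintype.card K = x) : x ∈ Set.range ι := by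
  classical
  by_contra hx
  let P : Polynomial F := Polynomial.X ^ Fintype.card K - Polynomial.X
  have hP : P ≠ 0 := FiniteField.X_pow_card_sub_X_ne_zero F Fintype.one_lt_card
  have hsub : insert x (Finset.univ.image ι) ⊆ P.roots.toFinset := by
    intro y hy
    rw [Multiset.mem_toFinset, Polynomial.mem_roots hP]
    rcases Finset.mem_insert.mp hy with rfl | hy
    · simp [P, h]
    · obtain ⟨k, -, rfl⟩ := Finset.mem_image.mp hy
      simp [P, ← map_pow, FiniteField.pow_card]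
  have h1 := Finset.card_le_card hsub
  rw [Finset.card_insert_of_notMem (by simpa using hx), Finset.card_image_of_injective _ ι.injective,
    Finset.card_univ] at h1
  have h2 := (Multiset.toFinset_card_le _).trans (Polynomial.card_roots' P)
  have h3 : P.natDegree = Fintype.card K :=
    FiniteField.X_pow_card_sub_X_natDegree_eq F Fintype.one_lt_card
  omega

theorem exists_intermediate (ι : K →+* F) {m d : ℕ} (hd : d ∣ m) (hm : 1 ≤ m)
    (h : Fintype.card K ^ m = Fintype.card F) :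
    ∃ (L : Type) (_ : Field L) (_ : Fintype L) (ιL : L →+* F),
      Fintype.card L = Fintype.card K ^ d ∧ ∀ x : F, x ^ (Fintype.card K ^ d) = x → x ∈ Set.range ιL := by
  obtain ⟨p, hpK⟩ := CharP.exists K
  have : Fact p.Prime := ⟨CharP.char_is_prime K p⟩
  obtain ⟨e, hp, he⟩ := FiniteField.card K p
  obtain ⟨j, rfl⟩ := hd
  have hd0 : d ≠ 0 := fun e0 => by rw [e0, zero_mul] at hm; omega
  have hed : (e : ℕ) * d ≠ 0 := Nat.mul_ne_zero e.ne_zero hd0
  let iL : Fintype (GaloisField p (e * d)) := Fintype.ofFinite _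
  have hL : Fintype.card (GaloisField p (e * d)) = Fintype.card K ^ d := by
    rw [← Nat.card_eq_fintype_card, GaloisField.card p _ hed, he, pow_mul]
  obtain ⟨ιL⟩ := exists_ringHom (F := F) (K := GaloisField p (e * d)) (m := j)
    (by rcases Nat.eq_zero_or_pos j with e0 | e0
        · rw [e0, mul_zero] at hm; omega
        · exact e0)
    (by rw [hL, ← pow_mul, h])
  exact ⟨GaloisField p (e * d), inferInstance, iL, ιL, hL,
    fun x hx => mem_range_of_pow_card ιL (hL ▸ hx)⟩

theorem coatom_eq_of_le_pslSub {M : Subgroup P2} (hM : IsCoatom M) (ι : K →+* F) {g : P2} {w : Fˣ}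
    {m : ℕ} (hm : 2 ≤ m) (h : Fintype.card K ^ m = Fintype.card F)
    (hle : M ≤ (pslSub ι w).map (MulAut.conj g).toMonoidHom) :
    M = (pslSub ι w).map (MulAut.conj g).toMonoidHom :=
  eq_of_coatom_le hM hle (pslSub_ne_top hm h (by rw [card_map_conj]; exact card_pslSub_le ι w))

end Subfield

theorem isSubfield_of_le {K : Type} [Field K] [Fintype K] {M : Subgroup P2} (hM : IsCoatom M)
    (ι : K →+* F) {g : P2} {w : Fˣ} {m : ℕ} (hm : 2 ≤ m) (h : Fintype.card K ^ m = Fintype.card F)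
    (hle : M ≤ (pslSub ι w).map (MulAut.conj g).toMonoidHom) : IsSubfield M :=
  ⟨K, inferInstance, inferInstance, ι, g, w, Or.inl (coatom_eq_of_le_pslSub hM ι hm h hle)⟩

/-- Maximal subfield subgroups have prime index of fields. -/
theorem coatom_subfield {M : Subgroup P2} (hM : IsCoatom M) (h : IsSubfield M) :
    ∃ (K : Type) (_ : Field K) (_ : Fintype K) (r : ℕ), r.Prime ∧
      Fintype.card K ^ r = Fintype.card F ∧
      (((Odd r ∨ Even (Fintype.card K)) ∧
          Nat.gcd 2 (Fintype.card K - 1) * Nat.card M = Fintype.card K * (Fintype.card K ^ 2 - 1) ∧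
          Nonempty (M ≃* Matrix.ProjectiveSpecialLinearGroup (Fin 2) K)) ∨
        (r = 2 ∧ Odd (Fintype.card K) ∧ Nonempty (M ≃* Matrix.ProjGenLinGroup (Fin 2) K))) := by
  classical
  obtain ⟨K, iK, iK', ι, g, w, h⟩ := h
  obtain ⟨m, hm1, hm⟩ := IsSubfield.exists_pow_eq rfl ι
  set u := Fintype.card K with hu
  have hu2 : 2 ≤ u := Fintype.one_lt_card
  have hP := card_pslSub_mul ι w
  rw [← hu] at hP
  have hd2 : Nat.gcd 2 (u - 1) ≤ 2 := Nat.le_of_dvd two_pos (Nat.gcd_dvd_left 2 _)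
  have hle : (pslSub ι w).map (MulAut.conj g).toMonoidHom ≤ M := by
    rcases h with rfl | ⟨lam, ν, -, -, rfl⟩
    · exact le_rfl
    · exact Subgroup.map_mono (pslSub_le_pglSub ι w lam)
  have hm2 : 2 ≤ m := by
    by_contra hlt
    obtain rfl : m = 1 := by omega
    rw [pow_one] at hm
    refine hM.1 (eq_top_iff.mpr (le_of_eq_of_le (Eq.symm ?_) hle))
    refine Subgroup.eq_top_of_card_eq _ ?_
    rw [card_map_conj]
    have hG := card_PSL_two_mul (F := F)
    rw [← hm] at hG
    exact Nat.eq_of_mul_eq_mul_left (Nat.gcd_pos_of_pos_left _ two_pos) (hP.trans hG.symm)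
  -- the only overgroups from intermediate fields are trivial
  have big : ∀ (L : Type) [Field L] [Fintype L] (ιL : L →+* F) (j : ℕ), 2 ≤ j →
      Fintype.card L ^ j = Fintype.card F → 2 * u ≤ Fintype.card L →
      M ≤ (pslSub ιL w).map (MulAut.conj g).toMonoidHom → Nat.card M ≤ u * (u ^ 2 - 1) → False := by
    intro L _ _ ιL j hj hq hv hML hMc
    have hc : Nat.card M = Nat.card (pslSub ιL w) := by
      rw [coatom_eq_of_le_pslSub hM ιL hj hq hML, card_map_conj]
    rw [hc] at hMc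
    have hL := card_pslSub_mul ιL w
    have h1 := Nat.mul_le_mul (Nat.le_of_dvd two_pos (Nat.gcd_dvd_left 2 (Fintype.card L - 1))) hMc
    rw [hL] at h1
    exact absurd h1 (not_le.mpr (two_mul_lt_card hu2 hv))
  have hcases : M = (pslSub ι w).map (MulAut.conj g).toMonoidHom ∨
      (Odd u ∧ ∃ (lam : Fˣ) (ν : Kˣ), ι (ν : K) = (lam : F) ^ 2 ∧
        (∀ δ : Kˣ, δ ∈ Subgroup.zpowers ν) ∧ M = (pglSub ι w lam).map (MulAut.conj g).toMonoidHom) := by
    rcases h with h | ⟨lam, ν, h1, h2, h⟩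
    · exact Or.inl h
    rcases Nat.even_or_odd u with he | ho
    · left
      have hgcd : Nat.gcd 2 (u - 1) = 1 := Nat.prime_two.coprime_iff_not_dvd.mpr
        (fun hdd => by obtain ⟨i, hi⟩ := he; omega)
      rw [hgcd, one_mul] at hP
      rw [h, Subgroup.eq_of_le_of_card_ge (pslSub_le_pglSub ι w lam) (by rw [card_pglSub ι w h1 h2, hP])]
    · exact Or.inr ⟨ho, lam, ν, h1, h2, h⟩
  rcases hcases with hMeq | ⟨hodd, lam, ν, h1, h2, hMeq⟩
  · obtain ⟨e⟩ := nonempty_pslSub_equiv ι w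
    have hiso : Nonempty (M ≃* Matrix.ProjectiveSpecialLinearGroup (Fin 2) K) :=
      ⟨(MulEquiv.subgroupCongr hMeq).trans
        (((pslSub ι w).equivMapOfInjective _ (MulAut.conj g).injective).symm.trans e)⟩
    have hMc : Nat.gcd 2 (u - 1) * Nat.card M = u * (u ^ 2 - 1) := by rw [hMeq, card_map_conj, hP]
    have hr := Nat.minFac_prime (n := m) (by omega)
    set r := m.minFac with hrdef
    obtain ⟨d, hd⟩ := Nat.minFac_dvd m
    rw [← hrdef] at hd
    rcases (show d = 1 ∨ 2 ≤ d by rcases Nat.eq_zero_or_pos d with e0 | e0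
                                  · rw [e0, mul_zero] at hd; omega
                                  · omega) with rfl | hd2'
    · rw [mul_one] at hd
      rw [hd] at hm
      refine ⟨K, iK, iK', r, hr, hm, Or.inl ⟨?_, hMc, hiso⟩⟩
      by_contra hc
      push Not at hc
      obtain ⟨hc1, hc2⟩ := hc
      rw [Nat.not_odd_iff_even] at hc1
      rw [Nat.not_even_iff_odd] at hc2
      obtain ⟨lam, ν, h1, h2⟩ := exists_sqrt_gen ι hc1 hc2 hm
      have e1 := eq_of_coatom_le hM (hMeq ▸ Subgroup.map_mono (pslSub_le_pglSub ι w lam))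
        (pslSub_ne_top hr.two_le hm (by rw [card_map_conj, card_pglSub ι w h1 h2]))
      have e2 : Nat.card M = u * (u ^ 2 - 1) := by rw [e1, card_map_conj, card_pglSub ι w h1 h2]
      have hgcd : Nat.gcd 2 (u - 1) = 2 :=
        Nat.gcd_eq_left (by obtain ⟨i, hi⟩ := hc2; omega)
      rw [hgcd, e2] at hMc
      have : 0 < u * (u ^ 2 - 1) := Nat.mul_pos (by omega) (Nat.sub_pos_of_lt (Nat.one_lt_pow two_ne_zero hu2))
      omega
    · exfalso
      obtain ⟨L, iL, iL', ιL, hL, hsub⟩ := exists_intermediate ι (d := d) ⟨r, by rw [hd, mul_comm]⟩ hm1 hm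
      refine big L ιL r hr.two_le (by rw [hL, ← pow_mul, mul_comm, ← hd, hm])
        (hL ▸ two_mul_le_pow hu2 hd2') (hMeq ▸ Subgroup.map_mono (pslSub_le_pslSub ι ιL w fun k => hsub _ ?_)) ?_
      · rw [← map_pow, FiniteField.pow_card_pow]
      · rw [← hMc]; exact Nat.le_mul_of_pos_left _ (Nat.gcd_pos_of_pos_left _ two_pos)
  · have hMc : Nat.card M = u * (u ^ 2 - 1) := by rw [hMeq, card_map_conj, card_pglSub ι w h1 h2]
    have hme : Even m := by
      by_contra hme
      exact not_pglSub_of_odd (Nat.not_even_iff_odd.mp hme) hodd hm hMc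
    obtain ⟨k, hk⟩ := hme
    rcases (show k = 1 ∨ 2 ≤ k by omega) with rfl | hk2
    · obtain ⟨e⟩ := nonempty_pglSub_equiv ι w h1 h2
      refine ⟨K, iK, iK', 2, Nat.prime_two, by rw [← hm, hk], Or.inr ⟨rfl, hodd, ?_⟩⟩
      exact ⟨(MulEquiv.subgroupCongr hMeq).trans
        (((pglSub ι w lam).equivMapOfInjective _ (MulAut.conj g).injective).symm.trans e)⟩
    · exfalso
      have hr := Nat.minFac_prime (n := k) (by omega)
      obtain ⟨c, hc⟩ := Nat.minFac_dvd k
      set r := k.minFac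
      have hc0 : 1 ≤ c := by
        rcases Nat.eq_zero_or_pos c with e0 | e0
        · rw [e0, mul_zero] at hc; omega
        · exact e0
      have hmd : m = r * (2 * c) := by rw [hk, hc]; ring
      obtain ⟨L, iL, iL', ιL, hL, hsub⟩ :=
        exists_intermediate ι (d := 2 * c) ⟨r, by rw [hmd, mul_comm]⟩ hm1 hm
      refine big L ιL r hr.two_le (by rw [hL, ← pow_mul, mul_comm, ← hmd, hm])
        (hL ▸ two_mul_le_pow hu2 (by omega)) (hMeq ▸ Subgroup.map_mono ?_) hMc.le
      refine sup_le (pslSub_le_pslSub ι ιL w fun k => hsub _ (by rw [← map_pow, FiniteField.pow_card_pow]))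
        (Subgroup.zpowers_le.mpr (dSL_mem_pslSub ιL w (hsub _ ?_)))
      obtain ⟨i, hi⟩ := hodd
      have hν : ν ^ (2 * i) = 1 := by
        have := pow_card_eq_one (x := ν)
        rwa [Fintype.card_units, ← hu, hi, Nat.add_sub_cancel] at this
      have hl : (lam : F) ^ (2 * (2 * i)) = 1 := by
        rw [pow_mul, ← h1, ← map_pow, ← Units.val_pow_eq_pow_val, hν, Units.val_one, map_one]
      obtain ⟨S, hS⟩ := Nat.sub_one_dvd_pow_sub_one (u ^ 2) c
      have e : u ^ (2 * c) = 2 * (2 * i) * ((i + 1) * S) + 1 := by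
        have h2' : u ^ 2 - 1 = 2 * (2 * i) * (i + 1) := by
          rw [hi, show (2 * i + 1) ^ 2 = 2 * (2 * i) * (i + 1) + 1 by ring, Nat.add_sub_cancel]
        rw [← pow_mul, h2', mul_assoc] at hS
        have := Nat.one_le_pow (2 * c) u (by omega)
        omega
      rw [← hu, e, pow_succ, pow_mul, hl, one_pow, one_mul]

end Cfsg.Agent.Linear.Dickson
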