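import Cfsg.Agent.Linear.Dickson.MaxCases

/-!
Maximal tetrahedral, octahedral and icosahedral subgroups and small torus normalisers.
-/

namespace Cfsg.Agent.Linear.Dickson

open Matrix Cfsg.Agent.Linear

variable {F : Type*} [Field F] [Fintype F]

local notation "M2" => Matrix (Fin 2) (Fin 2) F
local notation "S2" => Matrix.SpecialLinearGroup (Fin 2) F
local notation "P2" => Matrix.ProjectiveSpecialLinearGroup (Fin 2) F

omit [Fintype F] in
theorem exists_ringHom_zmod (p : ℕ) [Fact p.Prime] [CharP F p] : Nonempty (ZMod p →+* F) :=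
  ⟨ZMod.castHom dvd_rfl F⟩

theorem two_ne_zero_of_char (p : ℕ) {K : Type*} [Field K] [CharP K p] (hp : p ≠ 2) [Fact p.Prime] :
    (2 : K) ≠ 0 := fun h => hp (by
  have h' : ((2 : ℕ) : K) = 0 := by exact_mod_cast h
  exact (Nat.prime_dvd_prime_iff_eq Fact.out Nat.prime_two).mp ((CharP.cast_eq_zero_iff K p 2).mp h'))

/-- The embedding of the alternating group of degree four into that of degree five. -/
theorem exists_altFour_altFive :
    ∃ f : alternatingGroup (Fin 4) →* alternatingGroup (Fin 5), Function.Injective f := by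
  let g : Equiv.Perm (Fin 4) →* Equiv.Perm (Fin 5) := Equiv.Perm.extendDomainHom (finSuccAboveEquiv (4 : Fin 5))
  have hg : ∀ σ ∈ alternatingGroup (Fin 4), g σ ∈ alternatingGroup (Fin 5) := by
    intro σ hσ
    rw [Equiv.Perm.mem_alternatingGroup] at hσ ⊢
    rw [← hσ]
    exact Equiv.Perm.sign_extendDomain σ _
  refine ⟨(g.comp (alternatingGroup (Fin 4)).subtype).codRestrict _ fun σ => hg σ σ.2, fun a b h => ?_⟩
  exact Subtype.ext (Equiv.Perm.extendDomainHom_injective _ (congrArg Subtype.val h))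

omit [Fintype F] in
theorem gen_mem_le {H : Subgroup P2} {G : Type*} [Group G] (e : H ≃* G) {a b : G}
    (hab : ∀ N : Subgroup G, a ∈ N → b ∈ N → N = ⊤) {N : Subgroup P2}
    (ha : (e.symm a : P2) ∈ N) (hb : (e.symm b : P2) ∈ N) : H ≤ N := by
  intro h hh
  have := hab (N.comap (H.subtype.comp e.symm.toMonoidHom)) ha hb
  have h' : e ⟨h, hh⟩ ∈ N.comap (H.subtype.comp e.symm.toMonoidHom) := this ▸ Subgroup.mem_top _
  simpa using h'

omit [Fintype F] in
theorem coe_symm_ne_one {H : Subgroup P2} {G : Type*} [Group G] (e : H ≃* G) {a : G} (ha : a ≠ 1) :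
    (e.symm a : P2) ≠ 1 := fun h =>
  ha (e.symm.injective ((Subtype.ext h : e.symm a = 1).trans (map_one e.symm).symm))

/-- Tetrahedral subgroups are conjugate into the copy over any subfield. -/
theorem exists_conj_le_pslSub_altFour (hodd : Odd (Fintype.card F)) {K : Type*} [Field K] [Fintype K]
    (ι : K →+* F) {H : Subgroup P2} (e : H ≃* alternatingGroup (Fin 4)) :
    ∃ (g : P2) (w : Fˣ), H ≤ (pslSub ι w).map (MulAut.conj g).toMonoidHom := by
  have h2 : (2 : K) ≠ 0 := fun h => two_ne_zero_of_odd_card hodd (by rw [← map_ofNat ι, h, map_zero])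
  have hB : ¬ InBorel H :=
    (not_small_of_altFour hodd (le_refl H) e.symm.toMonoidHom e.symm.injective).1
  obtain ⟨hx1, hx2, hy1, hy3, hxy1, hxy3⟩ : genAlt.1 ≠ 1 ∧ genAlt.1 ^ 2 = 1 ∧ genAlt.2 ≠ 1 ∧
      genAlt.2 ^ 3 = 1 ∧ genAlt.1 * genAlt.2 ≠ 1 ∧ (genAlt.1 * genAlt.2) ^ 3 = 1 := by decide
  obtain ⟨X, hX⟩ := proj_surjective (e.symm genAlt.1 : P2)
  obtain ⟨Y0, hY0⟩ := proj_surjective (e.symm genAlt.2 : P2)
  have hX0 : (X : M2).trace = 0 := trace_eq_zero_of_sq (hX ▸ coe_symm_ne_one e hx1)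
    (by rw [hX, ← Subgroup.coe_pow, ← map_pow, hx2, map_one, Subgroup.coe_one])
  obtain ⟨Y, hY, hYt⟩ : ∃ Y : S2, proj Y = (e.symm genAlt.2 : P2) ∧ (Y : M2).trace = 1 := by
    rcases sq_eq_one_iff.mp (trace_sq_eq_one_of_cube (hY0 ▸ coe_symm_ne_one e hy1)
      (by rw [hY0, ← Subgroup.coe_pow, ← map_pow, hy3, map_one, Subgroup.coe_one])) with h | h
    · exact ⟨Y0, hY0, h⟩
    · exact ⟨-Y0, by rw [proj_neg, hY0], by simp [h]⟩
  have hXY : proj (X * Y) = (e.symm (genAlt.1 * genAlt.2) : P2) := by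
    rw [map_mul, hX, hY, ← Subgroup.coe_mul, ← map_mul]
  obtain ⟨s, hs⟩ : ∃ s : K, ((X * Y : S2) : M2).trace = ι s := by
    rcases sq_eq_one_iff.mp (trace_sq_eq_one_of_cube (hXY ▸ coe_symm_ne_one e hxy1)
      (by rw [hXY, ← Subgroup.coe_pow, ← map_pow, hxy3, map_one, Subgroup.coe_one])) with h | h
    · exact ⟨1, by rw [h, map_one]⟩
    · exact ⟨-1, by rw [h, map_neg, map_one]⟩
  exact exists_conj_le_pslSub_of_pair h2 ι hX0 (t := 1) (by rw [hYt, map_one]) hs
    (fun N h h' => gen_mem_le e (fun _ => closure_genAlt) (hX ▸ h) (hY ▸ h')) hB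

/-- Octahedral subgroups are conjugate into the copy over any subfield with a square root of two. -/
theorem exists_conj_le_pslSub_symFour (hodd : Odd (Fintype.card F)) {K : Type*} [Field K] [Fintype K]
    (ι : K →+* F) (hsq : IsSquare (2 : K)) {H : Subgroup P2} (e : H ≃* Equiv.Perm (Fin 4)) :
    ∃ (g : P2) (w : Fˣ), H ≤ (pslSub ι w).map (MulAut.conj g).toMonoidHom := by
  have h2 : (2 : K) ≠ 0 := fun h => two_ne_zero_of_odd_card hodd (by rw [← map_ofNat ι, h, map_zero])
  obtain ⟨f, hf⟩ := exists_perm_four_embedding e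
  have hB : ¬ InBorel H := (not_small_of_altFour hodd (le_refl H) f hf).1
  obtain ⟨hx1, hx2, hy1, hy3, hxy1, hxy4⟩ : genSym.1 ≠ 1 ∧ genSym.1 ^ 2 = 1 ∧ genSym.2 ≠ 1 ∧
      genSym.2 ^ 3 = 1 ∧ (genSym.1 * genSym.2) ^ 2 ≠ 1 ∧ (genSym.1 * genSym.2) ^ 4 = 1 := by decide
  obtain ⟨X, hX⟩ := proj_surjective (e.symm genSym.1 : P2)
  obtain ⟨Y0, hY0⟩ := proj_surjective (e.symm genSym.2 : P2)
  have hX0 : (X : M2).trace = 0 := trace_eq_zero_of_sq (hX ▸ coe_symm_ne_one e hx1)
    (by rw [hX, ← Subgroup.coe_pow, ← map_pow, hx2, map_one, Subgroup.coe_one])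
  obtain ⟨Y, hY, hYt⟩ : ∃ Y : S2, proj Y = (e.symm genSym.2 : P2) ∧ (Y : M2).trace = 1 := by
    rcases sq_eq_one_iff.mp (trace_sq_eq_one_of_cube (hY0 ▸ coe_symm_ne_one e hy1)
      (by rw [hY0, ← Subgroup.coe_pow, ← map_pow, hy3, map_one, Subgroup.coe_one])) with h | h
    · exact ⟨Y0, hY0, h⟩
    · exact ⟨-Y0, by rw [proj_neg, hY0], by simp [h]⟩
  have hXY : proj (X * Y) = (e.symm (genSym.1 * genSym.2) : P2) := by
    rw [map_mul, hX, hY, ← Subgroup.coe_mul, ← map_mul]
  obtain ⟨r, hr⟩ := hsq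
  obtain ⟨s, hs⟩ : ∃ s : K, ((X * Y : S2) : M2).trace = ι s := by
    have ht := trace_sq_eq_two_of_fourth (g := X * Y)
      (by rw [hXY, ← Subgroup.coe_pow, ← map_pow]; exact coe_symm_ne_one e hxy1)
      (by rw [hXY, ← Subgroup.coe_pow, ← map_pow, hxy4, map_one, Subgroup.coe_one])
    have hr' : (2 : F) = ι r * ι r := by rw [← map_mul, ← hr, map_ofNat]
    rcases eq_or_eq_neg_of_sq_eq_sq _ (ι r) (ht.trans (hr'.trans (sq _).symm)) with h | h
    · exact ⟨r, h⟩
    · exact ⟨-r, by rw [h, map_neg]⟩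
  exact exists_conj_le_pslSub_of_pair h2 ι hX0 (t := 1) (by rw [hYt, map_one]) hs
    (fun N h h' => gen_mem_le e (fun _ => closure_genSym) (hX ▸ h) (hY ▸ h')) hB

/-- The four-group of an octahedral subgroup. -/
theorem exists_klein_normal_sym {H : Subgroup P2} (e : H ≃* Equiv.Perm (Fin 4)) :
    ∃ V : Subgroup P2, IsKleinFour V ∧ V ≤ H ∧ H ≤ Subgroup.normalizer (V : Set P2) := by
  have h4 : Nat.card (Fin 4) = 4 := by simp
  have hK := alternatingGroup.kleinFour_isKleinFour (α := Fin 4) h4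
  have := alternatingGroup.characteristic_kleinFour (α := Fin 4) h4
  let K := (alternatingGroup.kleinFour (Fin 4)).map (alternatingGroup (Fin 4)).subtype
  have hn : K.Normal := ConjAct.normal_of_characteristic_of_normal
  let ψ : Equiv.Perm (Fin 4) →* P2 := H.subtype.comp e.symm.toMonoidHom
  have hψ : Function.Injective ψ := H.subtype_injective.comp e.symm.injective
  refine ⟨K.map ψ, ?_, ?_, ?_⟩
  · let f : alternatingGroup.kleinFour (Fin 4) ≃* K.map ψ :=
      ((alternatingGroup.kleinFour (Fin 4)).equivMapOfInjective _ Subtype.val_injective).trans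
        (K.equivMapOfInjective ψ hψ)
    exact ⟨by rw [← Nat.card_congr f.toEquiv]; exact hK.card_four,
      by rw [← Monoid.exponent_eq_of_mulEquiv f]; exact hK.exponent_two⟩
  · rintro _ ⟨z, -, rfl⟩
    exact (e.symm z).2
  · intro h hh
    rw [Subgroup.mem_normalizer_iff]
    have hh' : ψ (e ⟨h, hh⟩) = h := by simp [ψ]
    intro y
    constructor
    · rintro ⟨z, hz, rfl⟩
      exact ⟨_, hn.conj_mem z hz (e ⟨h, hh⟩), by rw [map_mul, map_mul, map_inv, hh']⟩
    · rintro ⟨z, hz, hzy⟩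
      refine ⟨_, hn.conj_mem z hz (e ⟨h, hh⟩)⁻¹, ?_⟩
      simp only [map_mul, map_inv, inv_inv, hh', hzy]
      group

/-- An octahedral normaliser of a four-group in a copy of PSL_2 lies in the double extension. -/
theorem normalizer_klein_le {K : Type*} [Field K] [Fintype K] (hK : Odd (Fintype.card K))
    (hsq : ¬ IsSquare (2 : K)) {P Q : Subgroup P2} (hPQ : P ≤ Q) (hcard : Nat.card Q = 2 * Nat.card P)
    (e : P ≃* Matrix.ProjectiveSpecialLinearGroup (Fin 2) K) {V : Subgroup P2} [IsKleinFour V]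
    (hV : V ≤ P) (h24 : Nat.card (Subgroup.normalizer (V : Set P2)) = 24) :
    Subgroup.normalizer (V : Set P2) ≤ Q := by
  set N := Subgroup.normalizer (V : Set P2) with hN
  let ψ : Matrix.ProjectiveSpecialLinearGroup (Fin 2) K →* P2 := P.subtype.comp e.symm.toMonoidHom
  have hψ : Function.Injective ψ := P.subtype_injective.comp e.symm.injective
  have hψr : ψ.range = P := by
    refine le_antisymm ?_ fun x hx => ⟨e ⟨x, hx⟩, by simp [ψ]⟩
    rintro _ ⟨z, rfl⟩
    exact (e.symm z).2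
  -- P is normal in Q
  have hnorm : ∀ g ∈ Q, ∀ x ∈ P, g * x * g⁻¹ ∈ P := by
    have hidx : (P.subgroupOf Q).index = 2 := by
      have h := (P.subgroupOf Q).card_mul_index
      rw [Nat.card_congr (Subgroup.subgroupOfEquivOfLe hPQ).toEquiv, hcard, mul_comm 2] at h
      exact Nat.eq_of_mul_eq_mul_left Nat.card_pos h
    have hn := Subgroup.normal_of_index_eq_two hidx
    intro g hg x hx
    exact hn.conj_mem ⟨x, hPQ hx⟩ hx ⟨g, hg⟩
  have klein : ∀ W : Subgroup P2, IsKleinFour W → W ≤ P → IsKleinFour (W.comap ψ) := by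
    intro W hW hWP
    let f : W.comap ψ ≃* W := ((W.comap ψ).equivMapOfInjective ψ hψ).trans
      (MulEquiv.subgroupCongr (Subgroup.map_comap_eq_self (hψr ▸ hWP)))
    exact ⟨by rw [Nat.card_congr f.toEquiv]; exact hW.card_four,
      by rw [Monoid.exponent_eq_of_mulEquiv f]; exact hW.exponent_two⟩
  have hV' := klein V inferInstance hV
  -- twelve elements inside P
  set A := (Subgroup.normalizer ((V.comap ψ : Subgroup _) : Set (Matrix.ProjectiveSpecialLinearGroup (Fin 2) K))).map ψ with hA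
  have hA12 : Nat.card A = 12 := by
    rw [hA, Subgroup.card_map_of_injective hψ]
    exact (H34.card_normalizer hK (V.comap ψ)).2 hsq
  have hAle : A ≤ N ⊓ Q := by
    rintro _ ⟨z, hz, rfl⟩
    refine ⟨?_, hPQ (hψr ▸ ⟨z, rfl⟩)⟩
    have e' : V = (V.comap ψ).map ψ := (Subgroup.map_comap_eq_self (hψr ▸ hV)).symm
    rw [hN, SetLike.mem_coe, e']
    exact Subgroup.le_normalizer_map ψ ⟨z, hz, rfl⟩
  -- an outer element
  obtain ⟨g, hgQ, hgP⟩ : ∃ g ∈ Q, g ∉ P := by
    by_contra hc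
    push Not at hc
    have h := Subgroup.card_le_of_le (show Q ≤ P from hc)
    have : 0 < Nat.card P := Nat.card_pos
    omega
  have hWP : V.map (MulAut.conj g).toMonoidHom ≤ P := by
    rintro _ ⟨x, hx, rfl⟩
    exact hnorm g hgQ x (hV hx)
  have hW := klein _ (H34.isKleinFour_map V g) hWP
  obtain ⟨h, hh⟩ := klein_conj hK hsq (V.comap ψ) ((V.map (MulAut.conj g).toMonoidHom).comap ψ)
  have hconj : V.map (MulAut.conj g).toMonoidHom = V.map (MulAut.conj (ψ h)).toMonoidHom := by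
    have eW : ((V.map (MulAut.conj g).toMonoidHom).comap ψ).map ψ = V.map (MulAut.conj g).toMonoidHom :=
      Subgroup.map_comap_eq_self (hψr ▸ hWP)
    have eV : (V.comap ψ).map ψ = V := Subgroup.map_comap_eq_self (hψr ▸ hV)
    conv_lhs => rw [← eW, hh, Subgroup.map_map]
    conv_rhs => rw [← eV, Subgroup.map_map]
    congr 1
    ext x
    simp
  have hz : (ψ h)⁻¹ * g ∈ N := by
    rw [hN, Subgroup.mem_normalizer_iff]
    intro y
    have h1 : V.map (MulAut.conj ((ψ h)⁻¹ * g)).toMonoidHom = V := by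
      rw [← map_conj_mul, hconj, map_conj_mul, inv_mul_cancel, map_conj_one]
    conv_rhs => rw [← h1, mem_map_conj]
    simp [mul_assoc]
  have hψh : ψ h ∈ P := hψr ▸ ⟨h, rfl⟩
  have hzQ : (ψ h)⁻¹ * g ∈ Q := Q.mul_mem (Q.inv_mem (hPQ hψh)) hgQ
  have hzA : (ψ h)⁻¹ * g ∉ A := fun hm => hgP (by
    have : (ψ h)⁻¹ * g ∈ P := by obtain ⟨z, -, hz⟩ := hm; exact hψr ▸ ⟨z, hz⟩
    simpa using P.mul_mem hψh this)
  have hlt : Nat.card A < Nat.card (N ⊓ Q : Subgroup P2) := by
    by_contra hge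
    have := Subgroup.eq_of_le_of_card_ge hAle (not_lt.mp hge)
    exact hzA (this ▸ ⟨hz, hzQ⟩)
  obtain ⟨j, hj⟩ := Subgroup.card_dvd_of_le hAle
  rw [hA12] at hlt hj
  have hle24 := Subgroup.card_le_of_le (inf_le_left : N ⊓ Q ≤ N)
  have : N ⊓ Q = N := Subgroup.eq_of_le_of_card_ge inf_le_left (by rw [h24] at hle24 ⊢; omega)
  exact inf_eq_left.mp this

/-- Maximal icosahedral subgroups. -/
theorem coatom_altFive (p : ℕ) [Fact p.Prime] [CharP F p] {M : Subgroup P2} (hM : IsCoatom M)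
    (e : M ≃* alternatingGroup (Fin 5)) :
    IsSubfield M ∨ (5 ∣ Fintype.card F * (Fintype.card F ^ 2 - 1) ∧
      ((Fintype.card F = p ∧ p ≠ 5) ∨ (Fintype.card F = p ^ 2 ∧ (p % 5 = 2 ∨ p % 5 = 3) ∧ p ≠ 2))) := by
  have hc : Nat.card M = 60 := (Nat.card_congr e.toEquiv).trans card_alt_five
  have h5 := dvd_of_altFive e
  have h60 : Nat.card P2 ≠ 60 := fun h => hM.1 (Subgroup.eq_top_of_card_eq _ (hc.trans h.symm))
  have hG := card_PSL_two_mul (F := F)
  obtain ⟨n, hp, hn⟩ := FiniteField.card F p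
  by_cases hpp : 5 ∣ p * (p ^ 2 - 1)
  · obtain ⟨r, hr⟩ := exists_root_of_five_dvd (F := ZMod p) (by rwa [ZMod.card])
    obtain ⟨ι⟩ := exists_ringHom_zmod (F := F) p
    obtain ⟨g, w, hle⟩ := exists_conj_le_pslSub ι hr e
    rcases (show (n : ℕ) = 1 ∨ 2 ≤ (n : ℕ) by have := n.pos; omega) with hn1 | hn2
    · rw [hn1, pow_one] at hn
      refine Or.inr ⟨h5, Or.inl ⟨hn, fun hp5 => h60 ?_⟩⟩
      rw [hn, hp5, show Nat.gcd 2 (5 - 1) = 2 from rfl, show 5 * (5 ^ 2 - 1) = 120 from rfl] at hG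
      omega
    · exact Or.inl (isSubfield_of_le hM ι hn2 (by rw [ZMod.card, hn]) hle)
  · have hp5 : p % 5 = 2 ∨ p % 5 = 3 := by
      by_contra hne
      refine hpp ?_
      rcases (show p % 5 = 0 ∨ p % 5 = 1 ∨ p % 5 = 4 by omega) with e | e | e
      · exact Dvd.dvd.mul_right (Nat.dvd_of_mod_eq_zero e) _
      all_goals
        refine Dvd.dvd.mul_left ?_ _
        have : p ^ 2 % 5 = 1 := by rw [Nat.pow_mod, e]
        omega
    have hpsq : p ^ 2 % 5 = 4 := by rw [Nat.pow_mod]; rcases hp5 with e | e <;> rw [e]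
    have hne : Even (n : ℕ) := by
      by_contra hodd
      obtain ⟨i, hi⟩ := Nat.not_even_iff_odd.mp hodd
      have hq : Fintype.card F ^ 2 % 5 = 4 := by
        rw [hn, ← pow_mul, mul_comm, pow_mul, Nat.pow_mod, hpsq, hi, pow_succ, pow_mul]
        simp [Nat.mul_mod, Nat.pow_mod]
      rcases Nat.prime_five.dvd_mul.mp h5 with h | h
      · have h0 : 5 ∣ Fintype.card F ^ 2 := dvd_pow h two_ne_zero
        omega
      · omega
    obtain ⟨k, hk⟩ := hne
    have iK : Fintype (GaloisField p 2) := Fintype.ofFinite _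
    have hK : Fintype.card (GaloisField p 2) = p ^ 2 := by
      rw [← Nat.card_eq_fintype_card, GaloisField.card p 2 two_ne_zero]
    obtain ⟨r, hr⟩ := exists_root_of_five_dvd (F := GaloisField p 2) (by
      rw [hK]
      refine Dvd.dvd.mul_left ?_ _
      have : (p ^ 2) ^ 2 % 5 = 1 := by rw [Nat.pow_mod, hpsq]
      omega)
    have hk1 : 1 ≤ k := by have := n.pos; omega
    have hq : Fintype.card (GaloisField p 2) ^ k = Fintype.card F := by
      rw [hK, ← pow_mul, hn, hk, two_mul]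
    obtain ⟨ι⟩ := exists_ringHom (F := F) hk1 hq
    obtain ⟨g, w, hle⟩ := exists_conj_le_pslSub ι hr e
    rcases (show k = 1 ∨ 2 ≤ k by omega) with rfl | hk2
    · rw [hk] at hn
      refine Or.inr ⟨h5, Or.inr ⟨hn, hp5, fun hp2 => h60 ?_⟩⟩
      rw [hn, hp2, show Nat.gcd 2 (2 ^ (1 + 1) - 1) = 1 from rfl,
        show 2 ^ (1 + 1) * ((2 ^ (1 + 1)) ^ 2 - 1) = 60 from rfl] at hG
      omega
    · exact Or.inl (isSubfield_of_le hM ι hk2 hq hle)

/-- Maximal octahedral subgroups. -/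
theorem coatom_symFour (p : ℕ) [Fact p.Prime] [CharP F p] (hodd : Odd (Fintype.card F))
    {M : Subgroup P2} (hM : IsCoatom M) (e : M ≃* Equiv.Perm (Fin 4)) :
    IsSubfield M ∨ (Fintype.card F = p ∧ (p % 8 = 1 ∨ p % 8 = 7)) := by
  obtain ⟨n, hp, hn⟩ := FiniteField.card F p
  have h16 : Fintype.card F ^ 2 % 16 = 1 := S0803.main.mp ⟨M, ⟨e⟩⟩
  have hF8 : Fintype.card F % 8 = 1 ∨ Fintype.card F % 8 = 7 := by
    rw [Nat.pow_mod] at h16
    have : Fintype.card F % 16 % 2 = 1 := by have := Nat.odd_iff.mp hodd; omega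
    have : Fintype.card F % 16 < 16 := Nat.mod_lt _ (by norm_num)
    have e8 : Fintype.card F % 8 = Fintype.card F % 16 % 8 := by omega
    rw [e8]
    generalize Fintype.card F % 16 = a at *
    interval_cases a <;> omega
  have hpodd : p % 2 = 1 := by
    rw [hn] at hodd
    exact Nat.odd_iff.mp ((Nat.odd_pow_iff n.ne_zero).mp hodd)
  obtain ⟨ι⟩ := exists_ringHom_zmod (F := F) p
  by_cases hp8 : p % 8 = 1 ∨ p % 8 = 7
  · rcases (show (n : ℕ) = 1 ∨ 2 ≤ (n : ℕ) by have := n.pos; omega) with hn1 | hn2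
    · exact Or.inr ⟨by rw [hn, hn1, pow_one], hp8⟩
    · obtain ⟨g, w, hle⟩ := exists_conj_le_pslSub_symFour hodd ι
        (FiniteField.isSquare_two_iff.mpr (by rw [ZMod.card]; omega)) e
      exact Or.inl (isSubfield_of_le hM ι hn2 (by rw [ZMod.card, hn]) hle)
  · left
    have hp28 : p ^ 2 % 8 = 1 := by
      rw [Nat.pow_mod]
      rcases (show p % 8 = 3 ∨ p % 8 = 5 by omega) with e | e <;> rw [e]
    have hne : Even (n : ℕ) := by
      by_contra hne
      obtain ⟨i, hi⟩ := Nat.not_even_iff_odd.mp hne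
      have : Fintype.card F % 8 = p % 8 := by
        rw [hn, hi, pow_succ, pow_mul, Nat.mul_mod, Nat.pow_mod, hp28]
        simp
      omega
    obtain ⟨k, hk⟩ := hne
    have hk1 : 1 ≤ k := by have := n.pos; omega
    rcases (show k = 1 ∨ 2 ≤ k by omega) with rfl | hk2
    · -- inside the copy of PGL_2 over the prime field
      have hnsq : ¬ IsSquare (2 : ZMod p) := by rw [FiniteField.isSquare_two_iff, ZMod.card]; omega
      have hKodd : Odd (Fintype.card (ZMod p)) := by rw [ZMod.card]; exact Nat.odd_iff.mpr hpodd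
      have hq : Fintype.card (ZMod p) ^ 2 = Fintype.card F := by rw [ZMod.card, hn, hk]
      obtain ⟨lam, ν, h1, h2⟩ := exists_sqrt_gen ι even_two hKodd hq
      obtain ⟨f, hf⟩ := exists_perm_four_embedding e
      let A := (alternatingGroup (Fin 4)).map (M.subtype.comp e.symm.toMonoidHom)
      let eA : A ≃* alternatingGroup (Fin 4) :=
        ((alternatingGroup (Fin 4)).equivMapOfInjective _ (M.subtype_injective.comp e.symm.injective)).symm
      obtain ⟨g, w, hle⟩ := exists_conj_le_pslSub_altFour hodd ι eA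
      obtain ⟨V, hV, hVM, hMV⟩ := exists_klein_normal_sym e
      have h24 := (H34.card_normalizer hodd V).1 (FiniteField.isSquare_two_iff.mpr (by omega))
      have hM24 : Nat.card M = 24 := (Nat.card_congr e.toEquiv).trans card_sym_four
      have hMN : M = Subgroup.normalizer (V : Set P2) :=
        Subgroup.eq_of_le_of_card_ge hMV (by rw [h24, hM24])
      have hA : A ≤ M := by rintro _ ⟨z, -, rfl⟩; exact (e.symm z).2
      have hVA : V ≤ A := by
        intro v hv
        refine ⟨e ⟨v, hVM hv⟩, ?_, by simp⟩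
        have hsq : e ⟨v, hVM hv⟩ * e ⟨v, hVM hv⟩ = 1 := by
          rw [← map_mul, ← map_one e]
          exact congrArg e (Subtype.ext (H34.klein_props V hv hv).1)
        have hVA2 : ∀ σ : Equiv.Perm (Fin 4), σ * σ = 1 → (∀ τ, τ * σ * τ⁻¹ * σ = σ * (τ * σ * τ⁻¹)) →
            Equiv.Perm.sign σ = 1 := by decide +kernel
        refine Equiv.Perm.mem_alternatingGroup.mpr (hVA2 _ hsq fun τ => ?_)
        have hn' : (e.symm τ : P2) * v * (e.symm τ : P2)⁻¹ ∈ V :=
          (Subgroup.mem_normalizer_iff.mp (hMV (e.symm τ).2) v).mp hv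
        have hc := (H34.klein_props V hn' hv).2
        have : e.symm τ * ⟨v, hVM hv⟩ * (e.symm τ)⁻¹ * ⟨v, hVM hv⟩ =
            ⟨v, hVM hv⟩ * (e.symm τ * ⟨v, hVM hv⟩ * (e.symm τ)⁻¹) := Subtype.ext hc
        simpa using congrArg e this
      obtain ⟨eP⟩ := nonempty_pslSub_equiv ι w
      have hPQ := Subgroup.map_mono (f := (MulAut.conj g).toMonoidHom) (pslSub_le_pglSub ι w lam)
      have hcard : Nat.card ((pglSub ι w lam).map (MulAut.conj g).toMonoidHom) =
          2 * Nat.card ((pslSub ι w).map (MulAut.conj g).toMonoidHom) := by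
        rw [card_map_conj, card_map_conj, card_pglSub ι w h1 h2, ← card_pslSub_mul ι w,
          Nat.gcd_eq_left (by rw [ZMod.card]; omega : 2 ∣ Fintype.card (ZMod p) - 1)]
      have hMQ : M ≤ (pglSub ι w lam).map (MulAut.conj g).toMonoidHom := hMN ▸
        normalizer_klein_le hKodd hnsq hPQ hcard
          (((pslSub ι w).equivMapOfInjective _ (MulAut.conj g).injective).symm.trans eP)
          (hVA.trans hle) h24
      refine ⟨ZMod p, inferInstance, inferInstance, ι, g, w, Or.inr ⟨lam, ν, h1, h2, ?_⟩⟩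
      exact eq_of_coatom_le hM hMQ
        (pslSub_ne_top le_rfl hq (by rw [card_map_conj, card_pglSub ι w h1 h2]))
    · have iK : Fintype (GaloisField p 2) := Fintype.ofFinite _
      have hK : Fintype.card (GaloisField p 2) = p ^ 2 := by
        rw [← Nat.card_eq_fintype_card, GaloisField.card p 2 two_ne_zero]
      have hq : Fintype.card (GaloisField p 2) ^ k = Fintype.card F := by
        rw [hK, ← pow_mul, hn, hk, two_mul]
      obtain ⟨ι2⟩ := exists_ringHom (F := F) hk1 hq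
      obtain ⟨g, w, hle⟩ := exists_conj_le_pslSub_symFour hodd ι2
        (FiniteField.isSquare_two_iff.mpr (by rw [hK]; omega)) e
      exact isSubfield_of_le hM ι2 hk2 hq hle

/-- Maximal tetrahedral subgroups. -/
theorem coatom_altFour (p : ℕ) [Fact p.Prime] [CharP F p] (hodd : Odd (Fintype.card F))
    (h5 : 5 ≤ Fintype.card F) {M : Subgroup P2} (hM : IsCoatom M) (e : M ≃* alternatingGroup (Fin 4)) :
    IsSubfield M ∨ (Fintype.card F = p ∧ (p % 8 = 3 ∨ p % 8 = 5) ∧ ¬ (p % 10 = 1 ∨ p % 10 = 9)) := by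
  obtain ⟨n, hp, hn⟩ := FiniteField.card F p
  obtain ⟨ι⟩ := exists_ringHom_zmod (F := F) p
  rcases (show (n : ℕ) = 1 ∨ 2 ≤ (n : ℕ) by have := n.pos; omega) with hn1 | hn2
  swap
  · obtain ⟨g, w, hle⟩ := exists_conj_le_pslSub_altFour hodd ι e
    exact Or.inl (isSubfield_of_le hM ι hn2 (by rw [ZMod.card, hn]) hle)
  rw [hn1, pow_one] at hn
  have hM12 : Nat.card M = 12 := (Nat.card_congr e.toEquiv).trans card_alt_four
  obtain ⟨V, hV, -, hMV⟩ := exists_klein_normal e
  have h60 := sixty_le_card (F := F) (by omega)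
  have hno : ∀ H : Subgroup P2, Nat.card H = 24 ∨ Nat.card H = 12 → M ≤ H → Nat.card H = 12 := by
    intro H hH hle
    rcases hH with h | h
    · exfalso
      have := eq_of_coatom_le hM hle (fun ht => by rw [ht, Subgroup.card_top] at h; omega)
      rw [this, h] at hM12
      omega
    · exact h
  have hnsq : ¬ IsSquare (2 : F) := fun hs => by
    have h := (H34.card_normalizer hodd V).1 hs
    have := hno _ (Or.inl h) hMV
    omega
  have hp8 : p % 8 = 3 ∨ p % 8 = 5 := by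
    rw [FiniteField.isSquare_two_iff, hn] at hnsq
    omega
  refine Or.inr ⟨hn, hp8, fun h10 => ?_⟩
  have hd : 5 ∣ Fintype.card F * (Fintype.card F ^ 2 - 1) := by
    rw [hn]
    refine Dvd.dvd.mul_left ?_ _
    have : p ^ 2 % 5 = 1 := by
      rw [Nat.pow_mod]; rcases (show p % 5 = 1 ∨ p % 5 = 4 by omega) with e | e <;> rw [e]
    omega
  obtain ⟨H, ⟨eH⟩⟩ := exists_altFive hd
  obtain ⟨f, hf⟩ := exists_altFour_altFive
  let ψ : alternatingGroup (Fin 4) →* P2 := (H.subtype.comp eH.symm.toMonoidHom).comp f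
  have hψ : Function.Injective ψ := (H.subtype_injective.comp eH.symm.injective).comp hf
  let eA : ψ.range ≃* alternatingGroup (Fin 4) := (MonoidHom.ofInjective hψ).symm
  obtain ⟨W, hW, -, hAW⟩ := exists_klein_normal eA
  have hMN : M = Subgroup.normalizer (V : Set P2) :=
    Subgroup.eq_of_le_of_card_ge hMV (by rw [(H34.card_normalizer hodd V).2 hnsq, hM12])
  have hAN : ψ.range = Subgroup.normalizer (W : Set P2) :=
    Subgroup.eq_of_le_of_card_ge hAW (by
      rw [(H34.card_normalizer hodd W).2 hnsq, Nat.card_congr eA.toEquiv, card_alt_four])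
  obtain ⟨g, hg⟩ := klein_conj hodd hnsq V W
  have hle : M.map (MulAut.conj g).toMonoidHom ≤ H := by
    rw [hMN, Subgroup.map_equiv_normalizer_eq V (MulAut.conj g), ← hg, ← hAN]
    rintro _ ⟨z, rfl⟩
    exact (eH.symm (f z)).2
  have hle' : M ≤ H.map (MulAut.conj g⁻¹).toMonoidHom := fun m hm => mem_map_conj.mpr (by
    have := hle (conj_mem_map_conj hm)
    simpa using this)
  have hc : Nat.card (H.map (MulAut.conj g⁻¹).toMonoidHom) = 60 := by
    rw [card_map_conj, Nat.card_congr eH.toEquiv, card_alt_five]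
  have := eq_of_coatom_le hM hle' (fun ht => by
    rw [ht, Subgroup.card_top] at hc
    have hG := card_PSL_two_mul (F := F)
    rw [hn, hc] at hG
    have h11 : 11 ≤ p := by omega
    have h1 : 11 * 120 ≤ p * (p ^ 2 - 1) :=
      Nat.mul_le_mul h11 (Nat.le_sub_one_of_lt (lt_of_lt_of_le (by norm_num) (Nat.pow_le_pow_left h11 2)))
    have h2 : Nat.gcd 2 (p - 1) * 60 ≤ 120 :=
      Nat.mul_le_mul_right 60 (Nat.le_of_dvd two_pos (Nat.gcd_dvd_left 2 _))
    omega)
  rw [this, hc] at hM12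
  omega

theorem not_coatom_of_conj_le {M H : Subgroup P2} (hM : IsCoatom M) {g : P2}
    (hle : M.map (MulAut.conj g).toMonoidHom ≤ H) (hlt : Nat.card M < Nat.card H)
    (hH : Nat.card H < Nat.card P2) : False := by
  have hle' : M ≤ H.map (MulAut.conj g⁻¹).toMonoidHom := fun m hm => mem_map_conj.mpr (by
    have := hle (conj_mem_map_conj hm)
    simpa using this)
  have := eq_of_coatom_le hM hle' (fun ht => by
    have h := congrArg (fun S : Subgroup P2 => Nat.card S) ht
    simp only [card_map_conj, Subgroup.card_top] at h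
    omega)
  rw [this, card_map_conj] at hlt
  exact lt_irrefl _ hlt

/-- The torus normalisers which are not maximal in the small fields. -/
theorem small_torus_not_coatom {a : P2} (ha : ¬ IsUni a)
    (h : (Fintype.card F = 5 ∧ Nat.card (cen a) = 2) ∨ (Fintype.card F = 7 ∧ (Nat.card (cen a) = 3 ∨ Nat.card (cen a) = 4)) ∨
      (Fintype.card F = 9 ∧ (Nat.card (cen a) = 4 ∨ Nat.card (cen a) = 5)) ∨
      (Fintype.card F = 11 ∧ Nat.card (cen a) = 5)) :
    ¬ IsCoatom (Subgroup.normalizer ((cen a) : Set P2)) := by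
  intro hM
  have hN := (torus_normalizer_props ha).1
  have hG := card_PSL_two_mul (F := F)
  have hsq : Fintype.card F ∈ ({7, 9} : Finset ℕ) → Fintype.card F ^ 2 % 16 = 1 := by
    intro h; simp at h; rcases h with e | e <;> rw [e] <;> rfl
  have h2 := fact_iff.mpr Nat.prime_two
  obtain ⟨p, hchar⟩ := CharP.exists F
  have : Fact p.Prime := ⟨CharP.char_is_prime F p⟩
  obtain ⟨n, hp, hn⟩ := FiniteField.card F p
  obtain ⟨hy5, hy2, hyc⟩ : H66.y5 ^ 5 = 1 ∧
      (⟨Equiv.swap 1 4 * Equiv.swap 2 3, Equiv.Perm.mem_alternatingGroup.mpr (by decide)⟩ : alternatingGroup (Fin 5)) ^ 2 = 1 ∧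
      (⟨Equiv.swap 1 4 * Equiv.swap 2 3, Equiv.Perm.mem_alternatingGroup.mpr (by decide)⟩ : alternatingGroup (Fin 5)) * H66.y5 *
        (⟨Equiv.swap 1 4 * Equiv.swap 2 3, Equiv.Perm.mem_alternatingGroup.mpr (by decide)⟩ : alternatingGroup (Fin 5))⁻¹ = H66.y5⁻¹ := by
    decide
  have via_five : 5 ∣ Fintype.card F * (Fintype.card F ^ 2 - 1) → Nat.card (cen a) = 5 →
      ¬ 5 ^ 2 ∣ Nat.card P2 → 60 < Nat.card P2 → False := by
    intro hd hk h25 hbig
    obtain ⟨H, ⟨e⟩⟩ := exists_altFive hd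
    have : Fact (Nat.Prime 5) := ⟨Nat.prime_five⟩
    have ho : ∀ (z : alternatingGroup (Fin 5)) (l : ℕ) [Fact l.Prime], z ≠ 1 → z ^ l = 1 →
        orderOf (e.symm z : P2) = l := fun z l _ hz hzl => by
      rw [Subgroup.orderOf_coe, MulEquiv.orderOf_eq, orderOf_eq_prime hzl hz]
    obtain ⟨g, hg⟩ := exists_conj_normalizer_le h25 hk (hk ▸ hN) (by norm_num) (e.symm H66.y5).2
      (e.symm (⟨Equiv.swap 1 4 * Equiv.swap 2 3, Equiv.Perm.mem_alternatingGroup.mpr (by decide)⟩ :
        alternatingGroup (Fin 5))).2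
      (ho _ 5 (by decide) hy5) (ho _ 2 (by decide) hy2)
      (by rw [← Subgroup.coe_inv, ← Subgroup.coe_inv, ← Subgroup.coe_mul, ← Subgroup.coe_mul, ← map_inv,
            ← map_inv, ← map_mul, ← map_mul, hyc])
    have hH : Nat.card H = 60 := (Nat.card_congr e.toEquiv).trans card_alt_five
    exact not_coatom_of_conj_le hM hg (by omega) (by omega)
  have via_two : ∀ (H : Subgroup P2) (k : ℕ), 2 * Nat.card (cen a) = 2 ^ k → 2 ^ k ∣ Nat.card H →
      2 ^ k < Nat.card H → ¬ 2 ^ (k + 1) ∣ Nat.card P2 → Nat.card H < Nat.card P2 → False := by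
    intro H k hk hd hlt hnd hbig
    obtain ⟨g, hg⟩ := exists_conj_le_of_pPart (l := 2) hnd (hN.trans hk) hd
    exact not_coatom_of_conj_le hM hg (by omega) hbig
  rcases h with ⟨hq, hk⟩ | ⟨hq, hk⟩ | ⟨hq, hk⟩ | ⟨hq, hk⟩ <;> rw [hq] at hG
  · rw [show Nat.gcd 2 (5 - 1) = 2 from rfl, show 5 * (5 ^ 2 - 1) = 120 from rfl] at hG
    obtain ⟨H, ⟨e⟩⟩ := (S0802.result p n hn).mpr (fun hc => by
      rw [hn, hc.1] at hq
      have : 2 ∣ 2 ^ (n : ℕ) := dvd_pow_self 2 n.ne_zero
      omega)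
    have hH : Nat.card H = 12 := (Nat.card_congr e.toEquiv).trans card_alt_four
    exact via_two H 2 (by omega) (by rw [hH]; norm_num) (by omega) (by norm_num; omega) (by omega)
  · rw [show Nat.gcd 2 (7 - 1) = 2 from rfl, show 7 * (7 ^ 2 - 1) = 336 from rfl] at hG
    obtain ⟨H, ⟨e⟩⟩ := S0803.main.mpr (hsq (by simp [hq]))
    have hH : Nat.card H = 24 := (Nat.card_congr e.toEquiv).trans card_sym_four
    rcases hk with hk | hk
    · have : Fact (Nat.Prime 3) := ⟨Nat.prime_three⟩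
      obtain ⟨ho3, ho2, hc⟩ : genSym.2 ^ 3 = 1 ∧ Equiv.swap (2 : Fin 4) 3 ^ 2 = 1 ∧
          Equiv.swap (2 : Fin 4) 3 * genSym.2 * (Equiv.swap (2 : Fin 4) 3)⁻¹ = genSym.2⁻¹ := by decide
      have ho : ∀ (z : Equiv.Perm (Fin 4)) (l : ℕ) [Fact l.Prime], z ≠ 1 → z ^ l = 1 →
          orderOf (e.symm z : P2) = l := fun z l _ hz hzl => by
        rw [Subgroup.orderOf_coe, MulEquiv.orderOf_eq, orderOf_eq_prime hzl hz]
      obtain ⟨g, hg⟩ := exists_conj_normalizer_le (l := 3) (by norm_num; omega) hk (hk ▸ hN) (by norm_num)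
        (e.symm genSym.2).2 (e.symm (Equiv.swap (2 : Fin 4) 3)).2
        (ho _ 3 (by decide) ho3) (ho _ 2 (by decide) ho2)
        (by rw [← Subgroup.coe_inv, ← Subgroup.coe_inv, ← Subgroup.coe_mul, ← Subgroup.coe_mul, ← map_inv,
              ← map_inv, ← map_mul, ← map_mul, hc])
      exact not_coatom_of_conj_le hM hg (by omega) (by omega)
    · exact via_two H 3 (by omega) (by rw [hH]; norm_num) (by omega) (by norm_num; omega) (by omega)
  · rw [show Nat.gcd 2 (9 - 1) = 2 from rfl, show 9 * (9 ^ 2 - 1) = 720 from rfl] at hG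
    rcases hk with hk | hk
    · obtain ⟨H, ⟨e⟩⟩ := S0803.main.mpr (hsq (by simp [hq]))
      have hH : Nat.card H = 24 := (Nat.card_congr e.toEquiv).trans card_sym_four
      exact via_two H 3 (by omega) (by rw [hH]; norm_num) (by omega) (by norm_num; omega) (by omega)
    · exact via_five (by rw [hq]; norm_num) hk (by norm_num; omega) (by omega)
  · rw [show Nat.gcd 2 (11 - 1) = 2 from rfl, show 11 * (11 ^ 2 - 1) = 1320 from rfl] at hG
    exact via_five (by rw [hq]; norm_num) hk (by norm_num; omega) (by omega)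

/-- A maximal copy of PSL_2(2) is a torus normaliser. -/
theorem inTorus_of_card_six [CharP F 2] {M : Subgroup P2} (h6 : Nat.card M = 6) : InTorus M := by
  have : Fact (Nat.Prime 3) := ⟨Nat.prime_three⟩
  obtain ⟨x, hx⟩ := exists_prime_orderOf_dvd_card' (G := M) 3 (by rw [h6]; norm_num)
  have hx1 : (x : P2) ≠ 1 := fun h => by
    rw [OneMemClass.coe_eq_one.mp h, orderOf_one] at hx; norm_num at hx
  refine ⟨x, fun hu => ?_, fun m hm => ?_⟩
  · have h2 := pow_char_eq_one_of_isUni 2 hu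
    have := orderOf_dvd_of_pow_eq_one h2
    rw [Subgroup.orderOf_coe, hx] at this
    norm_num at this
  · have hidx : (Subgroup.zpowers x).index = 2 := by
      have h := (Subgroup.zpowers x).card_mul_index
      rw [Nat.card_zpowers, hx, h6] at h
      omega
    have hn := Subgroup.normal_of_index_eq_two hidx
    obtain ⟨i, hi⟩ := hn.conj_mem x (Subgroup.mem_zpowers x) ⟨m, hm⟩
    have hi' : m * (x : P2) * m⁻¹ = (x : P2) ^ i := (congrArg Subtype.val hi).symm
    have hmem : m * (x : P2) * m⁻¹ ∈ cen (x : P2) := hi' ▸ Subgroup.zpow_mem _ (mem_cen_self _) i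
    have he := cen_eq_of_mem hx1 (fun h => hx1 (conj_eq_one_iff.mp h)) hmem
    rw [Subgroup.mem_normalizer_iff]
    intro y
    have := mem_cen_conj m (x : P2) y
    rw [he] at this
    exact this.symm

end Cfsg.Agent.Linear.Dickson
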