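import Cfsg.Agent.Linear.Dickson.PGLMax

/-!
The classification transported to PGL_2(q).
-/

namespace Cfsg.Agent.Linear.Dickson

open Matrix Cfsg.Agent.Linear

variable {F : Type*} [Field F] [Fintype F]

local notation "PG" => Matrix.ProjGenLinGroup (Fin 2) F
local notation "PF" => Matrix.ProjectiveSpecialLinearGroup (Fin 2) F
set_option quotPrecheck false in
local notation "LL" =>
  (MonoidHom.range (MonoidHom.comp (Matrix.ProjGenLinGroup.mk (n := Fin 2) (R := F)) Matrix.SpecialLinearGroup.toGL))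

omit [Fintype F] in
theorem range_mk_toGL :
    ((Matrix.ProjGenLinGroup.mk.comp Matrix.SpecialLinearGroup.toGL).range : Subgroup PG) =
      (Matrix.ProjectiveSpecialLinearGroup.toPGL : PF →* PG).range := by
  ext x
  constructor
  · rintro ⟨z, rfl⟩
    exact ⟨QuotientGroup.mk z, rfl⟩
  · rintro ⟨y, rfl⟩
    obtain ⟨z, rfl⟩ := QuotientGroup.mk_surjective y
    exact ⟨z, rfl⟩

theorem exists_embedding (p : ℕ) [Fact p.Prime] [CharP F p] (hodd : Odd (Fintype.card F))
    (h5 : 5 ≤ Fintype.card F) (M : Subgroup PG) (hM : IsCoatom M) (hML : ¬ LL ≤ M) :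
    ∃ M0 : Subgroup PF, PGLRes F p M M0 ∧ (IsCoatom M0 → IsCoatom ((M ⊓ LL).subgroupOf LL)) := by
  classical
  obtain ⟨n, hp, hn⟩ := FiniteField.card F p
  have hn2 : 2 * (n : ℕ) ≠ 0 := by have := n.pos; omega
  let iE : Fintype (GaloisField p (2 * n)) := Fintype.ofFinite _
  have hEc : Fintype.card F ^ 2 = Fintype.card (GaloisField p (2 * n)) := by
    rw [← Nat.card_eq_fintype_card (α := GaloisField p (2 * n)), GaloisField.card p _ hn2, hn, ← pow_mul,
      mul_comm]
  obtain ⟨ι⟩ := exists_ringHom (K := F) (F := GaloisField p (2 * n)) one_le_two hEc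
  obtain ⟨lam, ν, hν, hgen⟩ := exists_sqrt_gen ι even_two hodd hEc
  obtain ⟨e⟩ := nonempty_pglSub_equiv ι 1 hν hgen
  set G' := pglSub ι (1 : (GaloisField p (2 * n))ˣ) lam
  set P0 := pslSub ι (1 : (GaloisField p (2 * n))ˣ)
  let Φ : PG →* Matrix.ProjectiveSpecialLinearGroup (Fin 2) (GaloisField p (2 * n)) :=
    G'.subtype.comp e.symm.toMonoidHom
  have hΦ : Function.Injective Φ := G'.subtype_injective.comp e.symm.injective
  have hΦmem : ∀ x, Φ x ∈ G' := fun x => (e.symm x).2
  have hΦr : ∀ y ∈ G', ∃ x, Φ x = y := fun y hy => ⟨e ⟨y, hy⟩, by simp [Φ]⟩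
  -- the image of PSL_2
  have hLc : Nat.card ((Subgroup.map Φ LL)) = Nat.card PF := by
    rw [Subgroup.card_map_of_injective hΦ, range_mk_toGL,
      ← Nat.card_congr (MonoidHom.ofInjective Matrix.ProjectiveSpecialLinearGroup.toPGL_injective).toEquiv]
  have hPc : Nat.card P0 = Nat.card PF := by
    rw [show P0 = (incl ι).range from (range_incl ι).symm,
      ← Nat.card_congr (MonoidHom.ofInjective (incl_injective ι)).toEquiv]
  have hLle : (Subgroup.map Φ LL) ≤ G' := by rintro _ ⟨x, -, rfl⟩; exact hΦmem x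
  have hL : (Subgroup.map Φ LL) = P0 := by
    have hidx : (((Subgroup.map Φ LL)).subgroupOf G').index = 2 := by
      have h := (((Subgroup.map Φ LL)).subgroupOf G').card_mul_index
      rw [Nat.card_congr (Subgroup.subgroupOfEquivOfLe hLle).toEquiv, hLc,
        card_pglSub_eq_two_mul ι hν hgen hodd, hPc] at h
      exact Nat.eq_of_mul_eq_mul_left Nat.card_pos (h.trans (mul_comm _ _))
    have hn' := Subgroup.normal_of_index_eq_two hidx
    have hnor : (((Subgroup.map Φ LL)).comap (incl ι)).Normal := ⟨fun x hx y => by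
      have := hn'.conj_mem ⟨incl ι x, hLle hx⟩ hx ⟨incl ι y, pslSub_le_pglSub ι 1 lam (incl_mem ι y)⟩
      rw [Subgroup.mem_comap, map_mul, map_mul, map_inv]
      exact this⟩
    have := isSimpleGroup_PSL_fin (F := F) le_rfl fun _ => by rw [Nat.card_eq_fintype_card]; omega
    rcases hnor.eq_bot_or_eq_top with h | h
    · exfalso
      have hsq : ∀ a ∈ (Subgroup.map Φ LL), a * a = 1 := by
        intro a ha
        obtain ⟨y, hy⟩ : a * a ∈ (incl ι).range := range_incl ι ▸ sq_mem_psl ι hν hgen hodd (hLle ha)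
        have : y ∈ ((Subgroup.map Φ LL)).comap (incl ι) := by
          rw [Subgroup.mem_comap, hy]; exact mul_mem ha ha
        rw [h, Subgroup.mem_bot] at this
        rw [← hy, this, map_one]
      let f : PF →* PG := Matrix.ProjectiveSpecialLinearGroup.toPGL
      have hf : ∀ y, Φ (f y) ∈ (Subgroup.map Φ LL) := fun y =>
        Subgroup.mem_map_of_mem Φ (range_mk_toGL (F := F) ▸ ⟨y, rfl⟩)
      have hcomm : ∀ y z : PF, y * z = z * y := by
        intro y z
        refine Matrix.ProjectiveSpecialLinearGroup.toPGL_injective (hΦ ?_)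
        have hinv : ∀ a ∈ (Subgroup.map Φ LL), a⁻¹ = a := fun a ha => inv_eq_of_mul_eq_one_right (hsq a ha)
        have h1 := hinv _ (mul_mem (hf y) (hf z))
        rw [_root_.mul_inv_rev, hinv _ (hf y), hinv _ (hf z)] at h1
        simpa [f] using h1.symm
      exact not_isSolvable_PSL (K := F) (by rw [Nat.card_eq_fintype_card]; omega) (Group.isSolvable_of_comm hcomm)
    · refine (Subgroup.eq_of_le_of_card_ge (fun y hy => ?_) (hLc.trans hPc.symm).le).symm
      obtain ⟨x, rfl⟩ : y ∈ (incl ι).range := range_incl ι ▸ hy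
      exact (h ▸ Subgroup.mem_top x : x ∈ ((Subgroup.map Φ LL)).comap (incl ι))
  set M' := M.map Φ with hM'
  have hmax : IsMaxIn G' P0 M' := by
    refine ⟨by rintro _ ⟨x, -, rfl⟩; exact hΦmem x, fun h => hM.1 ?_, fun N h1 h2 h3 => ?_, fun h => hML ?_⟩
    · refine (Subgroup.eq_top_iff' M).mpr fun x => ?_
      have := h.ge (hΦmem x)
      exact (Subgroup.mem_map_iff_mem hΦ).mp this
    · have hle : M ≤ N.comap Φ := Subgroup.map_le_iff_le_comap.mp h1
      rcases hle.eq_or_lt with he | hlt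
      · rw [hM', he]
        exact Subgroup.map_comap_eq_self fun y hy => hΦr y (h2 hy)
      · exfalso
        refine h3 (le_antisymm h2 fun y hy => ?_)
        obtain ⟨x, rfl⟩ := hΦr y hy
        exact ((hM.2 _ hlt) ▸ Subgroup.mem_top x : x ∈ N.comap Φ)
    · intro x hx
      exact (Subgroup.mem_map_iff_mem hΦ).mp (h (hL ▸ Subgroup.mem_map_of_mem Φ hx))
  have hres := hmax.res ι hν hgen hodd h5 p hEc
  refine ⟨M'.comap (incl ι), ?_, fun hco => ?_⟩
  · let eM : M' ≃* M := (M.equivMapOfInjective Φ hΦ).symm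
    rcases hres with ⟨h1, h2⟩ | ⟨z, h1, h2, ⟨d⟩, h4⟩ | ⟨h1, h2, ⟨d⟩, h4⟩ | ⟨K, iK, iK', j, r, g, w, h1, h2, h3, h4, ⟨d⟩⟩
    · exact Or.inl ⟨by rw [← h1, Nat.card_congr eM.toEquiv], h2⟩
    · exact Or.inr (Or.inl ⟨z, h1, h2, ⟨eM.symm.trans d⟩, h4⟩)
    · exact Or.inr (Or.inr (Or.inl ⟨h1, h2, ⟨eM.symm.trans d⟩, h4⟩))
    · exact Or.inr (Or.inr (Or.inr ⟨K, iK, iK', j, r, g, w, h1, h2, h3, h4, ⟨eM.symm.trans d⟩⟩))
  · let θ : PF ≃* LL := (MonoidHom.ofInjective (incl_injective ι)).trans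
      ((MulEquiv.subgroupCongr ((range_incl ι).trans hL.symm)).trans (Subgroup.equivMapOfInjective LL Φ hΦ).symm)
    have hθ : ∀ y, Φ (θ y : PG) = incl ι y := fun y => by
      have := (Subgroup.equivMapOfInjective LL Φ hΦ).apply_symm_apply
        ((MulEquiv.subgroupCongr ((range_incl ι).trans hL.symm)) (MonoidHom.ofInjective (incl_injective ι) y))
      exact congrArg Subtype.val this
    have he : θ.comapSubgroup ((M ⊓ LL).subgroupOf LL) = M'.comap (incl ι) := by
      ext y
      show (θ y : PG) ∈ M ⊓ LL ↔ incl ι y ∈ M'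
      rw [← hθ y, hM', Subgroup.mem_map_iff_mem hΦ]
      exact ⟨fun h => h.1, fun h => ⟨h, (θ y).2⟩⟩
    exact (θ.comapSubgroup.isCoatom_iff _).mp (he ▸ hco)

end Cfsg.Agent.Linear.Dickson
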