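import Cfsg.Agent.Linear.Dickson.PGLEmbed

/-!
Maximal subgroups of PGL_2(q) inside PSL_2(q²): generalities and the copies over subfields.
-/

namespace Cfsg.Agent.Linear.Dickson

open Matrix Cfsg.Agent.Linear

/-- Maximality inside an ambient subgroup, with a distinguished normal subgroup not contained. -/
structure IsMaxIn {G : Type*} [Group G] (G' P0 M : Subgroup G) : Prop where
  le : M ≤ G'
  ne : M ≠ G'
  max : ∀ N, M ≤ N → N ≤ G' → N ≠ G' → M = N
  not_le : ¬ P0 ≤ M

/-- The list of maximal subgroups, with their traces on PSL_2. -/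
def PGLRes (F : Type*) [Field F] [Fintype F] (p : ℕ) {G : Type*} [Group G] (M : Subgroup G)
    (M0 : Subgroup (Matrix.ProjectiveSpecialLinearGroup (Fin 2) F)) : Prop :=
  (Nat.card M = Fintype.card F * (Fintype.card F - 1) ∧
    ∃ g, M0 = (borel F).map (MulAut.conj g).toMonoidHom) ∨
  (∃ z : Matrix.ProjectiveSpecialLinearGroup (Fin 2) F, ¬ IsUni z ∧
    M0 = Subgroup.normalizer ((cen z) : Set (Matrix.ProjectiveSpecialLinearGroup (Fin 2) F)) ∧
    Nonempty (M ≃* DihedralGroup (2 * Nat.card (cen z))) ∧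
    ¬ (Fintype.card F = 5 ∧ Nat.card (cen z) = 2)) ∨
  (Fintype.card F = p ∧ (p % 8 = 3 ∨ p % 8 = 5) ∧ Nonempty (M ≃* Equiv.Perm (Fin 4)) ∧
    Nonempty (M0 ≃* alternatingGroup (Fin 4))) ∨
  ∃ (K : Type) (_ : Field K) (_ : Fintype K) (j : K →+* F) (r : ℕ)
    (g : Matrix.ProjectiveSpecialLinearGroup (Fin 2) F) (w : Fˣ),
    r.Prime ∧ Odd r ∧ Fintype.card K ^ r = Fintype.card F ∧
    M0 = (pslSub j w).map (MulAut.conj g).toMonoidHom ∧
    Nonempty (M ≃* Matrix.ProjGenLinGroup (Fin 2) K)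

theorem pow_subfield_odd {u r q : ℕ} (hr : r ≠ 0) (h : u ^ r = q) (hq : Odd q) : Odd u :=
  (Nat.odd_pow_iff hr).mp (h ▸ hq)

variable {F : Type*} [Field F] [Fintype F] {E : Type*} [Field E] [Fintype E] (ι : F →+* E)
  {lam : Eˣ} {ν : Fˣ} (hν : ι (ν : F) = (lam : E) ^ 2)
  (hgen : ∀ δ : Fˣ, δ ∈ Subgroup.zpowers ν) (hodd : Odd (Fintype.card F)) (h5 : 5 ≤ Fintype.card F)
  {M : Subgroup (Matrix.ProjectiveSpecialLinearGroup (Fin 2) E)}
  (hM : IsMaxIn (pglSub ι 1 lam) (pslSub ι 1) M)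

local notation "PF" => Matrix.ProjectiveSpecialLinearGroup (Fin 2) F
local notation "PE" => Matrix.ProjectiveSpecialLinearGroup (Fin 2) E

omit [Fintype E] in
include h5 in
theorem not_psl_le_of_isSolvable {S : Subgroup PE} (hS : Group.IsSolvable S) : ¬ pslSub ι 1 ≤ S := by
  intro h
  have hs : Group.IsSolvable (pslSub ι (1 : Eˣ)) :=
    solvable_of_solvable_injective (f := Subgroup.inclusion h) (Subgroup.inclusion_injective h)
  obtain ⟨e⟩ := nonempty_pslSub_equiv ι (1 : Eˣ)
  exact not_isSolvable_PSL (K := F) (by rw [Nat.card_eq_fintype_card]; omega)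
    (solvable_of_surjective (f := e.toMonoidHom) e.surjective)

omit [Fintype F] [Fintype E] in
include hM in
theorem IsMaxIn.eq_inf {S : Subgroup PE} (hMS : M ≤ S) (hS : ¬ pslSub ι 1 ≤ S) :
    M = S ⊓ pglSub ι 1 lam :=
  hM.max _ (le_inf hMS hM.le) inf_le_right fun e => hS ((pslSub_le_pglSub ι 1 lam).trans (inf_eq_right.mp e))

omit [Fintype F] [Fintype E] in
theorem map_comap_incl : (M.comap (incl ι)).map (incl ι) = pslSub ι 1 ⊓ M := by
  rw [Subgroup.map_comap_eq, range_incl]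

omit [Fintype F] [Fintype E] in
include hM in
theorem IsMaxIn.comap_eq {S : Subgroup PE} (hMS : M ≤ S) (hS : ¬ pslSub ι 1 ≤ S) :
    M.comap (incl ι) = S.comap (incl ι) := by
  rw [hM.eq_inf ι hMS hS, Subgroup.comap_inf]
  have : (pglSub ι 1 lam).comap (incl ι) = ⊤ :=
    (Subgroup.eq_top_iff' _).mpr fun x => pslSub_le_pglSub ι 1 lam (incl_mem ι x)
  rw [this, inf_top_eq]

omit [Fintype E] in
include hν hgen hodd hM in
theorem IsMaxIn.exists_outer : ∃ a ∈ M, a ∉ pslSub ι 1 := by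
  by_contra hc
  push Not at hc
  refine hM.not_le (hM.max _ hc (pslSub_le_pglSub ι 1 lam) fun e => ?_).ge
  have h := card_pglSub_eq_two_mul ι hν hgen hodd
  rw [← e] at h
  have : Finite (pslSub ι (1 : Eˣ)) := Finite.of_equiv _ (nonempty_pslSub_equiv ι 1).some.symm.toEquiv
  have := Nat.card_pos (α := pslSub ι (1 : Eˣ))
  omega

include hν hgen hodd hM in
theorem IsMaxIn.card_eq : Nat.card M = 2 * Nat.card (M.comap (incl ι)) := by
  obtain ⟨a, ha, haP⟩ := hM.exists_outer ι hν hgen hodd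
  have hidx : ((pslSub ι (1 : Eˣ) ⊓ M).subgroupOf M).index = 2 := by
    rw [Subgroup.index_eq_two_iff]
    refine ⟨⟨a, ha⟩, fun b => ?_⟩
    have h := mul_mem_psl ι hν hgen hodd (hM.le b.2) (hM.le ha)
    simp only [Subgroup.mem_subgroupOf, Subgroup.coe_mul, Subgroup.mem_inf]
    by_cases hb : (b : PE) ∈ pslSub ι 1
    · exact Or.inr ⟨⟨hb, b.2⟩, fun hh => haP ((h.mp hh.1).mp hb)⟩
    · exact Or.inl ⟨⟨h.mpr (iff_of_false hb haP), M.mul_mem b.2 ha⟩, fun hh => hb hh.1⟩
  have h := ((pslSub ι (1 : Eˣ) ⊓ M).subgroupOf M).card_mul_index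
  rw [hidx, Nat.card_congr (Subgroup.subgroupOfEquivOfLe inf_le_right).toEquiv, ← map_comap_incl,
    Subgroup.card_map_of_injective (incl_injective ι)] at h
  rw [← h, mul_comm]

include hν hgen hodd h5 hM in
theorem IsMaxIn.four_lt_card : 4 < Nat.card M := by
  by_contra hle
  have heven := hM.card_eq ι hν hgen hodd
  have hpos : 0 < Nat.card (M.comap (incl ι)) := Nat.card_pos
  obtain ⟨k, hk2, hk⟩ : ∃ k, k ≤ 2 ∧ Nat.card M = 2 ^ k := by
    rcases (show Nat.card M = 2 ∨ Nat.card M = 4 by omega) with e | e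
    · exact ⟨1, by norm_num, e⟩
    · exact ⟨2, le_rfl, e⟩
  have : Fact (Nat.Prime 2) := ⟨Nat.prime_two⟩
  set G' := pglSub ι (1 : Eˣ) lam
  have h8 : 8 ∣ Nat.card G' := by
    rw [card_pglSub ι 1 hν hgen]
    refine dvd_mul_of_dvd_right ?_ _
    obtain ⟨i, hi⟩ := hodd
    rw [hi, show (2 * i + 1) ^ 2 = 4 * (i * (i + 1)) + 1 by ring, Nat.add_sub_cancel]
    obtain ⟨t, ht⟩ := Nat.even_mul_succ_self i
    exact ⟨t, by rw [ht]; ring⟩
  have hMc : Nat.card (M.subgroupOf G') = 2 ^ k := by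
    rw [Nat.card_congr (Subgroup.subgroupOfEquivOfLe hM.le).toEquiv, hk]
  obtain ⟨R, hR⟩ := (IsPGroup.of_card hMc).exists_le_sylow
  have hR8 : 8 ≤ Nat.card (R : Subgroup G') :=
    Nat.le_of_dvd Nat.card_pos (R.pow_dvd_card_of_pow_dvd_card (n := 3) h8)
  set R' := (R : Subgroup G').map G'.subtype with hR'
  have hsol : Group.IsSolvable R' := by
    have := (R.isPGroup'.map G'.subtype).isNilpotent
    infer_instance
  have hle' : M ≤ R' := fun m hm => ⟨⟨m, hM.le hm⟩, hR hm, rfl⟩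
  have e := hM.max R' hle' (Subgroup.map_subtype_le _)
    fun e => not_psl_le_of_isSolvable ι h5 hsol (e ▸ pslSub_le_pglSub ι 1 lam)
  rw [e, hR', Subgroup.card_map_of_injective G'.subtype_injective] at hle
  omega

section Copy

variable {K : Type} [Field K] [Fintype K] (j : K →+* F)

omit [Fintype F] [Fintype E] [Fintype K] in
theorem pslSub_copy_le (g : PF) (w : Fˣ) :
    (pslSub (ι.comp j) (Units.map ι.toMonoidHom w)).map (MulAut.conj (incl ι g)).toMonoidHom =
      ((pslSub j w).map (MulAut.conj g).toMonoidHom).map (incl ι) := by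
  rw [map_incl_map_conj, map_incl_pslSub]

omit [Fintype F] [Fintype E] [Fintype K] in
theorem pglSub_copy_le {lam' : Eˣ} (hl : proj (dSL lam') ∈ pglSub ι 1 lam) (g : PF) (w : Fˣ) :
    (pglSub (ι.comp j) (Units.map ι.toMonoidHom w) lam').map (MulAut.conj (incl ι g)).toMonoidHom ≤
      pglSub ι 1 lam := by
  have hle : pglSub (ι.comp j) (Units.map ι.toMonoidHom w) lam' ≤ pglSub ι 1 lam := by
    refine sup_le ?_ (Subgroup.zpowers_le.mpr hl)
    rw [← map_incl_pslSub]
    rintro _ ⟨x, -, rfl⟩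
    exact pslSub_le_pglSub ι 1 lam (incl_mem ι x)
  rintro _ ⟨x, hx, rfl⟩
  have hg := pslSub_le_pglSub ι 1 lam (incl_mem ι g)
  exact Subgroup.mul_mem _ (Subgroup.mul_mem _ hg (hle hx)) (Subgroup.inv_mem _ hg)

variable {lam' : Eˣ} {ν' : Kˣ} (hν' : (ι.comp j) (ν' : K) = (lam' : E) ^ 2)
  (hgen' : ∀ δ : Kˣ, δ ∈ Subgroup.zpowers ν') (hl : proj (dSL lam') ∈ pglSub ι 1 lam)

include hν hgen hodd hM hν' hgen' hl in
theorem IsMaxIn.eq_copy {r : ℕ} (hr : 2 ≤ r) (hq : Fintype.card K ^ r = Fintype.card F) {g : PF} {w : Fˣ}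
    (hle : M ≤ (pglSub (ι.comp j) (Units.map ι.toMonoidHom w) lam').map (MulAut.conj (incl ι g)).toMonoidHom) :
    M = (pglSub (ι.comp j) (Units.map ι.toMonoidHom w) lam').map (MulAut.conj (incl ι g)).toMonoidHom := by
  refine hM.max _ hle (pglSub_copy_le ι j hl g w) fun e => ?_
  have h := congrArg (fun S : Subgroup PE => Nat.card S) e
  simp only [card_map_conj, card_pglSub _ _ hν' hgen', card_pglSub ι 1 hν hgen] at h
  have := two_mul_lt_card (u := Fintype.card K) Fintype.one_lt_card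
    (hq ▸ two_mul_le_pow Fintype.one_lt_card hr)
  omega

include hν hgen hodd hM hν' hgen' hl in
/-- A maximal subgroup inside a copy of PGL_2 over a subfield of odd index. -/
theorem IsMaxIn.res_copy (p : ℕ) {r : ℕ} (hr : 2 ≤ r) (hro : Odd r)
    (hq : Fintype.card K ^ r = Fintype.card F) {g : PF} {w : Fˣ}
    (hle : M ≤ (pglSub (ι.comp j) (Units.map ι.toMonoidHom w) lam').map (MulAut.conj (incl ι g)).toMonoidHom) :
    PGLRes F p M (M.comap (incl ι)) := by
  classical
  have hMeq := hM.eq_copy ι hν hgen hodd j hν' hgen' hl hr hq hle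
  have hKodd : Odd (Fintype.card K) := pow_subfield_odd (by omega) hq hodd
  have hgK : Nat.gcd 2 (Fintype.card K - 1) = 2 :=
    Nat.gcd_eq_left (by obtain ⟨i, hi⟩ := hKodd; omega)
  have hMc : Nat.card M = Fintype.card K * (Fintype.card K ^ 2 - 1) := by
    rw [hMeq, card_map_conj, card_pglSub _ _ hν' hgen']
  have hM0 : M.comap (incl ι) = (pslSub j w).map (MulAut.conj g).toMonoidHom := by
    have hsub : (pslSub j w).map (MulAut.conj g).toMonoidHom ≤ M.comap (incl ι) := by
      intro x hx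
      have hxx : incl ι x ∈ (pslSub (ι.comp j) (Units.map ι.toMonoidHom w)).map
          (MulAut.conj (incl ι g)).toMonoidHom := by
        rw [pslSub_copy_le]; exact Subgroup.mem_map_of_mem _ hx
      rw [Subgroup.mem_comap, hMeq]
      exact Subgroup.map_mono (pslSub_le_pglSub _ _ lam') hxx
    refine (Subgroup.eq_of_le_of_card_ge hsub ?_).symm
    have h1 := hM.card_eq ι hν hgen hodd
    have h2 := card_pslSub_mul j w
    rw [hgK] at h2
    rw [card_map_conj]
    omega
  have hr' : r.Prime := by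
    by_contra hnp
    have hs := Nat.minFac_prime (n := r) (by omega)
    obtain ⟨d, hd⟩ := Nat.minFac_dvd r
    set s := r.minFac
    have hd2 : 2 ≤ d := by
      rcases (show d = 0 ∨ d = 1 ∨ 2 ≤ d by omega) with rfl | rfl | h
      · omega
      · exact absurd (by rw [hd, mul_one]; exact hs) hnp
      · exact h
    obtain ⟨hso, -⟩ := Nat.odd_mul.mp (hd ▸ hro)
    obtain ⟨L, iL, iL', jL, hL, hsub⟩ :=
      exists_intermediate j (d := d) ⟨s, by rw [hd, mul_comm]⟩ (by omega) hq
    have hLq : Fintype.card L ^ s = Fintype.card F := by rw [hL, ← pow_mul, mul_comm, ← hd, hq]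
    obtain ⟨lamL, νL, hνL, hgenL, hlL⟩ := exists_sub_gen ι hν hgen hodd jL hso hLq
    have hjsub : ∀ k : K, j k ∈ Set.range jL := fun k => hsub _ (by rw [← map_pow, FiniteField.pow_card_pow])
    have hlam : proj (dSL lam') ∈ pglSub (ι.comp jL) (Units.map ι.toMonoidHom w) lamL := by
      obtain ⟨l, hl'⟩ := hjsub ν'
      have hl0 : l ≠ 0 := fun e => ν'.ne_zero (j.injective (by rw [← hl', e, map_zero, map_zero]))
      obtain ⟨k, hk⟩ := hgenL (Units.mk0 l hl0)
      have e2 : ((lamL ^ k : Eˣ) : E) ^ 2 = (lam' : E) ^ 2 := by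
        have e : Units.map (ι.comp jL).toMonoidHom νL = lamL ^ (2 : ℕ) := Units.ext (by simpa using hνL)
        have e' := congrArg Units.val (map_zpow (Units.map (ι.comp jL).toMonoidHom) νL k)
        simp only at hk
        rw [e, hk, ← zpow_natCast lamL 2, ← _root_.zpow_mul, mul_comm, _root_.zpow_mul, zpow_natCast,
          Units.val_pow_eq_pow_val] at e'
        rw [← hν', ← e']
        simp [hl']
      have hz : proj (dSL (lamL ^ k)) ∈ pglSub (ι.comp jL) (Units.map ι.toMonoidHom w) lamL := by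
        rw [map_zpow, map_zpow]
        exact Subgroup.zpow_mem _ ((le_sup_right : _ ≤ pglSub _ _ lamL) (Subgroup.mem_zpowers _)) k
      rcases eq_or_eq_neg_of_sq_eq_sq _ _ e2 with h | h
      · rwa [← Units.ext h]
      · have h' : (lam' : E) = -((lamL ^ k : Eˣ) : E) := by rw [h, neg_neg]
        have hi : ((lam'⁻¹ : Eˣ) : E) = -(((lamL ^ k)⁻¹ : Eˣ) : E) := by
          rw [Units.val_inv_eq_inv_val, Units.val_inv_eq_inv_val, h', inv_neg]
        have : dSL lam' = -dSL (lamL ^ k) := by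
          apply SL_ext_two <;>
            simp only [dSL_coe, Matrix.SpecialLinearGroup.coe_neg, Matrix.neg_apply, Matrix.of_apply,
              Matrix.cons_val', Matrix.cons_val_zero, Matrix.cons_val_one, Matrix.cons_val_fin_one,
              Matrix.empty_val', neg_zero, h', hi]
        rw [this, proj_neg]
        exact hz
    have hle' : M ≤ (pglSub (ι.comp jL) (Units.map ι.toMonoidHom w) lamL).map
        (MulAut.conj (incl ι g)).toMonoidHom := by
      refine hle.trans (Subgroup.map_mono (sup_le ?_ (Subgroup.zpowers_le.mpr hlam)))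
      refine le_trans (pslSub_le_pslSub (ι.comp j) (ι.comp jL) _ fun k => ?_) (pslSub_le_pglSub _ _ lamL)
      obtain ⟨l, hl'⟩ := hjsub k
      exact ⟨l, congrArg ι hl'⟩
    have e := hM.eq_copy ι hν hgen hodd jL hνL hgenL hlL hs.two_le hLq hle'
    have hc : Nat.card M = Fintype.card L * (Fintype.card L ^ 2 - 1) := by
      rw [e, card_map_conj, card_pglSub _ _ hνL hgenL]
    have hKL : 2 * Fintype.card K ≤ Fintype.card L := by
      rw [hL]; exact two_mul_le_pow Fintype.one_lt_card hd2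
    have := two_mul_lt_card (u := Fintype.card K) Fintype.one_lt_card hKL
    omega
  obtain ⟨e⟩ := nonempty_pglSub_equiv (ι.comp j) (Units.map ι.toMonoidHom w) hν' hgen'
  exact Or.inr (Or.inr (Or.inr ⟨K, inferInstance, inferInstance, j, r, g, w, hr', hro, hq, hM0,
    ⟨(MulEquiv.subgroupCongr hMeq).trans
      (((pglSub _ _ lam').equivMapOfInjective _ (MulAut.conj (incl ι g)).injective).symm.trans e)⟩⟩))

end Copy

end Cfsg.Agent.Linear.Dickson
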