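import Cfsg.Agent.Linear.Dickson.MaxSmall

/-!
PGL_2(q) inside PSL_2(q²): the embedding of PSL_2(q) and the double extension.
-/

namespace Cfsg.Agent.Linear.Dickson

open Matrix Cfsg.Agent.Linear

section General

variable {F : Type*} [Field F]

local notation "P2" => Matrix.ProjectiveSpecialLinearGroup (Fin 2) F

theorem mem_normalizer_cen_iff {a g : P2} (ha : a ≠ 1) :
    g ∈ Subgroup.normalizer ((cen a) : Set P2) ↔ g * a * g⁻¹ ∈ cen a := by
  refine ⟨fun h => (Subgroup.mem_normalizer_iff.mp h a).mp (mem_cen_self a), fun h => ?_⟩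
  have he := cen_eq_of_mem ha (fun h => ha (conj_eq_one_iff.mp h)) h
  rw [Subgroup.mem_normalizer_iff]
  intro y
  have := mem_cen_conj g a y
  rw [he] at this
  exact this.symm

theorem mem_map_conj_iff {M X : Subgroup P2} {g : P2} :
    M ≤ X.map (MulAut.conj g).toMonoidHom ↔ M.map (MulAut.conj g⁻¹).toMonoidHom ≤ X := by
  constructor
  · rintro h _ ⟨m, hm, rfl⟩
    simpa using mem_map_conj.mp (h hm)
  · intro h m hm
    refine mem_map_conj.mpr ?_
    simpa using h (conj_mem_map_conj (g := g⁻¹) hm)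

end General

variable {F : Type*} [Field F] {E : Type*} [Field E] (ι : F →+* E)

local notation "PF" => Matrix.ProjectiveSpecialLinearGroup (Fin 2) F
local notation "PE" => Matrix.ProjectiveSpecialLinearGroup (Fin 2) E

/-- The embedding of PSL_2 along a field embedding. -/
def incl : PF →* PE :=
  QuotientGroup.lift (Subgroup.center (Matrix.SpecialLinearGroup (Fin 2) F)) (proj.comp (scHom ι 1))
    (ker_proj_scHom ι 1).ge

theorem incl_proj (z : Matrix.SpecialLinearGroup (Fin 2) F) : incl ι (proj z) = proj (scHom ι 1 z) := rfl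

theorem incl_injective : Function.Injective (incl ι) := by
  rw [← MonoidHom.ker_eq_bot_iff, eq_bot_iff]
  intro x hx
  obtain ⟨z, rfl⟩ := proj_surjective x
  rw [MonoidHom.mem_ker, incl_proj] at hx
  have : z ∈ Subgroup.center (Matrix.SpecialLinearGroup (Fin 2) F) := ker_proj_scHom ι 1 ▸ hx
  exact Subgroup.mem_bot.mpr ((QuotientGroup.eq_one_iff z).mpr this)

theorem range_incl : (incl ι).range = pslSub ι 1 := by
  ext x
  constructor
  · rintro ⟨y, rfl⟩
    obtain ⟨z, rfl⟩ := proj_surjective y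
    exact ⟨z, rfl⟩
  · rintro ⟨z, rfl⟩
    exact ⟨proj z, rfl⟩

theorem incl_mem (x : PF) : incl ι x ∈ pslSub ι 1 := range_incl ι ▸ ⟨x, rfl⟩

theorem incl_ne_one {x : PF} (hx : x ≠ 1) : incl ι x ≠ 1 := fun h =>
  hx (incl_injective ι (h.trans (map_one _).symm))

theorem isUni_incl {x : PF} : IsUni (incl ι x) ↔ IsUni x := by
  obtain ⟨z, rfl⟩ := proj_surjective x
  rw [incl_proj, isUni_proj, isUni_proj, scHom_coe, Matrix.trace_fin_two, Matrix.trace_fin_two]
  simp only [scMat, Matrix.of_apply, Matrix.cons_val', Matrix.cons_val_zero, Matrix.cons_val_one,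
    Matrix.empty_val', Matrix.cons_val_fin_one]
  rw [← map_add, ← map_pow, ← map_ofNat ι 4, ι.injective.eq_iff]

theorem scHom_injective (w : Eˣ) : Function.Injective (scHom ι w) := fun a b h => by
  have h' : scMat ι w (a : Matrix (Fin 2) (Fin 2) F) = scMat ι w b := congrArg Subtype.val h
  have e00 := congrFun (congrFun h' 0) 0
  have e01 := congrFun (congrFun h' 0) 1
  have e10 := congrFun (congrFun h' 1) 0
  have e11 := congrFun (congrFun h' 1) 1
  simp [scMat, ι.injective.eq_iff] at e00 e01 e10 e11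
  exact SL_ext_two e00 e01 e10 e11

theorem mem_cen_incl {x y : PF} : incl ι y ∈ cen (incl ι x) ↔ y ∈ cen x := by
  obtain ⟨a, rfl⟩ := proj_surjective x
  obtain ⟨b, rfl⟩ := proj_surjective y
  rw [incl_proj, incl_proj, mem_cen_proj, mem_cen_proj, Subgroup.mem_centralizer_singleton_iff,
    Subgroup.mem_centralizer_singleton_iff, ← map_mul, ← map_mul, (scHom_injective ι 1).eq_iff]

theorem comap_incl_normalizer {z : PF} (hz : z ≠ 1) :
    (Subgroup.normalizer ((cen (incl ι z)) : Set PE)).comap (incl ι) =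
      Subgroup.normalizer ((cen z) : Set PF) := by
  ext y
  rw [Subgroup.mem_comap, mem_normalizer_cen_iff (incl_ne_one ι hz), mem_normalizer_cen_iff hz,
    ← map_inv, ← map_mul, ← map_mul, mem_cen_incl]

theorem incl_stdUni : incl ι (stdUni : PF) = stdUni := by
  show proj (scHom ι 1 (upSL 1)) = proj (upSL 1)
  congr 1
  apply SL_ext_two <;> simp [scHom_coe, scMat, upSL_coe]

theorem comap_incl_borel [Fintype F] [Fintype E] : (borel E).comap (incl ι) = borel F := by
  ext y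
  obtain ⟨z, rfl⟩ := proj_surjective y
  rw [Subgroup.mem_comap, incl_proj, mem_borel_proj, mem_borel_proj, scHom_coe]
  simp [scMat]

theorem map_incl_map_conj (X : Subgroup PF) (g : PF) :
    (X.map (MulAut.conj g).toMonoidHom).map (incl ι) =
      (X.map (incl ι)).map (MulAut.conj (incl ι g)).toMonoidHom := by
  rw [Subgroup.map_map, Subgroup.map_map]
  congr 1
  ext x
  simp

theorem map_incl_pslSub {K : Type*} [Field K] (j : K →+* F) (w : Fˣ) :
    (pslSub j w).map (incl ι) = pslSub (ι.comp j) (Units.map ι.toMonoidHom w) := by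
  rw [pslSub, pslSub, MonoidHom.map_range]
  congr 1
  refine MonoidHom.ext fun z => ?_
  show proj (scHom ι 1 (scHom j w z)) = proj (scHom (ι.comp j) (Units.map ι.toMonoidHom w) z)
  congr 1
  apply SL_ext_two <;> simp [scHom_coe, scMat]

variable [Fintype F] {lam : Eˣ} {ν : Fˣ} (hν : ι (ν : F) = (lam : E) ^ 2)
  (hgen : ∀ δ : Fˣ, δ ∈ Subgroup.zpowers ν) (hodd : Odd (Fintype.card F))

include hν hgen hodd

theorem card_pglSub_eq_two_mul :
    Nat.card (pglSub ι 1 lam) = 2 * Nat.card (pslSub ι (1 : Eˣ)) := by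
  rw [card_pglSub ι 1 hν hgen, ← card_pslSub_mul ι 1,
    Nat.gcd_eq_left (by have := Nat.odd_iff.mp hodd; omega : 2 ∣ Fintype.card F - 1)]

theorem index_psl_pgl : ((pslSub ι (1 : Eˣ)).subgroupOf (pglSub ι 1 lam)).index = 2 := by
  have h := ((pslSub ι (1 : Eˣ)).subgroupOf (pglSub ι 1 lam)).card_mul_index
  rw [Nat.card_congr (Subgroup.subgroupOfEquivOfLe (pslSub_le_pglSub ι 1 lam)).toEquiv,
    card_pglSub_eq_two_mul ι hν hgen hodd, mul_comm 2] at h
  have : Finite (pslSub ι (1 : Eˣ)) := Finite.of_equiv _ (nonempty_pslSub_equiv ι 1).some.symm.toEquiv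
  exact Nat.eq_of_mul_eq_mul_left Nat.card_pos h

theorem mul_mem_psl {a b : PE} (ha : a ∈ pglSub ι 1 lam) (hb : b ∈ pglSub ι 1 lam) :
    a * b ∈ pslSub ι 1 ↔ (a ∈ pslSub ι 1 ↔ b ∈ pslSub ι 1) := by
  have := Subgroup.mul_mem_iff_of_index_two (index_psl_pgl ι hν hgen hodd) (a := ⟨a, ha⟩) (b := ⟨b, hb⟩)
  simpa [Subgroup.mem_subgroupOf] using this

theorem sq_mem_psl {a : PE} (ha : a ∈ pglSub ι 1 lam) : a * a ∈ pslSub ι 1 :=
  (mul_mem_psl ι hν hgen hodd ha ha).mpr Iff.rfl

theorem pow_even_mem_psl {a : PE} (ha : a ∈ pglSub ι 1 lam) (k : ℕ) : a ^ (2 * k) ∈ pslSub ι 1 := by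
  rw [pow_mul, sq]
  exact Subgroup.pow_mem _ (sq_mem_psl ι hν hgen hodd ha) k

theorem mem_psl_of_pow_odd {a : PE} (ha : a ∈ pglSub ι 1 lam) {k : ℕ} (hk : Odd k) (h : a ^ k = 1) :
    a ∈ pslSub ι 1 := by
  obtain ⟨i, rfl⟩ := hk
  have h2 : a = (a ^ (2 * i))⁻¹ := eq_inv_of_mul_eq_one_left (by rw [← pow_succ', h])
  rw [h2]
  exact Subgroup.inv_mem _ (pow_even_mem_psl ι hν hgen hodd ha i)

theorem conj_mem_psl {a x : PE} (ha : a ∈ pglSub ι 1 lam) (hx : x ∈ pslSub ι 1) :
    a * x * a⁻¹ ∈ pslSub ι 1 :=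
  (Subgroup.normal_of_index_eq_two (index_psl_pgl ι hν hgen hodd)).conj_mem
    ⟨x, pslSub_le_pglSub ι 1 lam hx⟩ hx ⟨a, ha⟩

/-- Copies of PGL_2 over subfields of odd index lie in the double extension, those of even index in PSL_2. -/
theorem exists_sub_gen {K : Type*} [Field K] [Fintype K] (j : K →+* F) {r : ℕ} (hr : Odd r)
    (hq : Fintype.card K ^ r = Fintype.card F) :
    ∃ (lam' : Eˣ) (ν' : Kˣ), (ι.comp j) (ν' : K) = (lam' : E) ^ 2 ∧
      (∀ δ : Kˣ, δ ∈ Subgroup.zpowers ν') ∧ proj (dSL lam') ∈ pglSub ι 1 lam := by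
  classical
  obtain ⟨ν', hν'⟩ := IsCyclic.exists_generator (α := Kˣ)
  obtain ⟨i, hi⟩ := hgen (Units.map j.toMonoidHom ν')
  refine ⟨lam ^ i, ν', ?_, hν', ?_⟩
  · have e : Units.map ι.toMonoidHom ν = lam ^ (2 : ℕ) := Units.ext (by simpa using hν)
    have e2 := congrArg Units.val (map_zpow (Units.map ι.toMonoidHom) ν i)
    simp only at hi
    rw [e, hi, ← zpow_natCast lam 2, ← _root_.zpow_mul, mul_comm, _root_.zpow_mul, zpow_natCast,
      Units.val_pow_eq_pow_val] at e2
    simpa using e2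
  · rw [map_zpow, map_zpow]
    exact Subgroup.zpow_mem _ ((le_sup_right : _ ≤ pglSub ι 1 lam) (Subgroup.mem_zpowers _)) i

end Cfsg.Agent.Linear.Dickson
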