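import Cfsg.Agent.Linear.Dickson.MaxSmall

/-!
Redundant Sylow subgroups of PSL_2 and SL_2.
-/

namespace Cfsg.Agent.Linear.Dickson

open Matrix Cfsg.Agent.Linear

/-- Some Sylow subgroup is covered by the others. -/
def HasRedundant (p : ℕ) (G : Type*) [Group G] : Prop :=
  ∃ Q : Sylow p G, ∀ x : G, (∃ k : ℕ, orderOf x = p ^ k) → ∃ P : Sylow p G, P ≠ Q ∧ x ∈ P

section General

variable {p : ℕ} [Fact p.Prime] {G : Type*} [Group G] [Finite G]

theorem exists_orderOf_eq_pow (Q : Sylow p G) {x : G} (hx : x ∈ Q) : ∃ k : ℕ, orderOf x = p ^ k := by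
  obtain ⟨k, hk⟩ := IsPGroup.iff_orderOf.mp Q.isPGroup' ⟨x, hx⟩
  exact ⟨k, by rw [← hk, Subgroup.orderOf_mk]⟩

theorem not_hasRedundant_of_unique (h : ∀ Q : Sylow p G, ∃ x ∈ Q, ∀ P : Sylow p G, x ∈ P → P = Q) :
    ¬ HasRedundant p G := by
  rintro ⟨Q, hQ⟩
  obtain ⟨x, hx, huniq⟩ := h Q
  obtain ⟨P, hP, hxP⟩ := hQ x (exists_orderOf_eq_pow Q hx)
  exact hP (huniq P hxP)

theorem isPGroup_zpowers {x : G} {k : ℕ} (hk : orderOf x = p ^ k) : IsPGroup p (Subgroup.zpowers x) :=
  IsPGroup.of_card (n := k) (by rw [Nat.card_zpowers, hk])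

theorem hasRedundant_iff_of_central {G' : Type*} [Group G'] {f : G →* G'} (hf : Function.Surjective f)
    (hc : f.ker ≤ Subgroup.center G) : HasRedundant p G ↔ HasRedundant p G' := by
  have : Finite G' := Finite.of_surjective f hf
  have key : ∀ (x : G) (P : Sylow p G), (∃ k : ℕ, orderOf x = p ^ k) → f x ∈ P.mapSurjective hf → x ∈ P := by
    rintro x P ⟨k, hk⟩ ⟨y, hy, hyx⟩
    have hz : y⁻¹ * x ∈ f.ker := by rw [MonoidHom.mem_ker, map_mul, map_inv, hyx, inv_mul_cancel]
    have hcomm : Commute y⁻¹ x := by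
      have := Subgroup.mem_center_iff.mp (hc hz) y
      have h2 : y * (y⁻¹ * x) = (y⁻¹ * x) * y := this
      rw [mul_inv_cancel_left] at h2
      show y⁻¹ * x = x * y⁻¹
      conv_rhs => rw [h2, mul_inv_cancel_right]
    obtain ⟨j, hj⟩ := exists_orderOf_eq_pow P hy
    have hpow : (y⁻¹ * x) ^ (p ^ (k + j)) = 1 := by
      rw [hcomm.mul_pow, inv_pow, pow_add, pow_mul x, ← hk, pow_orderOf_eq_one, one_pow, mul_comm (orderOf x),
        pow_mul y, ← hj, pow_orderOf_eq_one, one_pow, inv_one, one_mul]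
    obtain ⟨i, -, hi⟩ := (Nat.dvd_prime_pow Fact.out).mp (orderOf_dvd_of_pow_eq_one hpow)
    have hn : (Subgroup.zpowers (y⁻¹ * x)).Normal := ⟨fun a ha g => by
      have : a ∈ Subgroup.center G := (Subgroup.zpowers_le.mpr (hc hz)) ha
      rw [Subgroup.mem_center_iff.mp this g, mul_inv_cancel_right]
      exact ha⟩
    have hle := (isPGroup_zpowers hi).le_sylow_of_normal P
    have := P.mul_mem hy (hle (Subgroup.mem_zpowers _))
    rw [mul_inv_cancel_left] at this
    exact this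
  have hinj : Function.Injective (Sylow.mapSurjective hf : Sylow p G → Sylow p G') := fun P Q h =>
    Sylow.ext (le_antisymm
      (fun x hx => key x Q (exists_orderOf_eq_pow P hx) (h ▸ ⟨x, hx, rfl⟩))
      (fun x hx => key x P (exists_orderOf_eq_pow Q hx) (h.symm ▸ ⟨x, hx, rfl⟩)))
  constructor
  · rintro ⟨Q, hQ⟩
    refine ⟨Q.mapSurjective hf, fun x ⟨k, hk⟩ => ?_⟩
    obtain ⟨P', hP'⟩ := (isPGroup_zpowers hk).exists_le_sylow
    obtain ⟨P, rfl⟩ := Sylow.mapSurjective_surjective hf p P'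
    obtain ⟨y, hy, rfl⟩ := hP' (Subgroup.mem_zpowers x)
    obtain ⟨R, hR, hyR⟩ := hQ y (exists_orderOf_eq_pow P hy)
    exact ⟨R.mapSurjective hf, fun h => hR (hinj h), ⟨y, hyR, rfl⟩⟩
  · rintro ⟨Q', hQ'⟩
    obtain ⟨Q, rfl⟩ := Sylow.mapSurjective_surjective hf p Q'
    refine ⟨Q, fun x ⟨k, hk⟩ => ?_⟩
    obtain ⟨i, -, hi⟩ := (Nat.dvd_prime_pow Fact.out).mp
      (hk ▸ orderOf_map_dvd f x : orderOf (f x) ∣ p ^ k)
    obtain ⟨P', hP', hxP⟩ := hQ' (f x) ⟨i, hi⟩
    obtain ⟨P, rfl⟩ := Sylow.mapSurjective_surjective hf p P'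
    exact ⟨P, fun h => hP' (h ▸ rfl), key x P ⟨k, hk⟩ hxP⟩

end General

variable {F : Type*} [Field F] [Fintype F]

local notation "P2" => Matrix.ProjectiveSpecialLinearGroup (Fin 2) F

theorem mem_cen_of_commute_uni {v y : P2} (hv1 : v ≠ 1) (hv : IsUni v) (h : y * v = v * y) : y ∈ cen v := by
  obtain ⟨g, hg⟩ := exists_conj_stdUni hv1 hv
  have hv1' : g * v * g⁻¹ ≠ 1 := fun e => hv1 (conj_eq_one_iff.mp e)
  have hc : (g * y * g⁻¹) * (g * v * g⁻¹) = (g * v * g⁻¹) * (g * y * g⁻¹) := by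
    calc _ = g * (y * v) * g⁻¹ := by group
      _ = _ := by rw [h]; group
  have hb : g * y * g⁻¹ ∈ borel F := mem_borel_of_conj hg hv1' (by rw [hc, mul_inv_cancel_right]; exact hg)
  have hm := mem_cen_stdUni_of_commute hb hg hv1' hc
  rw [← cen_eq_of_mem stdUni_ne_one hv1' hg] at hm
  exact (mem_cen_conj g v y).mp hm

theorem not_redundant_char (p : ℕ) [Fact p.Prime] [CharP F p] : ¬ HasRedundant p P2 := by
  refine not_hasRedundant_of_unique fun Q => ?_
  have hdvd : p ∣ Nat.card P2 := by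
    refine dvd_trans ?_ ((cen (stdUni : P2)).card_subgroup_dvd_card)
    obtain ⟨f, -, hf⟩ := FiniteField.card F p
    rw [card_cen_stdUni, hf]
    exact dvd_pow_self p f.ne_zero
  have hQne : (Q : Subgroup P2) ≠ ⊥ := Q.ne_bot_of_dvd_card hdvd
  obtain ⟨x, hx, hx1⟩ := (Subgroup.bot_or_exists_ne_one (Q : Subgroup P2)).resolve_left hQne
  have hu : ∀ {R : Sylow p P2} {y : P2}, y ∈ R → IsUni y := fun {R y} hy => by
    by_contra hny
    obtain ⟨k, hk⟩ := exists_orderOf_eq_pow R hy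
    have h1 : orderOf y ∣ Nat.card (cen y) :=
      Subgroup.orderOf_mk y (mem_cen_self y) ▸ orderOf_dvd_natCard _
    rcases Nat.eq_zero_or_pos k with rfl | hk0
    · exact ne_one_of_not_isUni hny (orderOf_eq_one_iff.mp hk)
    · exact coprime_card_cen p hny ((dvd_pow_self p hk0.ne').trans (hk ▸ h1))
  refine ⟨x, hx, fun P hP => ?_⟩
  have all : ∀ R : Sylow p P2, x ∈ R → (R : Subgroup P2) = cen x := by
    intro R hxR
    obtain ⟨f, -, hf⟩ := FiniteField.card F p
    have hcp : IsPGroup p (cen x) :=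
      IsPGroup.of_card (n := (f : ℕ)) (by rw [card_cen_of_isUni hx1 (hu hxR), hf])
    have hne : Nontrivial (R : Subgroup P2) := ⟨⟨x, hxR⟩, 1, fun h => hx1 (congrArg Subtype.val h)⟩
    have := R.isPGroup'.center_nontrivial
    obtain ⟨⟨⟨z, hzR⟩, hz⟩, hz1⟩ := exists_ne (1 : Subgroup.center (R : Subgroup P2))
    have hz1' : z ≠ 1 := fun h => hz1 (Subtype.ext (Subtype.ext h))
    have hcz : ∀ y ∈ R, y * z = z * y := fun y hy =>
      congrArg Subtype.val (Subgroup.mem_center_iff.mp hz ⟨y, hy⟩)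
    have e := cen_eq_of_mem hx1 hz1' (mem_cen_of_commute_uni hx1 (hu hxR) (hcz x hxR).symm)
    have hle : (R : Subgroup P2) ≤ cen x := fun y hy => e ▸ mem_cen_of_commute_uni hz1' (hu hzR) (hcz y hy)
    exact (R.is_maximal' hcp hle).symm
  exact Sylow.ext ((all P hP).trans (all Q hx).symm)

theorem not_redundant_odd (p : ℕ) [Fact p.Prime] (hp : p ≠ 2) {c : ℕ} [Fact c.Prime] [CharP F c] (hc : p ≠ c) :
    ¬ HasRedundant p P2 := by
  refine not_hasRedundant_of_unique fun Q => ?_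
  by_cases hQ : (Q : Subgroup P2) = ⊥
  · refine ⟨1, Q.one_mem, fun P _ => Sylow.ext (Q.is_maximal' P.isPGroup' ?_)⟩
    rw [hQ]; exact bot_le
  have hne : Nontrivial (Q : Subgroup P2) := Subgroup.nontrivial_iff_ne_bot _ |>.mpr hQ
  have := Q.isPGroup'.center_nontrivial
  obtain ⟨⟨⟨z, hzQ⟩, hz⟩, hz1⟩ := exists_ne (1 : Subgroup.center (Q : Subgroup P2))
  have hz1' : z ≠ 1 := fun h => hz1 (Subtype.ext (Subtype.ext h))
  obtain ⟨k, hk⟩ := exists_orderOf_eq_pow Q hzQ
  have hzu : ¬ IsUni z := fun hu => by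
    have h1 := orderOf_dvd_of_pow_eq_one (pow_char_eq_one_of_isUni c hu)
    rcases Nat.eq_zero_or_pos k with rfl | hk0
    · exact hz1' (orderOf_eq_one_iff.mp hk)
    · exact hc ((Nat.prime_dvd_prime_iff_eq Fact.out Fact.out).mp ((dvd_pow_self p hk0.ne').trans (hk ▸ h1)))
  have hQle : (Q : Subgroup P2) ≤ cen z := by
    intro y hy
    have hcomm : y * z = z * y := congrArg Subtype.val (Subgroup.mem_center_iff.mp hz ⟨y, hy⟩)
    have hn : y ∈ Subgroup.normalizer ((cen z) : Set P2) :=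
      (mem_normalizer_cen_iff' hz1').mpr (by rw [hcomm, mul_inv_cancel_right]; exact mem_cen_self z)
    rcases normalizer_cases hzu (Subgroup.mem_normalizer_iff.mp hn) with h | ⟨-, h⟩
    · exact h
    · exfalso
      have e := h z (mem_cen_self z)
      rw [hcomm, mul_inv_cancel_right] at e
      have h2 : z ^ 2 = 1 := by rw [sq]; exact eq_inv_iff_mul_eq_one.mp e
      have := orderOf_dvd_of_pow_eq_one h2
      rw [hk] at this
      rcases Nat.eq_zero_or_pos k with rfl | hk0
      · exact hz1' (orderOf_eq_one_iff.mp hk)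
      · exact hp ((Nat.prime_dvd_prime_iff_eq Fact.out Nat.prime_two).mp ((dvd_pow_self p hk0.ne').trans this))
  have := isCyclic_cen hzu
  have : IsCyclic (Q : Subgroup P2) :=
    isCyclic_of_injective (Subgroup.inclusion hQle) (Subgroup.inclusion_injective hQle)
  obtain ⟨x, hx⟩ := IsCyclic.exists_generator (α := (Q : Subgroup P2))
  refine ⟨x, x.2, fun P hP => Sylow.ext (Q.is_maximal' P.isPGroup' fun y hy => ?_)⟩
  obtain ⟨i, hi⟩ := hx ⟨y, hy⟩
  rw [show y = (x : P2) ^ i from (congrArg Subtype.val hi).symm]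
  exact Subgroup.zpow_mem _ hP i
where
  mem_normalizer_cen_iff' {a g : P2} (ha : a ≠ 1) :
      g ∈ Subgroup.normalizer ((cen a) : Set P2) ↔ g * a * g⁻¹ ∈ cen a := by
    refine ⟨fun h => (Subgroup.mem_normalizer_iff.mp h a).mp (mem_cen_self a), fun h => ?_⟩
    have he := cen_eq_of_mem ha (fun h => ha (conj_eq_one_iff.mp h)) h
    rw [Subgroup.mem_normalizer_iff]
    intro y
    have := mem_cen_conj g a y
    rw [he] at this
    exact this.symm

/-- The arithmetic of the even torus. -/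
theorem even_torus_data (hodd : Odd (Fintype.card F)) :
    ∃ a m k : ℕ, Odd m ∧ 1 ≤ a ∧ k = 2 ^ a * m ∧ (2 * k + 1 = Fintype.card F ∨ 2 * k = Fintype.card F + 1) ∧
      2 ^ (a + 1) ∣ Nat.card P2 ∧ ¬ 2 ^ (a + 1 + 1) ∣ Nat.card P2 ∧
      (∀ x : P2, ¬ IsUni x → Nat.card (cen x) = k ∨ Odd (Nat.card (cen x))) ∧
      ∃ x : P2, ¬ IsUni x ∧ Nat.card (cen x) = k := by
  classical
  have hq2 := Nat.odd_iff.mp hodd
  have hq : 3 ≤ Fintype.card F := by have : 2 ≤ Fintype.card F := Fintype.one_lt_card; omega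
  have hd : Nat.gcd 2 (Fintype.card F - 1) = 2 := Nat.gcd_eq_left (by omega)
  have hG := card_PSL_two_mul (F := F)
  rw [hd] at hG
  have main : ∀ k k' : ℕ, 0 < k → k % 2 = 0 → k' % 2 = 1 →
      Fintype.card F ^ 2 - 1 = (2 * k) * (2 * k') →
      (∀ x : P2, ¬ IsUni x → Nat.card (cen x) = k ∨ Nat.card (cen x) = k') →
      (∃ x : P2, ¬ IsUni x ∧ Nat.card (cen x) = k) →
      (2 * k + 1 = Fintype.card F ∨ 2 * k = Fintype.card F + 1) →
      ∃ a m k : ℕ, Odd m ∧ 1 ≤ a ∧ k = 2 ^ a * m ∧ (2 * k + 1 = Fintype.card F ∨ 2 * k = Fintype.card F + 1) ∧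
        2 ^ (a + 1) ∣ Nat.card P2 ∧ ¬ 2 ^ (a + 1 + 1) ∣ Nat.card P2 ∧
        (∀ x : P2, ¬ IsUni x → Nat.card (cen x) = k ∨ Odd (Nat.card (cen x))) ∧
        ∃ x : P2, ¬ IsUni x ∧ Nat.card (cen x) = k := by
    intro k k' hk0 hk2 hk' hsq hall hex hform
    obtain ⟨a, m, hm, hkm⟩ := Nat.exists_eq_two_pow_mul_odd hk0.ne'
    have ha : 1 ≤ a := by
      by_contra h
      obtain rfl : a = 0 := by omega
      rw [pow_zero, one_mul] at hkm
      rw [hkm] at hk2
      exact absurd hm (by rw [Nat.odd_iff]; omega)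
    have hcard : Nat.card P2 = 2 ^ (a + 1) * (m * k' * Fintype.card F) := by
      rw [hsq, hkm] at hG
      apply Nat.eq_of_mul_eq_mul_left two_pos
      rw [hG]; ring
    refine ⟨a, m, k, hm, ha, hkm, hform, hcard ▸ dvd_mul_right _ _, fun h => ?_,
      fun x hx => (hall x hx).imp id (fun e => by rw [e]; exact Nat.odd_iff.mpr hk'), hex⟩
    rw [hcard, pow_succ, Nat.mul_dvd_mul_iff_left (by positivity)] at h
    have : Odd (m * k' * Fintype.card F) := (hm.mul (Nat.odd_iff.mpr hk')).mul hodd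
    exact absurd (even_iff_two_dvd.mpr h) (Nat.not_even_iff_odd.mpr this)
  have hcases : ∀ x : P2, ¬ IsUni x →
      2 * Nat.card (cen x) + 1 = Fintype.card F ∨ 2 * Nat.card (cen x) = Fintype.card F + 1 := fun x hx => by
    rcases card_cen_cases hx with h | h <;> rw [hd] at h <;> omega
  have hsq : ∀ i j, 2 * i + 1 = Fintype.card F → 2 * j = Fintype.card F + 1 →
      Fintype.card F ^ 2 - 1 = (2 * i) * (2 * j) := fun i j hi hj => by
    rw [← hi, show 2 * j = 2 * i + 2 by omega, show (2 * i + 1) ^ 2 = 2 * i * (2 * i + 2) + 1 by ring,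
      Nat.add_sub_cancel]
  rcases (show Fintype.card F % 4 = 1 ∨ Fintype.card F % 4 = 3 by omega) with h4 | h4
  · obtain ⟨x, hx, hxk⟩ := exists_split (F := F) (by omega)
    rw [hd] at hxk
    refine main ((Fintype.card F - 1) / 2) ((Fintype.card F + 1) / 2) (by omega) (by omega) (by omega)
      (hsq _ _ (by omega) (by omega)) (fun x hx => ?_) ⟨x, hx, hxk⟩ (Or.inl (by omega))
    rcases hcases x hx with h | h <;> omega
  · obtain ⟨x, hx, hxk⟩ := exists_nonsplit (F := F)
    rw [hd] at hxk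
    refine main ((Fintype.card F + 1) / 2) ((Fintype.card F - 1) / 2) (by omega) (by omega) (by omega)
      ((hsq _ _ (by omega) (by omega)).trans (mul_comm _ _)) (fun x hx => ?_) ⟨x, hx, hxk⟩ (Or.inr (by omega))
    rcases hcases x hx with h | h <;> omega

theorem two_redundant_iff (hodd : Odd (Fintype.card F)) :
    HasRedundant 2 P2 ↔
      (¬ ∃ k : ℕ, Fintype.card F + 1 = 2 ^ k) ∧ ¬ ∃ k : ℕ, Fintype.card F = 2 ^ k + 1 := by
  classical
  obtain ⟨a, m, k, hm, ha, hkm, hform, hdvd, hndvd, hall, x0, hx0, hx0k⟩ := even_torus_data hodd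
  have hq2 := Nat.odd_iff.mp hodd
  have : Fact (Nat.Prime 2) := ⟨Nat.prime_two⟩
  have hSc : ∀ P : Sylow 2 P2, Nat.card (P : Subgroup P2) = 2 ^ (a + 1) := fun P => by
    obtain ⟨j, hj⟩ := IsPGroup.iff_card.mp P.isPGroup'
    have h1 := P.pow_dvd_card_of_pow_dvd_card hdvd
    have h2 : Nat.card (P : Subgroup P2) ∣ Nat.card P2 := (P : Subgroup P2).card_subgroup_dvd_card
    rw [hj] at h1 h2 ⊢
    have h3 := (Nat.pow_dvd_pow_iff_le_right (by norm_num : 1 < 2)).mp h1
    congr 1
    by_contra hne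
    exact hndvd ((pow_dvd_pow 2 (by omega : a + 1 + 1 ≤ j)).trans h2)
  have hsyl : ∀ S : Subgroup P2, Nat.card S = 2 ^ (a + 1) → ∃ P : Sylow 2 P2, (P : Subgroup P2) = S := fun S hS => by
    obtain ⟨P, hP⟩ := (IsPGroup.of_card hS).exists_le_sylow
    exact ⟨P, (Subgroup.eq_of_le_of_card_ge hP (by rw [hSc, hS])).symm⟩
  constructor
  · -- a power of two leaves the normalisers as the only Sylow subgroups through their generators
    intro hR
    by_contra hforms
    have hm1 : m = 1 := by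
      rw [not_and_or, not_not, not_not] at hforms
      have key : ∀ j : ℕ, 2 ^ j = 2 * k → m = 1 := fun j hj => by
        have hd : m ∣ 2 ^ j := ⟨2 * 2 ^ a, by rw [hj, hkm]; ring⟩
        obtain ⟨i, -, hi⟩ := (Nat.dvd_prime_pow Nat.prime_two).mp hd
        rcases Nat.eq_zero_or_pos i with rfl | hi0
        · simpa using hi
        · rw [hi] at hm
          exact absurd hm (Nat.not_odd_iff_even.mpr (Nat.even_pow.mpr ⟨even_two, hi0.ne'⟩))
      have hk2 : k % 2 = 0 := by
        rw [hkm]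
        obtain ⟨a', rfl⟩ : ∃ a', a = a' + 1 := ⟨a - 1, by omega⟩
        rw [pow_succ, mul_comm _ 2, mul_assoc]; omega
      have hk0 : 0 < k := by rw [hkm]; exact Nat.mul_pos (Nat.two_pow_pos a) hm.pos
      rcases hforms with ⟨j, hj⟩ | ⟨j, hj⟩
      · rcases hform with h | h
        · -- only possible for three elements
          rcases (show j ≤ 1 ∨ 2 ≤ j by omega) with hj1 | hj1
          · interval_cases j <;> omega
          · obtain ⟨j', rfl⟩ : ∃ j', j = j' + 2 := ⟨j - 2, by omega⟩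
            rw [pow_add] at hj; omega
        · exact key j (by omega)
      · rcases hform with h | h
        · exact key j (by omega)
        · rcases (show j ≤ 1 ∨ 2 ≤ j by omega) with hj1 | hj1
          · interval_cases j
            · omega
            · exact key 2 (by omega)
          · obtain ⟨j', rfl⟩ : ∃ j', j = j' + 2 := ⟨j - 2, by omega⟩
            rw [pow_add] at hj; omega
    rw [hm1, mul_one] at hkm
    refine not_hasRedundant_of_unique (fun Q => ?_) hR
    obtain ⟨P0, hP0⟩ := hsyl (Subgroup.normalizer ((cen x0) : Set P2))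
      (by rw [(torus_normalizer_props hx0).1, hx0k, hkm, pow_succ]; ring)
    obtain ⟨g, hg⟩ := MulAction.exists_smul_eq P2 P0 Q
    have := isCyclic_cen hx0
    obtain ⟨y, hy⟩ := IsCyclic.exists_generator (α := cen x0)
    have hk2 : 2 ≤ k := by rw [hkm]; exact le_trans (by norm_num) (Nat.pow_le_pow_right two_pos ha)
    have hy1 : (y : P2) ≠ 1 := fun h => by
      have := orderOf_eq_card_of_forall_mem_zpowers hy
      rw [OneMemClass.coe_eq_one.mp h, orderOf_one, hx0k] at this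
      omega
    have hcy := cen_eq_of_mem (ne_one_of_not_isUni hx0) hy1 y.2
    set x : P2 := g * (y : P2) * g⁻¹ with hx
    have hxu : ¬ IsUni x := fun h => hx0 ((isUni_iff_of_mem_cen (ne_one_of_not_isUni hx0) hy1 y.2).mp ((isUni_conj g).mp h))
    have hxk : Nat.card (cen x) = k := by
      rw [← hx0k, ← hcy]
      have e : cen x = (cen (y : P2)).map (MulAut.conj g).toMonoidHom := by
        ext z
        rw [mem_map_conj, ← mem_cen_conj g (y : P2) (g⁻¹ * z * g)]
        simp [hx, mul_assoc]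
      rw [e, card_map_conj]
    have hxgen : ∀ z ∈ cen x, ∃ i : ℤ, z = x ^ i := fun z hz => by
      have : g⁻¹ * z * g ∈ cen x0 := by
        rw [← hcy, ← mem_cen_conj g (y : P2) (g⁻¹ * z * g)]
        simpa [hx, mul_assoc] using hz
      obtain ⟨i, hi⟩ := hy ⟨_, this⟩
      refine ⟨i, ?_⟩
      have hi' : (y : P2) ^ i = g⁻¹ * z * g := congrArg Subtype.val hi
      rw [hx, conj_zpow, hi']; group
    refine ⟨x, ?_, ?_⟩
    · rw [← hg]
      show x ∈ ((g • P0 : Sylow 2 P2) : Subgroup P2)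
      rw [hx]
      exact Subgroup.smul_mem_pointwise_smul (y : P2) (MulAut.conj g) (P0 : Subgroup P2)
        (hP0 ▸ Subgroup.le_normalizer y.2)
    -- every Sylow subgroup through the generator is the normaliser
    have all : ∀ P : Sylow 2 P2, x ∈ P → (P : Subgroup P2) = Subgroup.normalizer ((cen x) : Set P2) := by
      intro P hxP
      refine Subgroup.eq_of_le_of_card_ge ?_ (le_of_eq (by rw [hSc, (torus_normalizer_props hxu).1, hxk, hkm, pow_succ]; ring))
      have hle : Subgroup.zpowers x ≤ (P : Subgroup P2) := Subgroup.zpowers_le.mpr hxP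
      have hcx : Subgroup.zpowers x = cen x :=
        le_antisymm (Subgroup.zpowers_le.mpr (mem_cen_self x)) fun z hz => by
          obtain ⟨i, rfl⟩ := hxgen z hz
          exact Subgroup.zpow_mem _ (Subgroup.mem_zpowers x) i
      rw [hcx] at hle
      have hidx : ((cen x).subgroupOf (P : Subgroup P2)).index = 2 := by
        have h := ((cen x).subgroupOf (P : Subgroup P2)).card_mul_index
        rw [Nat.card_congr (Subgroup.subgroupOfEquivOfLe hle).toEquiv, hxk, hkm, hSc, pow_succ] at h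
        exact Nat.eq_of_mul_eq_mul_left (by positivity) h
      exact (Subgroup.normal_subgroupOf_iff_le_normalizer hle).mp (Subgroup.normal_of_index_eq_two hidx)
    intro P hxP
    have hxQ : x ∈ Q := by
      rw [← hg]
      exact Subgroup.smul_mem_pointwise_smul (y : P2) (MulAut.conj g) (P0 : Subgroup P2)
        (hP0 ▸ Subgroup.le_normalizer y.2)
    exact Sylow.ext ((all P hxP).trans (all Q hxQ).symm)
  · rintro ⟨hf1, hf2⟩
    have hm3 : m ≠ 1 := by
      intro e
      rw [e, mul_one] at hkm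
      rcases hform with h | h
      · exact hf2 ⟨a + 1, by rw [pow_succ]; omega⟩
      · exact hf1 ⟨a + 1, by rw [pow_succ]; omega⟩
    -- two Sylow subgroups through every non-trivial element
    have two : ∀ x : P2, x ≠ 1 → (∃ j, orderOf x = 2 ^ j) → ∃ P P' : Sylow 2 P2, P ≠ P' ∧ x ∈ P ∧ x ∈ P' := by
      intro x hx1 ⟨j, hj⟩
      obtain ⟨c, hchar⟩ := CharP.exists F
      have : Fact c.Prime := ⟨CharP.char_is_prime F c⟩
      have hj0 : j ≠ 0 := fun e => hx1 (orderOf_eq_one_iff.mp (by rw [hj, e, pow_zero]))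
      have hxu : ¬ IsUni x := fun hu => by
        have h1 := (dvd_pow_self 2 hj0).trans (hj ▸ orderOf_dvd_of_pow_eq_one (pow_char_eq_one_of_isUni c hu))
        obtain ⟨i, -, hi⟩ := FiniteField.card F c
        have : c = 2 := ((Nat.prime_dvd_prime_iff_eq Nat.prime_two Fact.out).mp h1).symm
        rw [hi, this] at hodd
        exact absurd hodd (Nat.not_odd_iff_even.mpr (Nat.even_pow.mpr ⟨even_two, i.ne_zero⟩))
      have hxk : Nat.card (cen x) = k := (hall x hxu).resolve_right fun ho => by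
        have h1 : orderOf x ∣ Nat.card (cen x) :=
          Subgroup.orderOf_mk x (mem_cen_self x) ▸ orderOf_dvd_natCard _
        exact Nat.not_even_iff_odd.mpr ho (even_iff_two_dvd.mpr ((dvd_pow_self 2 hj0).trans (hj ▸ h1)))
      set N := Subgroup.normalizer ((cen x) : Set P2) with hN
      have hxN : x ∈ N := Subgroup.le_normalizer (mem_cen_self x)
      have hNc : Nat.card N = 2 ^ (a + 1) * m := by
        rw [hN, (torus_normalizer_props hxu).1, hxk, hkm, pow_succ]; ring
      obtain ⟨R, hR⟩ := (isPGroup_zpowers (x := (⟨x, hxN⟩ : N)) (k := j) (by rw [Subgroup.orderOf_mk, hj])).exists_le_sylow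
      have hRc : Nat.card ((R : Subgroup N).map N.subtype) = 2 ^ (a + 1) := by
        rw [Subgroup.card_map_of_injective N.subtype_injective]
        obtain ⟨i, hi⟩ := IsPGroup.iff_card.mp R.isPGroup'
        have h1 := R.pow_dvd_card_of_pow_dvd_card (hNc ▸ dvd_mul_right _ _ : 2 ^ (a + 1) ∣ Nat.card N)
        have h2 := (R : Subgroup N).card_subgroup_dvd_card
        rw [hi] at h1 h2 ⊢
        rw [hNc] at h2
        have h3 : 2 ^ i ∣ 2 ^ (a + 1) := Nat.Coprime.dvd_of_dvd_mul_right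
          (Nat.Coprime.pow_left _ (Nat.coprime_two_left.mpr hm)) h2
        exact Nat.dvd_antisymm h3 h1
      obtain ⟨P, hP⟩ := hsyl _ hRc
      have hxP : x ∈ P := by
        show x ∈ (P : Subgroup P2)
        rw [hP]
        exact ⟨⟨x, hxN⟩, hR (Subgroup.mem_zpowers _), rfl⟩
      -- an odd element of the torus moves it
      obtain ⟨l, hl, hlm⟩ := Nat.exists_prime_and_dvd hm3
      have : Fact l.Prime := ⟨hl⟩
      obtain ⟨t, ht⟩ := exists_prime_orderOf_dvd_card' (G := cen x) l (hxk ▸ hkm ▸ hlm.mul_left _)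
      have ht2 : (t : P2) * t ≠ 1 := fun e => by
        have h1 : orderOf (t : P2) ∣ 2 := orderOf_dvd_of_pow_eq_one (by rw [sq]; exact e)
        rw [Subgroup.orderOf_coe, ht] at h1
        rw [(Nat.prime_dvd_prime_iff_eq hl Nat.prime_two).mp h1] at hlm
        exact Nat.not_even_iff_odd.mpr hm (even_iff_two_dvd.mpr hlm)
      have hxP' : x ∈ ((t : P2) • P : Sylow 2 P2) := by
        have e : (t : P2) * x * (t : P2)⁻¹ = x := by
          rw [cen_comm (ne_one_of_not_isUni hxu) t.2 (mem_cen_self x), mul_inv_cancel_right]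
        have h0 := Subgroup.smul_mem_pointwise_smul x (MulAut.conj (t : P2)) (P : Subgroup P2) hxP
        rwa [show MulAut.conj (t : P2) • x = x from e] at h0
      refine ⟨P, (t : P2) • P, fun heq => ?_, hxP, hxP'⟩
      obtain ⟨w, hwP, hwc⟩ : ∃ w ∈ P, w ∉ cen x := by
        by_contra hc
        push Not at hc
        have h1 := Subgroup.card_dvd_of_le (show (P : Subgroup P2) ≤ cen x from hc)
        rw [hSc, hxk, hkm, pow_succ, Nat.mul_dvd_mul_iff_left (by positivity)] at h1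
        exact Nat.not_even_iff_odd.mpr hm (even_iff_two_dvd.mpr h1)
      have hPN : (P : Subgroup P2) ≤ N := hP ▸ Subgroup.map_subtype_le _
      obtain ⟨-, hinv⟩ := (normalizer_cases hxu (Subgroup.mem_normalizer_iff.mp (hPN hwP))).resolve_left hwc
      have h1 : (t : P2) * w * (t : P2)⁻¹ ∈ P := by
        rw [heq]
        exact Subgroup.smul_mem_pointwise_smul w (MulAut.conj (t : P2)) (P : Subgroup P2) hwP
      have h2 := P.mul_mem h1 (P.inv_mem hwP)
      have e : (t : P2) * w * (t : P2)⁻¹ * w⁻¹ = (t : P2) * t := by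
        calc _ = (t : P2) * (w * (t : P2) * w⁻¹)⁻¹ := by group
          _ = _ := by rw [hinv _ t.2, inv_inv]
      rw [e] at h2
      obtain ⟨i, hi⟩ := exists_orderOf_eq_pow P h2
      have h3 : orderOf ((t : P2) * t) ∣ l := by
        refine orderOf_dvd_of_pow_eq_one ?_
        rw [← sq, ← pow_mul, mul_comm, pow_mul, ← ht, ← Subgroup.orderOf_coe, pow_orderOf_eq_one, one_pow]
      rw [hi] at h3
      rcases Nat.eq_zero_or_pos i with rfl | hi0
      · exact ht2 (orderOf_eq_one_iff.mp hi)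
      · have := (Nat.prime_dvd_prime_iff_eq Nat.prime_two hl).mp ((dvd_pow_self 2 hi0.ne').trans h3)
        rw [← this] at hlm
        exact Nat.not_even_iff_odd.mpr hm (even_iff_two_dvd.mpr hlm)
    obtain ⟨Q⟩ := Sylow.nonempty (p := 2) (G := P2)
    refine ⟨Q, fun x hx => ?_⟩
    by_cases hx1 : x = 1
    · obtain ⟨y, hy⟩ := exists_prime_orderOf_dvd_card' (G := P2) 2 ((dvd_pow_self 2 (by omega)).trans hdvd)
      obtain ⟨P, P', hne, -, -⟩ := two y (fun h => by rw [h, orderOf_one] at hy; norm_num at hy) ⟨1, by rw [hy, pow_one]⟩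
      subst hx1
      rcases eq_or_ne P Q with rfl | h
      · exact ⟨P', hne.symm, P'.one_mem⟩
      · exact ⟨P, h, P.one_mem⟩
    · obtain ⟨P, P', hne, h1, h2⟩ := two x hx1 hx
      rcases eq_or_ne P Q with rfl | h
      · exact ⟨P', hne.symm, h2⟩
      · exact ⟨P, h, h1⟩

theorem psl_redundant_iff (p : ℕ) [Fact p.Prime] :
    HasRedundant p P2 ↔
      (p = 2 ∧ (¬ ∃ k : ℕ, Fintype.card F + 1 = 2 ^ k) ∧ (¬ ∃ k : ℕ, Fintype.card F = 2 ^ k) ∧
        ¬ ∃ k : ℕ, Fintype.card F = 2 ^ k + 1) := by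
  obtain ⟨c, hchar⟩ := CharP.exists F
  have : Fact c.Prime := ⟨CharP.char_is_prime F c⟩
  obtain ⟨n, hc, hn⟩ := FiniteField.card F c
  by_cases hpc : p = c
  · subst hpc
    refine iff_of_false (not_redundant_char p) ?_
    rintro ⟨rfl, -, h, -⟩
    exact h ⟨n, hn⟩
  by_cases hp2 : p = 2
  · subst hp2
    have hodd : Odd (Fintype.card F) := hn ▸ (hc.odd_of_ne_two (Ne.symm hpc)).pow
    rw [two_redundant_iff hodd]
    refine ⟨fun ⟨a, b⟩ => ⟨rfl, a, fun ⟨j, hj⟩ => ?_, b⟩, fun ⟨_, a, _, b⟩ => ⟨a, b⟩⟩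
    rcases Nat.eq_zero_or_pos j with rfl | hj0
    · have : 2 ≤ Fintype.card F := Fintype.one_lt_card
      rw [pow_zero] at hj; omega
    · rw [hj] at hodd
      exact absurd hodd (Nat.not_odd_iff_even.mpr (Nat.even_pow.mpr ⟨even_two, hj0.ne'⟩))
  · exact iff_of_false (not_redundant_odd p hp2 hpc) fun h => hp2 h.1

end Cfsg.Agent.Linear.Dickson
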