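import Cfsg.Agent.Linear.Dickson.SubfieldMax

/-!
Pairs of elements of SL_2 are determined up to conjugation by their traces; pairs with traces in a
subfield are conjugate into the scaled copy over that subfield.
-/

namespace Cfsg.Agent.Linear.Dickson

open Matrix Cfsg.Agent.Linear

variable {F : Type*} [Field F] {K : Type*} [Field K]

local notation "M2" => Matrix (Fin 2) (Fin 2) F
local notation "S2" => Matrix.SpecialLinearGroup (Fin 2) F
local notation "P2" => Matrix.ProjectiveSpecialLinearGroup (Fin 2) F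

/-- The two matrices fix a common line. -/
def FixLine (X Y : M2) : Prop :=
  ∃ v : Fin 2 → F, v ≠ 0 ∧ (∃ μ : F, X.mulVec v = μ • v) ∧ ∃ μ : F, Y.mulVec v = μ • v

theorem SL_sq_eq_neg_one {X : S2} (hX : (X : M2).trace = 0) : (X : M2) * (X : M2) = -1 := by
  rw [SL_sq_eq, hX, zero_smul, zero_sub]

/-- A point of the conic gives a conjugation into the scaled subfield copy. -/
theorem exists_conj_scHom (ι : K →+* F) (X Y : S2) {t s a c : K} (hX : (X : M2).trace = 0)
    (hY : (Y : M2).trace = ι t) (hXY : ((X * Y : S2) : M2).trace = ι s)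
    (hcon : a ^ 2 - t * a + c ^ 2 + s * c + 1 = 0) (hirr : ¬ FixLine (X : M2) (Y : M2)) :
    ∃ (g : S2) (w : Fˣ) (X0 Y0 : Matrix.SpecialLinearGroup (Fin 2) K),
      X = g * scHom ι w X0 * g⁻¹ ∧ Y = g * scHom ι w Y0 * g⁻¹ := by
  classical
  have dX := SL_det_two X
  have dY := SL_det_two Y
  rw [Matrix.trace_fin_two] at hX hY
  rw [Matrix.trace_fin_two, SL_mul_entries, SL_mul_entries] at hXY
  have hcon' : ι a ^ 2 - ι t * ι a + ι c ^ 2 + ι s * ι c + 1 = 0 := by
    rw [← map_zero ι, ← hcon]; simp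
  obtain ⟨v, hv0, hv⟩ := Matrix.exists_mulVec_eq_zero_iff.mpr
    (show ((Y : M2) - ι a • 1 - ι c • (X : M2)).det = 0 by
      simp [Matrix.det_fin_two]
      linear_combination hcon' + dY + ι c ^ 2 * dX + (ι c * ι a) * hX - ι a * hY
        + (-(ι c) * (Y : M2) 0 0 - ι c * (Y : M2) 1 1) * hX + ι c * hXY)
  have hv1 := congrFun hv 0
  have hv2 := congrFun hv 1
  simp [Matrix.mulVec, dotProduct, Fin.sum_univ_two] at hv1 hv2
  set u0 := (X : M2) 0 0 * v 0 + (X : M2) 0 1 * v 1 with hu0
  set u1 := (X : M2) 1 0 * v 0 + (X : M2) 1 1 * v 1 with hu1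
  set e := v 0 * u1 - u0 * v 1 with he
  have e0 : e ≠ 0 := by
    intro e0
    refine hirr ⟨v, hv0, ?_, ?_⟩
    · by_cases h0 : v 0 = 0
      · have h1 : v 1 ≠ 0 := fun h1 => hv0 (by ext i; fin_cases i <;> assumption)
        have hu : u0 = 0 := by
          have : u0 * v 1 = 0 := by linear_combination -e0 + u1 * h0
          exact (mul_eq_zero.mp this).resolve_right h1
        refine ⟨u1 / v 1, ?_⟩
        ext i; fin_cases i <;> simp [Matrix.mulVec, dotProduct, Fin.sum_univ_two]
        · linear_combination hu - (u1 / v 1) * h0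
        · rw [hu1]; field_simp
      · refine ⟨u0 / v 0, ?_⟩
        ext i; fin_cases i <;> simp [Matrix.mulVec, dotProduct, Fin.sum_univ_two]
        · rw [hu0]; field_simp
        · have : u1 = u0 * v 1 / v 0 := by field_simp; linear_combination e0
          linear_combination this
    · by_cases h0 : v 0 = 0
      · have h1 : v 1 ≠ 0 := fun h1 => hv0 (by ext i; fin_cases i <;> assumption)
        have hu : u0 = 0 := by
          have : u0 * v 1 = 0 := by linear_combination -e0 + u1 * h0
          exact (mul_eq_zero.mp this).resolve_right h1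
        refine ⟨ι a + ι c * (u1 / v 1), ?_⟩
        ext i; fin_cases i <;> simp [Matrix.mulVec, dotProduct, Fin.sum_univ_two]
        · linear_combination hv1 + ι c * hu - ι c * (u1 / v 1) * h0
        · have : u1 = (u1 / v 1) * v 1 := by field_simp
          linear_combination hv2 + ι c * this
      · refine ⟨ι a + ι c * (u0 / v 0), ?_⟩
        ext i; fin_cases i <;> simp [Matrix.mulVec, dotProduct, Fin.sum_univ_two]
        · have : u0 = (u0 / v 0) * v 0 := by field_simp
          linear_combination hv1 + ι c * this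
        · have : u1 = u0 * v 1 / v 0 := by field_simp; linear_combination e0
          linear_combination hv2 + ι c * this
  have hg : (!![v 0 / e, u0; v 1 / e, u1]).det = 1 := by
    simp [Matrix.det_fin_two_of]
    field_simp
    linear_combination -he
  let g : S2 := ⟨!![v 0 / e, u0; v 1 / e, u1], hg⟩
  let X0 : Matrix.SpecialLinearGroup (Fin 2) K := ⟨!![0, -1; 1, 0], by simp [Matrix.det_fin_two_of]⟩
  let Y0 : Matrix.SpecialLinearGroup (Fin 2) K := ⟨!![a, c + s; c, t - a], by
    rw [Matrix.det_fin_two_of]; linear_combination -hcon⟩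
  refine ⟨g, Units.mk0 e e0, X0, Y0, ?_, ?_⟩
  · rw [eq_mul_inv_iff_mul_eq]
    refine Subtype.ext ?_
    show (X : M2) * !![v 0 / e, u0; v 1 / e, u1] =
      !![v 0 / e, u0; v 1 / e, u1] * scMat ι (Units.mk0 e e0) !![0, -1; 1, 0]
    apply ext_two <;> simp [mul_two_apply, scMat] <;> field_simp
    · linear_combination -hu0
    · linear_combination ((X : M2) 0 0 * v 0 + (X : M2) 0 1 * v 1) * hX - v 0 * dX
        + (X : M2) 0 0 * hu0 + (X : M2) 0 1 * hu1
    · linear_combination -hu1
    · linear_combination ((X : M2) 1 0 * v 0 + (X : M2) 1 1 * v 1) * hX - v 1 * dX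
        + (X : M2) 1 0 * hu0 + (X : M2) 1 1 * hu1
  · rw [eq_mul_inv_iff_mul_eq]
    refine Subtype.ext ?_
    show (Y : M2) * !![v 0 / e, u0; v 1 / e, u1] =
      !![v 0 / e, u0; v 1 / e, u1] * scMat ι (Units.mk0 e e0) !![a, c + s; c, t - a]
    apply ext_two <;> simp [mul_two_apply, scMat] <;> field_simp
    · linear_combination hv1 - ι c * hu0
    · linear_combination v 0 * (-(Y : M2) 1 1 * hX + (X : M2) 0 0 * hY + hXY)
        + v 1 * ((Y : M2) 0 1 * hX + (X : M2) 0 1 * hY) - (X : M2) 0 0 * hv1 - (X : M2) 0 1 * hv2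
        - ι c * (((X : M2) 0 0 * v 0 + (X : M2) 0 1 * v 1) * hX - v 0 * dX)
        + ((Y : M2) 0 0 - ι t + ι a) * hu0 + (Y : M2) 0 1 * hu1
    · linear_combination hv2 - ι c * hu1
    · linear_combination v 0 * ((Y : M2) 1 0 * hX + (X : M2) 1 0 * hY)
        + v 1 * (-(Y : M2) 0 0 * hX + (X : M2) 1 1 * hY + hXY) - (X : M2) 1 0 * hv1 - (X : M2) 1 1 * hv2
        - ι c * (((X : M2) 1 0 * v 0 + (X : M2) 1 1 * v 1) * hX - v 1 * dX)
        + (Y : M2) 1 0 * hu0 + ((Y : M2) 1 1 - ι t + ι a) * hu1

end Cfsg.Agent.Linear.Dickson
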