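import Cfsg.Agent.Linear.Dickson.Scaled
import Cfsg.Agent.Thompson.SL2
import Cfsg.Agent.Thompson.Section
import Cfsg.Agent.S0016

/-!
Subgroups of SL_2 in odd characteristic with several Sylow subgroups for the characteristic.
-/

namespace Cfsg.Agent.Linear.Dickson

open Matrix Cfsg.Agent.Linear

variable {F : Type*} [Field F] [Fintype F] (p : ℕ) [Fact p.Prime] [CharP F p]

local notation "M2" => Matrix (Fin 2) (Fin 2) F
local notation "S2" => Matrix.SpecialLinearGroup (Fin 2) F

/-- Some element of order p in a subgroup with several Sylow p-subgroups moves the fixed line. -/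
theorem exists_moving (H : Subgroup S2) (hH : 1 < Nat.card (Sylow p H)) :
    ∃ g ∈ H, (g : M2).trace = 2 ∧ (g : M2) 1 0 ≠ 0 := by
  by_contra hcon
  push Not at hcon
  let U : Subgroup H :=
    { carrier := {g | ((g : S2) : M2) 1 0 = 0 ∧ ((g : S2) : M2) 0 0 = 1 ∧ ((g : S2) : M2) 1 1 = 1}
      one_mem' := by simp
      mul_mem' := fun {a b} ha hb => by simp [SL_mul_entries, ha.1, hb.1, ha.2.1, hb.2.1, ha.2.2, hb.2.2]
      inv_mem' := fun {a} ha => by
        obtain ⟨i00, i11, -, i10⟩ := SL_inv_entries (a : S2)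
        exact ⟨by rw [Subgroup.coe_inv, i10, ha.1, neg_zero], by rw [Subgroup.coe_inv, i00]; exact ha.2.2,
          by rw [Subgroup.coe_inv, i11]; exact ha.2.1⟩ }
  have hU : IsPGroup p U := fun g => ⟨1, Subtype.ext (Subtype.ext (by
    rw [pow_one, Subgroup.coe_pow, Subgroup.coe_pow, Subgroup.coe_one, Subgroup.coe_one,
      pow_char_eq_one_iff, Matrix.trace_fin_two, g.2.2.1, g.2.2.2, one_add_one_eq_two]))⟩
  have key : ∀ (Q : Sylow p H) (x : H), x ∈ (Q : Subgroup H) → x ∈ U := by
    intro Q x hx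
    obtain ⟨k, hk⟩ := Q.isPGroup' ⟨x, hx⟩
    have hk' : (x : S2) ^ p ^ k = 1 := congrArg (fun z : (Q : Subgroup H) => ((z : H) : S2)) hk
    have htr : ((x : S2) : M2).trace = 2 := by
      have e : (((x : S2) : M2) - 1) ^ p ^ k = 0 := by
        rw [sub_pow_char_pow_of_commute p k (Commute.one_right _), one_pow,
          ← Matrix.SpecialLinearGroup.coe_pow, hk', Matrix.SpecialLinearGroup.coe_one, sub_self]
      have h0 := (Matrix.isNilpotent_trace_of_isNilpotent ⟨_, e⟩).eq_zero
      simp [Matrix.trace_fin_two] at h0 ⊢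
      linear_combination h0
    have h10 := hcon _ x.2 htr
    have hd := SL_det_two (x : S2)
    rw [h10, mul_zero, sub_zero] at hd
    rw [Matrix.trace_fin_two] at htr
    have h00 : ((x : S2) : M2) 0 0 = 1 := by
      refine sub_eq_zero.mp (eq_zero_of_pow_eq_zero (n := 2) ?_)
      linear_combination ((x : S2) : M2) 0 0 * htr - hd
    exact ⟨h10, h00, by linear_combination htr - h00⟩
  have : ∀ Q : Sylow p H, (Q : Subgroup H) = U := fun Q => (Q.3 hU (key Q)).symm
  have hsub : Subsingleton (Sylow p H) := ⟨fun Q R => Sylow.ext ((this Q).trans (this R).symm)⟩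
  have := Finite.card_le_one_iff_subsingleton.mpr hsub
  omega

/-- A subgroup of SL_2 with several Sylow subgroups for the odd characteristic p contains SL_2(p). -/
theorem exists_SL2_le (hp : p ≠ 2) (H : Subgroup S2) (hH : 1 < Nat.card (Sylow p H)) :
    ∃ K : Subgroup S2, K ≤ H ∧ Nonempty (K ≃* Matrix.SpecialLinearGroup (Fin 2) (ZMod p)) := by
  classical
  -- a non-trivial element with trace two, conjugated to the upper unipotent subgroup
  obtain ⟨x, hx, hxt, hx10⟩ := exists_moving p H hH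
  obtain ⟨b, hb, hbx⟩ := exists_conj_upSL (fun h => hx10 h.2.1) hxt
  obtain ⟨c, hc⟩ := isConj_iff.mp hbx.symm
  obtain ⟨y, hy, hyt, hy10⟩ := exists_moving p (H.map (MulAut.conj c).toMonoidHom) (by
    let e := H.equivMapOfInjective (MulAut.conj c).toMonoidHom (MulAut.conj c).injective
    exact hH.trans_le (Nat.card_le_card_of_surjective _
      (Sylow.mapSurjective_surjective (f := e.symm.toMonoidHom) e.symm.surjective p)))
  -- move the fixed line of the second element to the lower one
  set s := -((y : M2) 0 0 - 1) / (y : M2) 1 0 with hs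
  let φ : S2 →* S2 :=
    (scHom (RingHom.id F) (Units.mk0 b⁻¹ (inv_ne_zero hb))).comp (MulAut.conj (upSL s * c)).toMonoidHom
  have hφ : Function.Injective φ := by
    have hsc : Function.Injective (scHom (RingHom.id F) (Units.mk0 b⁻¹ (inv_ne_zero hb))) := by
      intro g h e
      have e' : ∀ i j, scMat (RingHom.id F) (Units.mk0 b⁻¹ (inv_ne_zero hb)) g i j =
          scMat (RingHom.id F) (Units.mk0 b⁻¹ (inv_ne_zero hb)) h i j := fun i j => by
        exact congrArg (fun z : S2 => (z : M2) i j) e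
      apply SL_ext_two
      · simpa [scMat] using e' 0 0
      · simpa [scMat, hb] using e' 0 1
      · simpa [scMat, hb] using e' 1 0
      · simpa [scMat] using e' 1 1
    exact fun g h e => (MulAut.conj (upSL s * c)).injective (hsc e)
  have hone : Cfsg.Agent.Thompson.up (1 : F) ∈ H.map φ := by
    refine ⟨x, hx, ?_⟩
    have e : upSL s * c * x * (upSL s * c)⁻¹ = upSL b := by
      rw [_root_.mul_inv_rev, show upSL s * c * x * (c⁻¹ * (upSL s)⁻¹) = upSL s * (c * x * c⁻¹) * (upSL s)⁻¹ by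
        group, hc, mul_inv_eq_iff_eq_mul, ← upSL_add, ← upSL_add, add_comm]
    show scHom (RingHom.id F) _ (upSL s * c * x * (upSL s * c)⁻¹) = _
    rw [e]
    apply SL_ext_two <;> simp [scHom_coe, scMat, upSL_coe, Cfsg.Agent.Thompson.up_coe, hb]
  obtain ⟨z, hz, hzy⟩ := hy
  have hlow : Cfsg.Agent.Thompson.low ((y : M2) 1 0 * b) ∈ H.map φ := by
    refine ⟨z, hz, ?_⟩
    have e : upSL s * c * z * (upSL s * c)⁻¹ = loSL ((y : M2) 1 0) := by
      rw [_root_.mul_inv_rev, show upSL s * c * z * (c⁻¹ * (upSL s)⁻¹) = upSL s * (c * z * c⁻¹) * (upSL s)⁻¹ by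
        group, show c * z * c⁻¹ = y from hzy, mul_inv_eq_iff_eq_mul]
      have hd := SL_det_two y
      rw [Matrix.trace_fin_two] at hyt
      apply SL_ext_two <;> simp [SL_mul_entries, upSL_coe, loSL_coe]
      · rw [hs]; field_simp; ring
      · rw [hs]; field_simp
        linear_combination -hd + hyt
      · rw [hs]; field_simp; linear_combination hyt
    show scHom (RingHom.id F) _ (upSL s * c * z * (upSL s * c)⁻¹) = _
    rw [e]
    apply SL_ext_two <;> simp [scHom_coe, scMat, loSL_coe, Cfsg.Agent.Thompson.low_coe]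
  obtain ⟨C, hC, hX⟩ := Cfsg.Agent.Thompson.exists_conj_SL2_le hp (H.map φ) hone
    (mul_ne_zero hy10 hb) hlow
  choose g hg hgC using hX
  let ψ : Matrix.SpecialLinearGroup (Fin 2) (ZMod p) →* S2 := MonoidHom.mk' g fun X Y => by
    refine Subtype.ext ?_
    have hCu : IsUnit C.det := isUnit_iff_ne_zero.mpr hC
    refine ((Matrix.isUnit_iff_isUnit_det C).mpr hCu).mul_left_injective ?_
    show (g (X * Y) : M2) * C = (g X * g Y : S2) * C
    rw [hgC, Matrix.SpecialLinearGroup.coe_mul, Matrix.SpecialLinearGroup.coe_mul, Matrix.map_mul,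
      mul_assoc (g X : M2), hgC Y, ← mul_assoc, ← mul_assoc, hgC X]
  have hψ : Function.Injective ψ := fun X Y e => by
    have h1 := hgC X
    rw [show g X = g Y from e, hgC Y] at h1
    have h2 := ((Matrix.isUnit_iff_isUnit_det C).mpr (isUnit_iff_ne_zero.mpr hC)).mul_right_injective h1
    refine Subtype.ext (Matrix.ext fun i j => ?_)
    have := congrFun (congrFun h2 i) j
    simp only [Matrix.map_apply] at this
    exact (RingHom.injective (ZMod.castHom dvd_rfl F) this).symm
  have hle : ψ.range ≤ H.map φ := by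
    rintro _ ⟨X, rfl⟩
    exact hg X
  refine ⟨ψ.range.comap φ, fun k hk => ?_, ⟨?_⟩⟩
  · obtain ⟨h, hh, e⟩ := hle hk
    exact hφ e ▸ hh
  · have e1 : (ψ.range.comap φ).map φ = ψ.range :=
      Subgroup.map_comap_eq_self (hle.trans (H.map_le_range φ))
    exact ((ψ.range.comap φ).equivMapOfInjective φ hφ).trans
      ((MulEquiv.subgroupCongr e1).trans (MonoidHom.ofInjective hψ).symm)

/-- A noncommutative 2-subgroup of SL_2 in odd characteristic is generalised quaternion. -/
theorem equiv_quaternion (hp : p ≠ 2) (S : Subgroup S2) (hS : IsPGroup 2 S) {x y : S2} (hx : x ∈ S)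
    (hy : y ∈ S) (hne : x * y ≠ y * x) :
    ∃ k : ℕ, 1 ≤ k ∧ Nonempty (S ≃* QuaternionGroup (2 ^ k)) := by
  have h2 : (2 : F) ≠ 0 := Ring.two_ne_zero (by rw [ringChar.eq F p]; exact hp)
  have hnc : ¬ IsCyclic S := fun h => by
    let := IsCyclic.commGroup (α := S)
    exact hne (congrArg Subtype.val (mul_comm (⟨x, hx⟩ : S) ⟨y, hy⟩))
  have hinv : ∀ l : S, orderOf l = 2 → (l : S2) = -1 := fun l hl => by
    have h : l * l = 1 := by rw [← sq]; exact orderOf_dvd_iff_pow_eq_one.mp hl.dvd
    refine (eq_one_or_neg_one_of_sq h2 (congrArg Subtype.val h)).resolve_left fun h1 => ?_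
    rw [show l = 1 from Subtype.ext h1, orderOf_one] at hl
    omega
  have huniq : ∀ A B : Subgroup S, Nat.card A = 2 → Nat.card B = 2 → A = B := by
    have : Fact (Nat.Prime 2) := ⟨Nat.prime_two⟩
    intro A B hA hB
    obtain ⟨a, ha⟩ := exists_prime_orderOf_dvd_card' (G := A) 2 (dvd_of_eq hA.symm)
    obtain ⟨b, hb⟩ := exists_prime_orderOf_dvd_card' (G := B) 2 (dvd_of_eq hB.symm)
    rw [← Subgroup.orderOf_coe] at ha hb
    have e : (a : S) = b := Subtype.ext ((hinv _ ha).trans (hinv _ hb).symm)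
    have hA' : Subgroup.zpowers (a : S) = A :=
      Subgroup.eq_of_le_of_card_ge (Subgroup.zpowers_le.mpr a.2) (by rw [Nat.card_zpowers, ha, hA])
    rw [← hA', e]
    exact Subgroup.eq_of_le_of_card_ge (Subgroup.zpowers_le.mpr b.2) (by rw [Nat.card_zpowers, hb, hB])
  have : Fact (Nat.Prime 2) := ⟨Nat.prime_two⟩
  rcases Cfsg.Agent.S0016.result 2 hS huniq with h | ⟨-, n, ⟨e⟩⟩
  · exact absurd h hnc
  · refine ⟨n, Nat.one_le_iff_ne_zero.2 fun h0 => hnc ?_, ⟨e⟩⟩
    subst h0
    have : IsCyclic (QuaternionGroup 1) := QuaternionGroup.quaternionGroup_one_isCyclic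
    let e' : QuaternionGroup 1 ≃* S := e.symm
    exact isCyclic_of_surjective e'.toMonoidHom e'.surjective

theorem sylow_two_quaternion (hp : p ≠ 2) (H : Subgroup S2) (hH : 1 < Nat.card (Sylow p H))
    (S : Sylow 2 H) : ∃ k : ℕ, 1 ≤ k ∧ Nonempty ((S : Subgroup H) ≃* QuaternionGroup (2 ^ k)) := by
  obtain ⟨K, hK, ⟨e⟩⟩ := exists_SL2_le p hp H hH
  obtain ⟨u, w, hQ, hne⟩ := Cfsg.Agent.Thompson.exists_sl2_quaternion hp
  let f : Matrix.SpecialLinearGroup (Fin 2) (ZMod p) →* H :=
    (Subgroup.inclusion hK).comp e.symm.toMonoidHom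
  have hf : Function.Injective f := (Subgroup.inclusion_injective hK).comp e.symm.injective
  have : Fact (Nat.Prime 2) := ⟨Nat.prime_two⟩
  obtain ⟨T, hT⟩ := (hQ.map f).exists_le_sylow
  obtain ⟨k, hk, ⟨g⟩⟩ := equiv_quaternion p hp ((T : Subgroup H).map H.subtype) (T.isPGroup'.map _)
    (x := (f u : S2)) (y := (f w : S2))
    (Subgroup.mem_map_of_mem _ (hT (Subgroup.mem_map_of_mem f (Subgroup.subset_closure (Set.mem_insert _ _)))))
    (Subgroup.mem_map_of_mem _ (hT (Subgroup.mem_map_of_mem f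
      (Subgroup.subset_closure (Set.mem_insert_of_mem _ rfl)))))
    (fun h => hne (hf (Subtype.ext (by rw [map_mul, map_mul]; exact h))))
  exact ⟨k, hk, ⟨((S.equiv T).trans ((T : Subgroup H).equivMapOfInjective _ H.subtype_injective)).trans g⟩⟩

end Cfsg.Agent.Linear.Dickson
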