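import Cfsg.Agent.Linear.Dickson.Partition
import Cfsg.Agent.Linear.Dickson.ClassEquation

/-!
The induced partition of a subgroup of PSL_2.
-/

namespace Cfsg.Agent.Linear.Dickson

open Matrix Cfsg.Agent.Linear

variable {F : Type*} [Field F]

local notation "M2" => Matrix (Fin 2) (Fin 2) F
local notation "S2" => Matrix.SpecialLinearGroup (Fin 2) F

variable (H : Subgroup (Matrix.ProjectiveSpecialLinearGroup (Fin 2) F))

/-- The partition induced on a subgroup. -/
noncomputable def part : CenPartition H where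
  cen a := (cen (a : Matrix.ProjectiveSpecialLinearGroup (Fin 2) F)).subgroupOf H
  mem_self a := mem_cen_self _
  eq_of_mem {x y} hx hy h := by
    rw [cen_eq_of_mem (fun e => hx (Subtype.ext e)) (fun e => hy (Subtype.ext e)) h]
  mem_conj g x y := mem_cen_conj _ _ _

variable {H}

theorem mem_part_cen {a b : H} :
    b ∈ (part H).cen a ↔ (b : Matrix.ProjectiveSpecialLinearGroup (Fin 2) F) ∈ cen (a : Matrix.ProjectiveSpecialLinearGroup (Fin 2) F) :=
  Iff.rfl

theorem coe_ne_one {a : H} (ha : a ≠ 1) :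
    (a : Matrix.ProjectiveSpecialLinearGroup (Fin 2) F) ≠ 1 := fun e => ha (Subtype.ext e)

theorem global_normalises {a g : H} (ha : a ≠ 1) (hg : g ∈ (part H).nor a)
    (y : Matrix.ProjectiveSpecialLinearGroup (Fin 2) F) :
    y ∈ cen (a : Matrix.ProjectiveSpecialLinearGroup (Fin 2) F) ↔
      (g : Matrix.ProjectiveSpecialLinearGroup (Fin 2) F) * y * (g : Matrix.ProjectiveSpecialLinearGroup (Fin 2) F)⁻¹
        ∈ cen (a : Matrix.ProjectiveSpecialLinearGroup (Fin 2) F) := by
  have h := (Subgroup.mem_normalizer_iff.mp hg a).mp ((part H).mem_self a)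
  rw [mem_part_cen] at h
  have e := cen_eq_of_mem (coe_ne_one ha) (coe_ne_one (CenPartition.conj_ne_one' ha)) h
  rw [Subgroup.coe_mul, Subgroup.coe_mul, Subgroup.coe_inv] at e
  have hh := mem_cen_conj (g : Matrix.ProjectiveSpecialLinearGroup (Fin 2) F)
    (a : Matrix.ProjectiveSpecialLinearGroup (Fin 2) F) y
  rw [e] at hh
  exact hh.symm

theorem isCyclic_part {a : H} (ht : ¬ IsUni (a : Matrix.ProjectiveSpecialLinearGroup (Fin 2) F)) [Fintype F] :
    IsCyclic ((part H).cen a) := by
  have := isCyclic_cen ht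
  let f : (part H).cen a →* cen (a : Matrix.ProjectiveSpecialLinearGroup (Fin 2) F) :=
    { toFun := fun b => ⟨(b.1 : Matrix.ProjectiveSpecialLinearGroup (Fin 2) F), b.2⟩
      map_one' := rfl
      map_mul' := fun _ _ => rfl }
  refine isCyclic_of_injective f fun b c h => ?_
  exact Subtype.ext (Subtype.ext (congrArg (fun z : cen (a : Matrix.ProjectiveSpecialLinearGroup (Fin 2) F) => (z : Matrix.ProjectiveSpecialLinearGroup (Fin 2) F)) h))

theorem card_part_dvd [Fintype F] (a : H) :
    Nat.card ((part H).cen a) ∣ Nat.card (cen (a : Matrix.ProjectiveSpecialLinearGroup (Fin 2) F)) := by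
  let f : (part H).cen a →* cen (a : Matrix.ProjectiveSpecialLinearGroup (Fin 2) F) :=
    { toFun := fun b => ⟨(b.1 : Matrix.ProjectiveSpecialLinearGroup (Fin 2) F), b.2⟩
      map_one' := rfl
      map_mul' := fun _ _ => rfl }
  refine Subgroup.card_dvd_of_injective f fun b c h => ?_
  exact Subtype.ext (Subtype.ext (congrArg (fun z : cen (a : Matrix.ProjectiveSpecialLinearGroup (Fin 2) F) => (z : Matrix.ProjectiveSpecialLinearGroup (Fin 2) F)) h))

variable [Fintype F]

theorem not_dvd_card_part (p : ℕ) [Fact p.Prime] [CharP F p] {a : H}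
    (ht : ¬ IsUni (a : Matrix.ProjectiveSpecialLinearGroup (Fin 2) F)) :
    ¬ p ∣ Nat.card ((part H).cen a) :=
  fun h => coprime_card_cen p ht (h.trans (card_part_dvd a))

theorem part_normalizer_cases {a g : H} (ha : a ≠ 1)
    (ht : ¬ IsUni (a : Matrix.ProjectiveSpecialLinearGroup (Fin 2) F)) (hg : g ∈ (part H).nor a) :
    g ∈ (part H).cen a ∨ (g * g = 1 ∧ ∀ y ∈ (part H).cen a, g * y * g⁻¹ = y⁻¹) := by
  rcases normalizer_cases ht (global_normalises ha hg) with h | ⟨h1, h2⟩
  · exact Or.inl h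
  · exact Or.inr ⟨Subtype.ext h1, fun y hy => Subtype.ext (h2 _ hy)⟩

theorem mul_mem_part {a g k : H} (ha : a ≠ 1)
    (ht : ¬ IsUni (a : Matrix.ProjectiveSpecialLinearGroup (Fin 2) F)) (hg : g ∈ (part H).nor a)
    (hk : k ∈ (part H).nor a) (hgc : g ∉ (part H).cen a) (hkc : k ∉ (part H).cen a) :
    g * k ∈ (part H).cen a := by
  obtain ⟨z, hz⟩ := proj_surjective (a : Matrix.ProjectiveSpecialLinearGroup (Fin 2) F)
  obtain ⟨g', hg'⟩ := proj_surjective (g : Matrix.ProjectiveSpecialLinearGroup (Fin 2) F)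
  obtain ⟨k', hk'⟩ := proj_surjective (k : Matrix.ProjectiveSpecialLinearGroup (Fin 2) F)
  rw [← hz, isUni_proj] at ht
  have inv : ∀ (w : H) (w' : S2), proj w' = (w : Matrix.ProjectiveSpecialLinearGroup (Fin 2) F) →
      w ∈ (part H).nor a → w ∉ (part H).cen a → w' * z * w'⁻¹ = z⁻¹ := by
    intro w w' hw hwn hwc
    have hN : w' ∈ Subgroup.normalizer ((Subgroup.centralizer ({z} : Set S2)) : Set S2) := by
      rw [Subgroup.mem_normalizer_iff]
      intro y
      have := global_normalises ha hwn (proj y)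
      rwa [← hz, ← hw, ← map_inv, ← map_mul, ← map_mul, mem_cen_proj, mem_cen_proj] at this
    refine ((mem_normalizer_centralizer_iff ht).mp hN).resolve_left fun e => hwc ?_
    rw [mem_part_cen, ← hz, ← hw, mem_cen_proj, Subgroup.mem_centralizer_singleton_iff,
      ← mul_inv_eq_iff_eq_mul, e]
  have e1 := inv g g' hg' hg hgc
  have e2 := inv k k' hk' hk hkc
  rw [mem_part_cen, Subgroup.coe_mul, ← hz, ← hg', ← hk', ← map_mul, mem_cen_proj,
    Subgroup.mem_centralizer_singleton_iff, ← mul_inv_eq_iff_eq_mul]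
  calc g' * k' * z * (g' * k')⁻¹ = g' * (k' * z * k'⁻¹) * g'⁻¹ := by group
    _ = (g' * z * g'⁻¹)⁻¹ := by rw [e2]; group
    _ = z := by rw [e1, inv_inv]

theorem isTor {a : H} (ha : a ≠ 1) (ht : ¬ IsUni (a : Matrix.ProjectiveSpecialLinearGroup (Fin 2) F)) :
    (part H).IsTor a := by
  set A := (part H).cen a
  set N := (part H).nor a
  by_cases h : ∀ g ∈ N, g ∈ A
  · left
    rw [show (part H).nor a = A from le_antisymm h ((part H).le_nor a)]
  · right
    push Not at h
    obtain ⟨g, hg, hgA⟩ := h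
    have hidx : (A.subgroupOf N).index = 2 := by
      rw [Subgroup.index_eq_two_iff]
      refine ⟨⟨g, hg⟩, fun b => ?_⟩
      simp only [Subgroup.mem_subgroupOf, Subgroup.coe_mul]
      by_cases hb : (b : H) ∈ A
      · refine Or.inr ⟨hb, fun hbg => hgA ?_⟩
        simpa using A.mul_mem (A.inv_mem hb) hbg
      · exact Or.inl ⟨mul_mem_part ha ht b.2 hg hb hgA, hb⟩
    show Nat.card N = 2 * Nat.card A
    rw [← Subgroup.card_mul_index (A.subgroupOf N), hidx,
      Nat.card_congr (Subgroup.subgroupOfEquivOfLe ((part H).le_nor a)).toEquiv, mul_comm]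

/-- If the normaliser is bigger, there is an involution inverting the member. -/
theorem exists_part_inverter {a : H} (ha : a ≠ 1)
    (ht : ¬ IsUni (a : Matrix.ProjectiveSpecialLinearGroup (Fin 2) F))
    (h2 : Nat.card ((part H).nor a) = 2 * Nat.card ((part H).cen a)) :
    ∃ w ∈ (part H).nor a, w ∉ (part H).cen a ∧ w * w = 1 ∧
      ∀ y ∈ (part H).cen a, w * y * w⁻¹ = y⁻¹ := by
  have : ∃ w ∈ (part H).nor a, w ∉ (part H).cen a := by
    by_contra hc
    push Not at hc
    have hle : Nat.card ((part H).nor a) ≤ Nat.card ((part H).cen a) :=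
      Nat.le_of_dvd Nat.card_pos (Subgroup.card_dvd_of_le hc)
    have : 0 < Nat.card ((part H).cen a) := Nat.card_pos
    omega
  obtain ⟨w, hw, hwc⟩ := this
  obtain ⟨h1, h2⟩ := (part_normalizer_cases ha ht hw).resolve_left hwc
  exact ⟨w, hw, hwc, h1, h2⟩

end Cfsg.Agent.Linear.Dickson
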