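import Cfsg.Agent.Linear.Dickson.SmallMax
import Cfsg.Agent.H34.Klein
import Mathlib.GroupTheory.SpecificGroups.Alternating.KleinFour

/-!
Small subgroups of PSL_2: conjugations into subfield copies and into larger small subgroups.
-/

namespace Cfsg.Agent.Linear.Dickson

open Matrix Cfsg.Agent.Linear

/-- Four-letter generators of order two and three of the symmetric group. -/
def genSym : Equiv.Perm (Fin 4) × Equiv.Perm (Fin 4) :=
  (Equiv.swap 0 1, Equiv.swap 1 2 * Equiv.swap 2 3)

/-- Four-letter generators of order two and three of the alternating group. -/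
def genAlt : alternatingGroup (Fin 4) × alternatingGroup (Fin 4) :=
  (⟨Equiv.swap 0 1 * Equiv.swap 2 3, Equiv.Perm.mem_alternatingGroup.mpr (by decide)⟩,
   ⟨Equiv.swap 0 1 * Equiv.swap 1 2, Equiv.Perm.mem_alternatingGroup.mpr (by decide)⟩)

/-- Words exhausting the symmetric group. -/
def symFourWords : List (List Bool) :=
  [[], [true], [false], [true, false], [false, true], [false, false], [true, false, true], [true, false, false], [false, true, false], [false, false, true], [true, false, true, false], [true, false, false, true], [false, true, false, true], [false, true, false, false], [false, false, true, false], [true, false, true, false, true], [true, false, true, false, false], [true, false, false, true, false], [false, true, false, false, true], [false, false, true, false, true], [true, false, true, false, false, true], [true, false, false, true, false, true], [false, true, false, false, true, false], [true, false, true, false, false, true, false]]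

/-- Words exhausting the alternating group. -/
def altFourWords : List (List Bool) :=
  [[], [true], [false], [true, false], [false, true], [false, false], [true, false, true], [true, false, false], [false, true, false], [false, false, true], [false, true, false, false], [false, false, true, false]]

theorem closure_genSym {N : Subgroup (Equiv.Perm (Fin 4))} (h1 : genSym.1 ∈ N) (h2 : genSym.2 ∈ N) :
    N = ⊤ := by
  have h : ∀ g : Equiv.Perm (Fin 4),
      g ∈ symFourWords.map fun w => (w.map fun b => cond b genSym.1 genSym.2).prod := by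
    decide +kernel
  refine (Subgroup.eq_top_iff' _).mpr fun g => ?_
  obtain ⟨w, -, rfl⟩ := List.mem_map.mp (h g)
  refine Subgroup.list_prod_mem _ fun z hz => ?_
  obtain ⟨b, -, rfl⟩ := List.mem_map.mp hz
  cases b
  · exact h2
  · exact h1

theorem closure_genAlt {N : Subgroup (alternatingGroup (Fin 4))} (h1 : genAlt.1 ∈ N) (h2 : genAlt.2 ∈ N) :
    N = ⊤ := by
  have h : ∀ g : alternatingGroup (Fin 4),
      g ∈ altFourWords.map fun w => (w.map fun b => cond b genAlt.1 genAlt.2).prod := by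
    decide +kernel
  refine (Subgroup.eq_top_iff' _).mpr fun g => ?_
  obtain ⟨w, -, rfl⟩ := List.mem_map.mp (h g)
  refine Subgroup.list_prod_mem _ fun z hz => ?_
  obtain ⟨b, -, rfl⟩ := List.mem_map.mp hz
  cases b
  · exact h2
  · exact h1

/-- The conic of a pair has a point in odd characteristic. -/
theorem exists_conic_point' {K : Type*} [Field K] [Fintype K] (h2 : (2 : K) ≠ 0) (t s : K) :
    ∃ a c : K, a ^ 2 - t * a + c ^ 2 + s * c + 1 = 0 := by
  have hodd : Fintype.card K % 2 = 1 := FiniteField.odd_card_of_char_ne_two fun e => h2 (by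
    have : CharP K 2 := e ▸ ringChar.charP K
    exact CharTwo.two_eq_zero)
  obtain ⟨A, B, hAB⟩ := FiniteField.exists_root_sum_quadratic
    (f := (Polynomial.X : Polynomial K) ^ 2)
    (g := Polynomial.X ^ 2 - Polynomial.C (t ^ 2 + s ^ 2 - 4))
    (Polynomial.degree_X_pow 2) (Polynomial.degree_X_pow_sub_C (by norm_num) _) hodd
  simp at hAB
  refine ⟨(A + t) / 2, (B - s) / 2, ?_⟩
  field_simp
  linear_combination hAB

section Pair

variable {F : Type*} [Field F] [Fintype F]

local notation "M2" => Matrix (Fin 2) (Fin 2) F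
local notation "S2" => Matrix.SpecialLinearGroup (Fin 2) F
local notation "P2" => Matrix.ProjectiveSpecialLinearGroup (Fin 2) F

theorem inBorel_of_fixLine {X Y : S2} (h : FixLine (X : M2) (Y : M2)) {M : Subgroup P2}
    (hgen : ∀ N : Subgroup P2, proj X ∈ N → proj Y ∈ N → M ≤ N) : InBorel M := by
  obtain ⟨v, hv, ⟨μ, hμ⟩, ⟨μ', hμ'⟩⟩ := h
  obtain ⟨k, hk0, hk1⟩ : ∃ k : S2, (k : M2) 0 0 = v 0 ∧ (k : M2) 1 0 = v 1 := by
    by_cases h0 : v 0 = 0
    · have h1 : v 1 ≠ 0 := fun h1 => hv (by ext i; fin_cases i <;> assumption)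
      exact ⟨⟨!![v 0, -(v 1)⁻¹; v 1, 0], by simp [Matrix.det_fin_two_of, h1]⟩, rfl, rfl⟩
    · exact ⟨⟨!![v 0, 0; v 1, (v 0)⁻¹], by simp [Matrix.det_fin_two_of, h0]⟩, rfl, rfl⟩
  have hk : ∀ (G : S2) (m : F), (G : M2).mulVec v = m • v → proj (k⁻¹ * G * k) ∈ borel F := by
    intro G m hm
    have e1 := congrFun hm 0
    have e2 := congrFun hm 1
    simp [Matrix.mulVec, dotProduct, Fin.sum_univ_two] at e1 e2
    rw [mem_borel_proj, mul_assoc, SL_mul_entries, SL_mul_entries, SL_mul_entries,
      (SL_inv_entries k).2.2.2, (SL_inv_entries k).2.1, hk0, hk1]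
    linear_combination -v 1 * e1 + v 0 * e2
  have hle := hgen ((borel F).map (MulAut.conj (proj k)).toMonoidHom) (mem_map_conj.mpr (by
    rw [← map_inv, ← map_mul, ← map_mul]; exact hk X μ hμ)) (mem_map_conj.mpr (by
    rw [← map_inv, ← map_mul, ← map_mul]; exact hk Y μ' hμ'))
  exact ⟨(proj k)⁻¹, fun m hm => by simpa using mem_map_conj.mp (hle hm)⟩

/-- A pair with traces in a subfield generates a subgroup conjugate into the scaled copy. -/
theorem exists_conj_le_pslSub_of_pair {K : Type*} [Field K] [Fintype K] (h2 : (2 : K) ≠ 0) (ι : K →+* F)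
    {X Y : S2} {t s : K} (hX : (X : M2).trace = 0) (hY : (Y : M2).trace = ι t)
    (hXY : ((X * Y : S2) : M2).trace = ι s) {M : Subgroup P2}
    (hgen : ∀ N : Subgroup P2, proj X ∈ N → proj Y ∈ N → M ≤ N) (hB : ¬ InBorel M) :
    ∃ (g : P2) (w : Fˣ), M ≤ (pslSub ι w).map (MulAut.conj g).toMonoidHom := by
  obtain ⟨a, c, hcon⟩ := exists_conic_point' h2 t s
  obtain ⟨g, w, X1, Y1, hgX, hgY⟩ :=
    exists_conj_scHom ι X Y hX hY hXY hcon fun hf => hB (inBorel_of_fixLine hf hgen)
  refine ⟨proj g, w, hgen _ ?_ ?_⟩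
  · rw [hgX, map_mul, map_mul, map_inv]
    exact conj_mem_map_conj ⟨X1, rfl⟩
  · rw [hgY, map_mul, map_mul, map_inv]
    exact conj_mem_map_conj ⟨Y1, rfl⟩

theorem trace_sq_eq_two_of_fourth {g : S2} (h2 : proj g ^ 2 ≠ 1) (h : proj g ^ 4 = 1) :
    (g : M2).trace ^ 2 = 2 := by
  have h1 : proj (g * g) ≠ 1 := by rwa [map_mul, ← sq]
  have h0 := trace_eq_zero_of_sq h1 (by rw [map_mul, ← sq, ← pow_mul]; exact h)
  rw [Matrix.SpecialLinearGroup.coe_mul, SL_sq_eq, Matrix.trace_sub, Matrix.trace_smul,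
    Matrix.trace_one, Fintype.card_fin, smul_eq_mul] at h0
  push_cast at h0
  linear_combination h0

end Pair

section Conj

variable {G : Type*} [Group G] [Finite G]

/-- A Sylow-sized subgroup is conjugate into any subgroup of sufficient order. -/
theorem exists_conj_le_of_pPart {l : ℕ} [Fact l.Prime] {k : ℕ} (hk : ¬ l ^ (k + 1) ∣ Nat.card G)
    {N H : Subgroup G} (hN : Nat.card N = l ^ k) (hH : l ^ k ∣ Nat.card H) :
    ∃ g : G, N.map (MulAut.conj g).toMonoidHom ≤ H := by
  obtain ⟨K, hK⟩ := Sylow.exists_subgroup_card_pow_prime l hH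
  have hK' : Nat.card (K.map H.subtype) = l ^ k := by
    rw [Subgroup.card_map_of_injective H.subtype_injective, hK]
  obtain ⟨P, hP⟩ := (IsPGroup.of_card hN).exists_le_sylow
  obtain ⟨Q, hQ⟩ := (IsPGroup.of_card hK').exists_le_sylow
  have hcard : ∀ R : Sylow l G, Nat.card (R : Subgroup G) ≤ l ^ k := fun R => by
    obtain ⟨n, hn⟩ := IsPGroup.iff_card.mp R.isPGroup'
    rw [hn]
    refine Nat.pow_le_pow_right (Fact.out : l.Prime).pos ?_
    by_contra hlt
    exact hk ((pow_dvd_pow l (by omega : k + 1 ≤ n)).trans (hn ▸ (R : Subgroup G).card_subgroup_dvd_card))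
  have e1 : N = P := Subgroup.eq_of_le_of_card_ge hP ((hcard P).trans hN.ge)
  have e2 : K.map H.subtype = Q := Subgroup.eq_of_le_of_card_ge hQ ((hcard Q).trans hK'.ge)
  obtain ⟨g, hg⟩ := MulAction.exists_smul_eq G P Q
  refine ⟨g, ?_⟩
  rw [e1]
  intro x hx
  have hx' : x ∈ ((g • P : Sylow l G) : Subgroup G) := by
    obtain ⟨y, hy, rfl⟩ := hx
    exact Subgroup.smul_mem_pointwise_smul y (MulAut.conj g) (P : Subgroup G) hy
  rw [hg, ← e2] at hx'
  exact Subgroup.map_subtype_le K hx'

/-- The normaliser of a Sylow subgroup of prime order is conjugate into any subgroup with an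
inverted element of that order, provided it has twice that order. -/
theorem exists_conj_normalizer_le {l : ℕ} [Fact l.Prime] (hl : ¬ l ^ 2 ∣ Nat.card G) {P : Subgroup G}
    (hP : Nat.card P = l) (hN : Nat.card (Subgroup.normalizer (P : Set G)) = 2 * l) (hl2 : l ≠ 2)
    {H : Subgroup G} {x w : G} (hx : x ∈ H) (hw : w ∈ H) (hxl : orderOf x = l) (hw2 : orderOf w = 2)
    (hwx : w * x * w⁻¹ = x⁻¹) :
    ∃ g : G, (Subgroup.normalizer (P : Set G)).map (MulAut.conj g).toMonoidHom ≤ H := by
  obtain ⟨g, hg⟩ := exists_conj_le_of_pPart (k := 1) hl (N := P) (H := Subgroup.zpowers x)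
    (by rw [hP, pow_one]) (by rw [Nat.card_zpowers, hxl, pow_one])
  refine ⟨g, ?_⟩
  set N := (Subgroup.normalizer (P : Set G)).map (MulAut.conj g).toMonoidHom with hNdef
  have hcard : Nat.card N = 2 * l := by
    rw [hNdef, Subgroup.card_map_of_injective (MulAut.conj g).injective, hN]
  have hPe : P.map (MulAut.conj g).toMonoidHom = Subgroup.zpowers x :=
    Subgroup.eq_of_le_of_card_ge hg (by
      rw [Nat.card_zpowers, hxl, Subgroup.card_map_of_injective (MulAut.conj g).injective, hP])
  have hNx : N = Subgroup.normalizer ((Subgroup.zpowers x : Subgroup G) : Set G) := by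
    rw [hNdef, ← hPe]
    exact Subgroup.map_equiv_normalizer_eq P (MulAut.conj g)
  have hxN : x ∈ N := hNx ▸ Subgroup.le_normalizer (Subgroup.mem_zpowers x)
  have hwN : w ∈ N := by
    rw [hNx, Subgroup.mem_normalizer_iff]
    intro y
    constructor
    · rintro ⟨i, rfl⟩
      exact ⟨-i, by show x ^ (-i) = _; rw [_root_.zpow_neg, ← _root_.inv_zpow, ← hwx, conj_zpow]⟩
    · rintro ⟨i, hi⟩
      refine ⟨-i, ?_⟩
      have e : w * x ^ (-i) * w⁻¹ = w * y * w⁻¹ := by
        rw [← hi, ← conj_zpow, hwx, _root_.inv_zpow, _root_.zpow_neg, inv_inv]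
      exact mul_left_cancel (mul_right_cancel e)
  have hdvd : 2 * l ∣ Nat.card (N ⊓ H : Subgroup G) :=
    Nat.Coprime.mul_dvd_of_dvd_of_dvd
      ((Nat.coprime_primes Nat.prime_two Fact.out).mpr (Ne.symm hl2))
      (hw2 ▸ Subgroup.orderOf_mk w (Subgroup.mem_inf.mpr ⟨hwN, hw⟩) ▸ orderOf_dvd_natCard _)
      (hxl ▸ Subgroup.orderOf_mk x (Subgroup.mem_inf.mpr ⟨hxN, hx⟩) ▸ orderOf_dvd_natCard _)
  have : N ⊓ H = N := Subgroup.eq_of_le_of_card_ge inf_le_left
    (hcard ▸ Nat.le_of_dvd Nat.card_pos hdvd)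
  exact inf_eq_left.mp this

end Conj

variable {F : Type*} [Field F] [Fintype F]

local notation "M2" => Matrix (Fin 2) (Fin 2) F
local notation "S2" => Matrix.SpecialLinearGroup (Fin 2) F
local notation "P2" => Matrix.ProjectiveSpecialLinearGroup (Fin 2) F

theorem exists_root_of_five_dvd (h : 5 ∣ Fintype.card F * (Fintype.card F ^ 2 - 1)) :
    ∃ r : F, r ^ 2 = r + 1 := by
  have : Fact (Nat.Prime 5) := ⟨Nat.prime_five⟩
  obtain ⟨x, hx⟩ := exists_prime_orderOf_dvd_card' (G := P2) 5 (five_dvd_card h)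
  exact exists_root_of_order_five hx

/-- The four-group of a tetrahedral subgroup. -/
theorem exists_klein_normal {H : Subgroup P2} (e : H ≃* alternatingGroup (Fin 4)) :
    ∃ V : Subgroup P2, IsKleinFour V ∧ V ≤ H ∧ H ≤ Subgroup.normalizer (V : Set P2) := by
  let K := alternatingGroup.kleinFour (Fin 4)
  have h4 : Nat.card (Fin 4) = 4 := by simp
  have hK := alternatingGroup.kleinFour_isKleinFour (α := Fin 4) h4
  let ψ : alternatingGroup (Fin 4) →* P2 := H.subtype.comp e.symm.toMonoidHom
  have hψ : Function.Injective ψ := H.subtype_injective.comp e.symm.injective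
  refine ⟨K.map ψ, ?_, ?_, ?_⟩
  · let f : K ≃* K.map ψ := K.equivMapOfInjective ψ hψ
    exact ⟨by rw [← Nat.card_congr f.toEquiv]; exact hK.card_four,
      by rw [← Monoid.exponent_eq_of_mulEquiv f]; exact hK.exponent_two⟩
  · rintro _ ⟨z, -, rfl⟩
    exact (e.symm z).2
  · intro h hh
    rw [Subgroup.mem_normalizer_iff]
    have hn := alternatingGroup.normal_kleinFour (α := Fin 4) h4
    have hh' : ψ (e ⟨h, hh⟩) = h := by simp [ψ]
    intro y
    constructor
    · rintro ⟨z, hz, rfl⟩
      exact ⟨_, hn.conj_mem z hz (e ⟨h, hh⟩), by rw [map_mul, map_mul, map_inv, hh']⟩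
    · rintro ⟨z, hz, hzy⟩
      refine ⟨_, hn.conj_mem z hz (e ⟨h, hh⟩)⁻¹, ?_⟩
      simp only [map_mul, map_inv, inv_inv, hh', hzy]
      group

/-- When two is not a square all four-groups are conjugate. -/
theorem klein_conj (hodd : Odd (Fintype.card F)) (hsq : ¬ IsSquare (2 : F)) (V W : Subgroup P2)
    [IsKleinFour V] [IsKleinFour W] : ∃ g : P2, W = V.map (MulAut.conj g).toMonoidHom := by
  have h2 := two_ne_zero_of_odd_card hodd
  obtain ⟨⟨x, y⟩, hp⟩ := H34.exists_pair_of_klein h2 V
  obtain ⟨r, hr⟩ := H34.exists_pair_of_klein h2 W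
  obtain ⟨hxy, hx, hy⟩ := H34.mem_pairsOf.mp hp
  have hp' : (y, x) ∈ H34.pairsOf V := H34.mem_pairsOf.mpr ⟨hxy.symm, hy, hx⟩
  rcases H34.two_classes hodd (p := (x, y)) (q := (y, x)) (r := r) hxy hxy.symm
    (H34.mem_pairsOf.mp hr).1 with h | h | h
  · exact absurd ((H34.isSquare_two_iff_swap h2 hxy).mpr h) hsq
  · exact H34.klein_conj_of_rel h2 hp hr h
  · exact H34.klein_conj_of_rel h2 hp' hr h

/-- In even characteristic tetrahedral subgroups lie in Borel subgroups. -/
theorem inBorel_of_altFour_even [CharP F 2] {H : Subgroup P2} (e : H ≃* alternatingGroup (Fin 4)) :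
    InBorel H := by
  obtain ⟨V, hV, hVH, hHV⟩ := exists_klein_normal e
  obtain ⟨⟨u, hu⟩, hne⟩ : ∃ u : V, u ≠ 1 := by
    have : Nontrivial V := Finite.one_lt_card_iff_nontrivial.mp (by rw [hV.card_four]; norm_num)
    exact exists_ne 1
  have hu1 : u ≠ 1 := fun h => hne (Subtype.ext h)
  have hinv : ∀ z ∈ V, z * z = 1 := fun z hz => (H34.klein_props V hz hz).1
  have huni : ∀ z ∈ V, z ≠ 1 → IsUni z := by
    intro z hz hz1
    obtain ⟨y, rfl⟩ := proj_surjective z
    rw [isUni_proj, trace_eq_zero_of_sq hz1 (by rw [sq]; exact hinv _ hz)]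
    rw [show (4 : F) = 2 * 2 by norm_num, CharTwo.two_eq_zero (R := F)]
    simp
  obtain ⟨g, hg⟩ := exists_conj_stdUni hu1 (huni u hu hu1)
  have hgu : g * u * g⁻¹ ≠ 1 := fun h => hu1 (conj_eq_one_iff.mp h)
  refine ⟨g, fun h hh => ?_⟩
  have hmem : h * u * h⁻¹ ∈ V := (Subgroup.mem_normalizer_iff.mp (hHV hh) u).mp hu
  have hone : h * u * h⁻¹ ≠ 1 := fun h' => hu1 (conj_eq_one_iff.mp h')
  have hcom : (g * (h * u * h⁻¹) * g⁻¹) * (g * u * g⁻¹) = (g * u * g⁻¹) * (g * (h * u * h⁻¹) * g⁻¹) := by
    have := (H34.klein_props V hmem hu).2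
    calc _ = g * (h * u * h⁻¹ * u) * g⁻¹ := by group
      _ = _ := by rw [this]; group
  -- the conjugate commutes with a unipotent element, so lies in its group
  obtain ⟨a, ha⟩ := proj_surjective (g * (h * u * h⁻¹) * g⁻¹)
  have hb : g * (h * u * h⁻¹) * g⁻¹ ∈ borel F := by
    refine mem_borel_of_conj hg hgu ?_
    rw [hcom, mul_inv_cancel_right]
    exact hg
  have hc := mem_cen_stdUni_of_commute hb hg hgu hcom
  refine mem_borel_of_conj hg hgu ?_
  have : g * h * g⁻¹ * (g * u * g⁻¹) * (g * h * g⁻¹)⁻¹ = g * (h * u * h⁻¹) * g⁻¹ := by group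
  rw [this]
  exact hc

end Cfsg.Agent.Linear.Dickson
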