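import Cfsg.Agent.Linear.Dickson.SolubilizerUni

/-!
Solubilizers in PSL_2 over a field with 2^p elements.
-/

namespace Cfsg.Agent.Linear.Dickson

open Matrix Cfsg.Agent.Linear

variable {F : Type*} [Field F] [Fintype F]

local notation "M2" => Matrix (Fin 2) (Fin 2) F
local notation "S2" => Matrix.SpecialLinearGroup (Fin 2) F
local notation "P2" => Matrix.ProjectiveSpecialLinearGroup (Fin 2) F

variable {p : ℕ}

theorem charP_of_card (hF : Fintype.card F = 2 ^ p) : CharP F 2 := by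
  have : Fact (Nat.Prime 2) := ⟨Nat.prime_two⟩
  exact charP_of_card_eq_prime_pow (f := p) hF

theorem inBorel_or_inTorus_even (hp : p.Prime) (hF : Fintype.card F = 2 ^ p) {H : Subgroup P2}
    (hH : H ≠ ⊤) : InBorel H ∨ InTorus H := by
  have := charP_of_card hF
  have : Fact (Nat.Prime 2) := ⟨Nat.prime_two⟩
  have hG := card_PSL_two_mul (F := F)
  have hd : Nat.gcd 2 (Fintype.card F - 1) = 1 := by
    rw [← Nat.coprime_iff_gcd_eq_one, Nat.prime_two.coprime_iff_not_dvd]
    have : 2 ∣ Fintype.card F := hF ▸ dvd_pow_self 2 hp.pos.ne'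
    have : 0 < Fintype.card F := Fintype.card_pos
    omega
  rw [hd, one_mul] at hG
  rcases shape 2 H with h | h | ⟨⟨f⟩⟩ | ⟨⟨f⟩⟩ | ⟨⟨f⟩⟩ | h
  · exact Or.inl h
  · exact Or.inr h
  · exact Or.inl (inBorel_of_altFour_even f)
  · exfalso
    -- an element of order four
    have hex : ∃ s : Equiv.Perm (Fin 4), s ^ 2 ≠ 1 ∧ s ^ 4 = 1 :=
      ⟨Equiv.swap 0 1 * Equiv.swap 1 2 * Equiv.swap 2 3, by decide, by decide⟩
    obtain ⟨s, hs2, hs4⟩ := hex
    obtain ⟨Y, hY⟩ := proj_surjective ((f.symm s : H) : P2)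
    have h2 : proj Y ^ 2 ≠ 1 := fun h => hs2 (by
      rw [hY, ← Subgroup.coe_pow, OneMemClass.coe_eq_one, ← map_pow, map_eq_one_iff _ f.symm.injective] at h
      exact h)
    have h4 : proj Y ^ 4 = 1 := by rw [hY, ← Subgroup.coe_pow, ← map_pow, hs4, map_one]; rfl
    refine h2 (pow_char_eq_one_of_isUni 2 (isUni_proj.mpr ?_))
    rw [trace_sq_eq_two_of_fourth h2 h4, show (4 : F) = 2 * 2 by norm_num, CharTwo.two_eq_zero (R := F),
      zero_mul]
  · exfalso
    have hc : Nat.card H = 60 := (Nat.card_congr f.toEquiv).trans card_alt_five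
    rcases hp.eq_two_or_odd' with rfl | ⟨i, rfl⟩
    · refine hH (Subgroup.eq_top_of_card_eq _ (hc.trans ?_))
      rw [hG, hF]
      norm_num
    · have hd5 : 5 ∣ Nat.card P2 := (show 5 ∣ Nat.card H by rw [hc]; norm_num).trans H.card_subgroup_dvd_card
      rw [hG, hF] at hd5
      have h1 : (2 ^ (2 * i + 1)) ^ 2 % 5 = 4 := by
        rw [← pow_mul, mul_comm, pow_mul, pow_succ, pow_mul, Nat.mul_mod, Nat.pow_mod]
        norm_num [Nat.pow_mod]
      rcases Nat.prime_five.dvd_mul.mp hd5 with h | h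
      · have : 5 ∣ (2 ^ (2 * i + 1)) ^ 2 := dvd_pow h two_ne_zero
        omega
      · omega
  · refine Or.inr (inTorus_of_card_six ?_)
    obtain ⟨v, m, hv, hm1, hvm, h⟩ := h.exists_card
    obtain ⟨j, -, rfl⟩ := (Nat.dvd_prime_pow Nat.prime_two).mp
      (show v ∣ 2 ^ p from hF ▸ hvm ▸ dvd_pow_self v (by omega))
    rw [hF, ← pow_mul] at hvm
    rcases (Nat.dvd_prime hp).mp (Dvd.intro m (Nat.pow_right_injective le_rfl hvm)) with rfl | rfl
    · norm_num at h
      exact h
    · have hm : m = 1 := by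
        have := Nat.pow_right_injective le_rfl hvm
        have := hp.pos
        nlinarith
      exfalso
      refine hH (Subgroup.eq_top_of_card_eq _ ?_)
      rw [hG, hF]
      rcases h with h | ⟨h, -⟩
      · rw [← hF, hd, one_mul] at h
        rw [h, hF]
      · exact h

theorem card_center_even (hp : p.Prime) (hF : Fintype.card F = 2 ^ p) :
    Nat.card (Subgroup.center S2) = 1 := by
  rw [card_center_two_dvd, ← Nat.coprime_iff_gcd_eq_one, Nat.prime_two.coprime_iff_not_dvd]
  have : 2 ∣ Fintype.card F := hF ▸ dvd_pow_self 2 hp.pos.ne'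
  have : 0 < Fintype.card F := Fintype.card_pos
  omega

theorem four_le_card (hp : p.Prime) (hF : Fintype.card F = 2 ^ p) : 4 ≤ Fintype.card F :=
  hF ▸ le_trans (by norm_num) (Nat.pow_le_pow_right two_pos hp.two_le)

theorem mem_solSet_upSL_even (hp : p.Prime) (hF : Fintype.card F = 2 ^ p) {a : F} (ha : a ≠ 0) (Y : S2) :
    proj Y ∈ solSet (proj (upSL a)) ↔
      (Y : M2) 1 0 = 0 ∨ ((Y : M2) 1 0 ≠ 0 ∧ ((Y : M2).trace = 0 ∨ (Y : M2).trace = a * (Y : M2) 1 0)) := by
  have := charP_of_card hF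
  have : Fact (Nat.Prime 2) := ⟨Nat.prime_two⟩
  have h4 : (4 : F) = 0 := by
    rw [show (4 : F) = 2 * 2 by norm_num, CharTwo.two_eq_zero (R := F), zero_mul]
  set x : P2 := proj (upSL a) with hx
  have hx1 : x ≠ 1 := proj_upSL_ne_one ha
  have hx2 : x * x = 1 := by rw [← sq]; exact pow_char_eq_one_of_isUni 2 (isUni_proj_upSL a)
  have hsq : ∀ Z : S2, proj Z * proj Z = 1 ↔ (Z : M2).trace = 0 := by
    intro Z
    constructor
    · intro h
      by_cases h1 : proj Z = 1
      · obtain ⟨-, -, hd⟩ := proj_eq_one_iff.mp h1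
        rw [Matrix.trace_fin_two, hd, CharTwo.add_self_eq_zero]
      · exact trace_eq_zero_of_sq h1 (by rwa [sq])
    · intro h
      rw [← sq]
      exact pow_char_eq_one_of_isUni 2 (isUni_proj.mpr (by rw [h, h4, sq, zero_mul]))
  have htr : ((upSL a * Y : S2) : M2).trace = 0 ↔ (Y : M2).trace = a * (Y : M2) 1 0 := by
    rw [trace_upSL_mul, CharTwo.add_eq_zero]
  constructor
  · intro hy
    have hxm : x ∈ Subgroup.closure ({x, proj Y} : Set P2) := Subgroup.subset_closure (Or.inl rfl)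
    have hym : proj Y ∈ Subgroup.closure ({x, proj Y} : Set P2) := Subgroup.subset_closure (Or.inr rfl)
    rcases inBorel_or_inTorus_even hp hF (ne_top_of_mem_solSet (four_le_card hp hF) hy) with h | ⟨b, hb, h⟩
    · exact Or.inl (mem_borel_proj.mp (le_borel_of_inBorel ha h hxm hym))
    · by_cases hc : (Y : M2) 1 0 = 0
      · exact Or.inl hc
      · refine Or.inr ⟨hc, ?_⟩
        rcases (sq_cases_of_inverter hb (h hxm) (not_mem_cen_of_isUni hb hx1 (isUni_proj_upSL a)) (h hym)).2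
          with e | e
        · exact Or.inl ((hsq Y).mp e)
        · rw [hx, ← map_mul] at e
          exact Or.inr (htr.mp ((hsq _).mp e))
  · rintro (h | ⟨-, h | h⟩)
    · exact mem_solSet_of_le isSolvable_borel (mem_borel_proj.mpr (by simp [upSL_coe]))
        (mem_borel_proj.mpr h)
    · exact mem_solSet_of_sq hx2 ((hsq Y).mpr h)
    · refine mul_mem_solSet_iff.mp (mem_solSet_of_sq hx2 ?_)
      rw [hx, ← map_mul]
      exact (hsq _).mpr (htr.mpr h)

theorem card_solSet_involution_even (hp : p.Prime) (hF : Fintype.card F = 2 ^ p) {x : P2}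
    (hx : orderOf x = 2) :
    Nat.card (solSet x) = 3 * Fintype.card F * (Fintype.card F - 1) := by
  have := charP_of_card hF
  have : Fact (Nat.Prime 2) := ⟨Nat.prime_two⟩
  obtain ⟨X, rfl⟩ := proj_surjective x
  have hx1 : proj X ≠ 1 := fun h => by rw [h, orderOf_one] at hx; omega
  have hu : IsUni (proj X) := isUni_proj.mpr (by
    rw [trace_eq_zero_of_sq hx1 (orderOf_dvd_iff_pow_eq_one.mp hx.dvd), show (4 : F) = 2 * 2 by norm_num,
      CharTwo.two_eq_zero (R := F)]
    simp)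
  obtain ⟨g, hg⟩ := exists_conj_stdUni hx1 hu
  obtain ⟨a, ha⟩ := exists_upSL_of_mem_cen hg
  have ha0 : a ≠ 0 := fun e => hx1 (conj_eq_one_iff.mp (by rw [← ha, e, upSL_zero, map_one]))
  have h := card_center_mul_card_set (solSet (proj (upSL a)))
  rw [card_center_even hp hF, one_mul, Nat.card_congr (Equiv.subtypeEquivRight
    (mem_solSet_upSL_even hp hF ha0))] at h
  rw [← card_solSet_conj g (proj X), ← ha, h,
    card_borel_or_trace_set (fun c τ => c ≠ 0 ∧ (τ = 0 ∨ τ = a * c)) fun _ _ h => h.1]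
  have hQ : Nat.card {ct : F × F // ct.1 ≠ 0 ∧ (ct.2 = 0 ∨ ct.2 = a * ct.1)} = Nat.card Fˣ * 2 := by
    classical
    rw [show Nat.card Fˣ * 2 = Nat.card (Fˣ × Bool) by simp [Nat.card_prod]]
    refine (Nat.card_eq_of_bijective (fun cb : Fˣ × Bool =>
      ⟨((cb.1 : F), bif cb.2 then 0 else a * (cb.1 : F)), cb.1.ne_zero, by
        cases cb.2 <;> simp⟩) ⟨?_, ?_⟩).symm
    · rintro ⟨c, b⟩ ⟨c', b'⟩ h
      have e1 : (c : F) = (c' : F) := congrArg (fun z => (z : {ct : F × F // _}).1.1) h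
      have e2 : (bif b then 0 else a * (c : F)) = bif b' then 0 else a * (c' : F) :=
        congrArg (fun z => (z : {ct : F × F // _}).1.2) h
      obtain rfl := Units.ext e1
      cases b <;> cases b' <;> simp [ha0] at e2 ⊢
    · rintro ⟨⟨c, t⟩, hc, h⟩
      rcases h with h | h
      · exact ⟨(Units.mk0 c hc, true), Subtype.ext (Prod.ext rfl h.symm)⟩
      · exact ⟨(Units.mk0 c hc, false), Subtype.ext (Prod.ext rfl h.symm)⟩
  rw [hQ, Nat.card_units, Nat.card_eq_fintype_card]
  ring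

end Cfsg.Agent.Linear.Dickson
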