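import Cfsg.Agent.Linear.Dickson.SolubilizerUni
import Cfsg.Agent.H99.SLTwo

/-!
Solubilizers in PSL_2 over a field with 3^p elements, p odd.
-/

namespace Cfsg.Agent.Linear.Dickson

open Matrix Cfsg.Agent.Linear

variable {F : Type*} [Field F] [Fintype F]

local notation "M2" => Matrix (Fin 2) (Fin 2) F
local notation "S2" => Matrix.SpecialLinearGroup (Fin 2) F
local notation "P2" => Matrix.ProjectiveSpecialLinearGroup (Fin 2) F

variable {p : ℕ}

theorem charP_three_of_card (hF : Fintype.card F = 3 ^ p) : CharP F 3 := by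
  have : Fact (Nat.Prime 3) := ⟨Nat.prime_three⟩
  exact charP_of_card_eq_prime_pow (f := p) hF

theorem three_eq_zero_of_card (hF : Fintype.card F = 3 ^ p) : (3 : F) = 0 := by
  have := charP_three_of_card hF
  exact_mod_cast CharP.cast_eq_zero F 3

theorem card_mod_three_pow (hodd : Odd p) (hF : Fintype.card F = 3 ^ p) :
    Fintype.card F % 4 = 3 ∧ (Fintype.card F ^ 2 - 1) % 16 = 8 ∧ (Fintype.card F ^ 2 - 1) % 5 = 3 ∧
      Fintype.card F % 3 = 0 := by
  obtain ⟨i, rfl⟩ := hodd
  have h4 : (3 ^ (2 * i + 1)) % 4 = 3 := by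
    rw [pow_succ, pow_mul, Nat.mul_mod, Nat.pow_mod]
    norm_num
  have h16 : (3 ^ (2 * i + 1)) ^ 2 % 16 = 9 := by
    rw [← pow_mul, mul_comm, pow_mul, pow_succ, pow_mul, Nat.mul_mod, Nat.pow_mod]
    norm_num
  have h5 : (3 ^ (2 * i + 1)) ^ 2 % 5 = 4 := by
    rw [← pow_mul, mul_comm, pow_mul, pow_succ, pow_mul, Nat.mul_mod, Nat.pow_mod]
    norm_num [Nat.pow_mod]
  have h3 : 3 ^ (2 * i + 1) % 3 = 0 := by rw [pow_succ]; omega
  rw [hF]
  generalize 3 ^ (2 * i + 1) = n at h4 h16 h5 h3 ⊢
  omega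

theorem card_center_three (hodd : Odd p) (hF : Fintype.card F = 3 ^ p) :
    Nat.card (Subgroup.center S2) = 2 := by
  rw [card_center_two_dvd, Nat.gcd_eq_left]
  have := (card_mod_three_pow hodd hF).1
  omega

theorem not_isSquare_neg_one_three (hodd : Odd p) (hF : Fintype.card F = 3 ^ p) :
    ∀ t : F, t ^ 2 ≠ -1 := by
  intro t ht
  exact FiniteField.isSquare_neg_one_iff.mp ⟨t, by rw [← ht]; ring⟩ (card_mod_three_pow hodd hF).1

theorem sq_or_cube_eq_one (hodd : Odd p) (hF : Fintype.card F = 3 ^ p) {y : P2} (h : y ^ 12 = 1) :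
    y * y = 1 ∨ y ^ 3 = 1 := by
  have := charP_three_of_card hF
  have : Fact (Nat.Prime 3) := ⟨Nat.prime_three⟩
  by_cases hu : IsUni y
  · exact Or.inr (pow_char_eq_one_of_isUni 3 hu)
  · left
    by_contra h2
    have hc : (orderOf y).Coprime 3 := by
      rw [Nat.coprime_comm, Nat.prime_three.coprime_iff_not_dvd]
      exact fun h3 => coprime_card_cen 3 hu
        (h3.trans (Subgroup.orderOf_mk y (mem_cen_self y) ▸ orderOf_dvd_natCard _))
    have h4 : y ^ 4 = 1 := orderOf_dvd_iff_pow_eq_one.mp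
      (hc.dvd_of_dvd_mul_left (show orderOf y ∣ 3 * 4 from orderOf_dvd_of_pow_eq_one h))
    obtain ⟨Y, rfl⟩ := proj_surjective y
    refine not_isSquare_neg_one_three hodd hF _ ((trace_sq_eq_two_of_fourth (by rwa [sq]) h4).trans ?_)
    linear_combination three_eq_zero_of_card hF

theorem inBorel_inTorus_or_twelve (hp : p.Prime) (hodd : Odd p) (hF : Fintype.card F = 3 ^ p)
    {H : Subgroup P2} (hH : H ≠ ⊤) : InBorel H ∨ InTorus H ∨ Nat.card H = 12 := by
  have := charP_three_of_card hF
  have : Fact (Nat.Prime 3) := ⟨Nat.prime_three⟩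
  obtain ⟨h4, h16, h5, h3⟩ := card_mod_three_pow hodd hF
  have hG := card_PSL_two_mul (F := F)
  have hd : Nat.gcd 2 (Fintype.card F - 1) = 2 := Nat.gcd_eq_left (by omega)
  rw [hd] at hG
  rcases shape 3 H with h | h | ⟨⟨f⟩⟩ | ⟨⟨f⟩⟩ | ⟨⟨f⟩⟩ | h
  · exact Or.inl h
  · exact Or.inr (Or.inl h)
  · exact Or.inr (Or.inr ((Nat.card_congr f.toEquiv).trans card_alt_four))
  · exfalso
    have hc : 16 ∣ 2 * Nat.card P2 := by
      have : 8 ∣ Nat.card P2 := (show 8 ∣ Nat.card H by
        rw [Nat.card_congr f.toEquiv, card_sym_four]; norm_num).trans H.card_subgroup_dvd_card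
      omega
    rw [hG] at hc
    have := Nat.Coprime.dvd_of_dvd_mul_left (show Nat.Coprime 16 (Fintype.card F) by
      rw [hF]; exact Nat.Coprime.pow_right p (by norm_num)) hc
    omega
  · exfalso
    have hc : 5 ∣ 2 * Nat.card P2 :=
      Dvd.dvd.mul_left ((show 5 ∣ Nat.card H by
        rw [Nat.card_congr f.toEquiv, card_alt_five]; norm_num).trans H.card_subgroup_dvd_card) 2
    rw [hG] at hc
    have := Nat.Coprime.dvd_of_dvd_mul_left (show Nat.Coprime 5 (Fintype.card F) by
      rw [hF]; exact Nat.Coprime.pow_right p (by norm_num)) hc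
    omega
  · obtain ⟨v, m, hv, hm1, hvm, h⟩ := h.exists_card
    obtain ⟨j, -, rfl⟩ := (Nat.dvd_prime_pow Nat.prime_three).mp
      (show v ∣ 3 ^ p from hF ▸ hvm ▸ dvd_pow_self v (by omega))
    rw [hF, ← pow_mul] at hvm
    have hjm := Nat.pow_right_injective (by norm_num : 2 ≤ 3) hvm
    rcases (Nat.dvd_prime hp).mp (Dvd.intro m hjm) with rfl | rfl
    · norm_num at h
      rcases h with h | ⟨-, h⟩
      · exact Or.inr (Or.inr (by omega))
      · rw [one_mul] at hjm
        subst hjm
        exact absurd h (Nat.not_even_iff_odd.mpr hodd)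
    · have hm : m = 1 := by
        have := hp.pos
        nlinarith
      exfalso
      subst hm
      rw [← hF] at h
      rcases h with h | ⟨-, h⟩
      · rw [hd, ← hG] at h
        exact hH (Subgroup.eq_top_of_card_eq _ (by omega))
      · exact absurd (h (Nat.odd_iff.mpr (by omega))) (by decide)

theorem pow_twelve_of_mem {H : Subgroup P2} (h : Nat.card H = 12) {y : P2} (hy : y ∈ H) : y ^ 12 = 1 :=
  orderOf_dvd_iff_pow_eq_one.mp (h ▸ Subgroup.orderOf_mk y hy ▸ orderOf_dvd_natCard _)

theorem four_le_card_three (hp : p.Prime) (hF : Fintype.card F = 3 ^ p) : 4 ≤ Fintype.card F :=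
  hF ▸ le_trans (by norm_num) (Nat.pow_le_pow_right (by norm_num : 0 < 3) hp.two_le)

theorem trace_cube_of_cases {Y : S2} (h3 : (3 : F) = 0) (hns : proj Y ≠ 1)
    (h : proj Y * proj Y = 1 ∨ proj Y ^ 3 = 1) : (Y : M2).trace ^ 3 = (Y : M2).trace := by
  rcases h with h | h
  · rw [trace_eq_zero_of_sq hns (by rwa [sq])]
    ring
  · have := (trace_sq_eq_one_iff_cube h3).mp h
    linear_combination (Y : M2).trace * this

theorem mem_solSet_upSL_three (hp : p.Prime) (hodd : Odd p) (hF : Fintype.card F = 3 ^ p) {a : F}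
    (ha : a ≠ 0) (Y : S2) :
    proj Y ∈ solSet (proj (upSL a)) ↔ (Y : M2) 1 0 = 0 ∨ ((Y : M2) 1 0 ≠ 0 ∧
      (a * (Y : M2) 1 0) ^ 3 = a * (Y : M2) 1 0 ∧ (Y : M2).trace ^ 3 = (Y : M2).trace) := by
  have := charP_three_of_card hF
  have : Fact (Nat.Prime 3) := ⟨Nat.prime_three⟩
  have h3 := three_eq_zero_of_card hF
  set x : P2 := proj (upSL a) with hx
  have hx1 : x ≠ 1 := proj_upSL_ne_one ha
  have hxB : x ∈ borel F := mem_borel_proj.mpr (by simp [upSL_coe])
  constructor
  · intro hy
    by_cases hc : (Y : M2) 1 0 = 0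
    · exact Or.inl hc
    have hxm : x ∈ Subgroup.closure ({x, proj Y} : Set P2) := Subgroup.subset_closure (Or.inl rfl)
    have hym : proj Y ∈ Subgroup.closure ({x, proj Y} : Set P2) := Subgroup.subset_closure (Or.inr rfl)
    rcases inBorel_inTorus_or_twelve hp hodd hF (ne_top_of_mem_solSet (four_le_card_three hp hF) hy) with
      h | ⟨b, hb, h⟩ | h
    · exact absurd (mem_borel_proj.mp (le_borel_of_inBorel ha h hxm hym)) hc
    · exfalso
      have hsq := (sq_cases_of_inverter hb (h hxm) (not_mem_cen_of_isUni hb hx1 (isUni_proj_upSL a))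
        (h hym)).1
      have hcube : x ^ 3 = 1 := pow_char_eq_one_of_isUni 3 (isUni_proj_upSL a)
      apply hx1
      calc x = (x * x)⁻¹ * x ^ 3 := by group
        _ = 1 := by rw [hsq, hcube, inv_one, one_mul]
    · have hn1 : proj Y ≠ 1 := fun e => hc (proj_eq_one_iff.mp e).2.1
      have hn2 : proj (upSL a * Y) ≠ 1 := fun e => hc (by
        have := (proj_eq_one_iff.mp e).2.1
        simpa [SL_mul_entries, upSL_coe] using this)
      have t1 := trace_cube_of_cases h3 hn1 (sq_or_cube_eq_one hodd hF (pow_twelve_of_mem h hym))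
      have t2 := trace_cube_of_cases h3 hn2 (sq_or_cube_eq_one hodd hF (pow_twelve_of_mem h
        (by rw [map_mul]; exact mul_mem hxm hym)))
      rw [trace_upSL_mul] at t2
      refine Or.inr ⟨hc, ?_, t1⟩
      set τ := (Y : M2).trace
      set e := a * (Y : M2) 1 0
      linear_combination t2 - t1 - (τ ^ 2 * e + τ * e ^ 2) * h3
  · rintro (h | ⟨hc, he, ht⟩)
    · exact mem_solSet_of_le isSolvable_borel hxB (mem_borel_proj.mpr h)
    obtain ⟨ι⟩ := exists_ringHom_zmod (F := F) 3
    obtain ⟨e, he'⟩ := mem_range_of_pow_card ι (by rwa [ZMod.card] : (a * (Y : M2) 1 0) ^ Fintype.card (ZMod 3) = _)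
    obtain ⟨t, ht'⟩ := mem_range_of_pow_card ι (by rwa [ZMod.card] : (Y : M2).trace ^ Fintype.card (ZMod 3) = _)
    have he0 : e ≠ 0 := fun h0 => mul_ne_zero ha hc (by rw [← he', h0, map_zero])
    set s := -(Y : M2) 0 0 / (Y : M2) 1 0 with hs
    let w : Fˣ := Units.mk0 a ha
    have hmemY : proj (upSL s * Y * (upSL s)⁻¹) ∈ pslSub ι w := by
      let g : Matrix.SpecialLinearGroup (Fin 2) (ZMod 3) :=
        ⟨!![0, -e⁻¹; e, t], by simp [Matrix.det_fin_two_of, he0]⟩
      have hg : (g : Matrix (Fin 2) (Fin 2) (ZMod 3)) = !![0, -e⁻¹; e, t] := rfl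
      have hd := SL_det_two Y
      refine ⟨g, congrArg proj ?_⟩
      rw [eq_mul_inv_iff_mul_eq]
      apply SL_ext_two <;>
        simp [SL_mul_entries, scHom_coe, scMat, hg, upSL_coe, he', ht', w, Matrix.trace_fin_two, hs] <;>
        field_simp
      · ring
      · linear_combination hd
      · ring
    have hmemx : x ∈ pslSub ι w :=
      ⟨upSL 1, congrArg proj (by apply SL_ext_two <;> simp [scHom_coe, scMat, upSL_coe, w])⟩
    have hconj : proj (upSL s) * x * (proj (upSL s))⁻¹ = x := by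
      rw [mul_inv_eq_iff_eq_mul, hx, ← map_mul, ← map_mul, ← upSL_add, ← upSL_add, add_comm]
    have hsolv : Group.IsSolvable (pslSub ι w) :=
      Cfsg.Agent.Unitary.isSolvable_of_card_dvd_24 (m := Nat.card (pslSub ι w)) rfl (by
        have := card_pslSub_mul ι w
        rw [ZMod.card] at this
        norm_num at this
        exact ⟨2, by omega⟩)
    have hsol : proj (upSL s * Y * (upSL s)⁻¹) ∈ solSet x := mem_solSet_of_le hsolv hmemx hmemY
    have := conj_mem_solSet (proj (upSL s))⁻¹ hsol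
    rw [show (proj (upSL s))⁻¹ * x * (proj (upSL s))⁻¹⁻¹ = x by
      rw [inv_inv]
      calc (proj (upSL s))⁻¹ * x * proj (upSL s)
          = (proj (upSL s))⁻¹ * (proj (upSL s) * x * (proj (upSL s))⁻¹) * proj (upSL s) := by rw [hconj]
        _ = x := by group] at this
    simpa [map_mul, mul_assoc] using this

theorem card_solSet_three (hp : p.Prime) (hodd : Odd p) (hF : Fintype.card F = 3 ^ p) {x : P2}
    (hx : orderOf x = 3) : 2 * Nat.card (solSet x) = Fintype.card F * (Fintype.card F + 5) := by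
  have := charP_three_of_card hF
  have : Fact (Nat.Prime 3) := ⟨Nat.prime_three⟩
  have hx1 : x ≠ 1 := fun h => by rw [h, orderOf_one] at hx; omega
  have hu : IsUni x := by
    by_contra hu
    exact coprime_card_cen 3 hu (hx.symm.dvd.trans
      (Subgroup.orderOf_mk x (mem_cen_self x) ▸ orderOf_dvd_natCard _))
  obtain ⟨g, hg⟩ := exists_conj_stdUni hx1 hu
  obtain ⟨a, ha⟩ := exists_upSL_of_mem_cen hg
  have ha0 : a ≠ 0 := fun e => hx1 (conj_eq_one_iff.mp (by rw [← ha, e, upSL_zero, map_one]))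
  have h := card_center_mul_card_set (solSet (proj (upSL a)))
  rw [card_center_three hodd hF, Nat.card_congr (Equiv.subtypeEquivRight
    (mem_solSet_upSL_three hp hodd hF ha0)), card_borel_or_trace_set
    (fun c τ => c ≠ 0 ∧ (a * c) ^ 3 = a * c ∧ τ ^ 3 = τ) fun _ _ h => h.1] at h
  rw [← card_solSet_conj g x, ← ha, h]
  obtain ⟨ι⟩ := exists_ringHom_zmod (F := F) 3
  have hpow : ∀ e : ZMod 3, ι e ^ 3 = ι e := fun e => by rw [← map_pow, ZMod.pow_card]
  have hQ : Nat.card {ct : F × F // ct.1 ≠ 0 ∧ (a * ct.1) ^ 3 = a * ct.1 ∧ ct.2 ^ 3 = ct.2} = 6 := by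
    rw [show (6 : ℕ) = Nat.card ((ZMod 3)ˣ × ZMod 3) by
      rw [Nat.card_prod, Nat.card_units, Nat.card_zmod]]
    refine (Nat.card_eq_of_bijective (fun et : (ZMod 3)ˣ × ZMod 3 =>
      ⟨(ι (et.1 : ZMod 3) / a, ι et.2), div_ne_zero ((map_ne_zero ι).mpr et.1.ne_zero) ha0,
        by rw [mul_div_cancel₀ _ ha0]; exact hpow _, hpow _⟩) ⟨?_, ?_⟩).symm
    · intro u v h
      have e1 : ι (u.1 : ZMod 3) / a = ι (v.1 : ZMod 3) / a :=
        congrArg (fun z => (z : {ct : F × F // _}).1.1) h
      have e2 : ι u.2 = ι v.2 := congrArg (fun z => (z : {ct : F × F // _}).1.2) h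
      exact Prod.ext (Units.ext (ι.injective ((div_left_inj' ha0).mp e1))) (ι.injective e2)
    · rintro ⟨⟨c, τ⟩, hc, he, ht⟩
      obtain ⟨e, he'⟩ := mem_range_of_pow_card ι (by rwa [ZMod.card] : (a * c) ^ Fintype.card (ZMod 3) = _)
      obtain ⟨t, ht'⟩ := mem_range_of_pow_card ι (by rwa [ZMod.card] : τ ^ Fintype.card (ZMod 3) = _)
      have he0 : e ≠ 0 := fun h0 => mul_ne_zero ha0 hc (by rw [← he', h0, map_zero])
      exact ⟨(Units.mk0 e he0, t), Subtype.ext (Prod.ext (by simp [he', ha0]) ht')⟩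
  rw [hQ]
  have : 1 ≤ Fintype.card F := Fintype.card_pos
  obtain ⟨k, hk⟩ := Nat.exists_eq_add_of_le this
  rw [hk, Nat.add_sub_cancel_left]
  ring

section Involution

theorem compSL_zero_mul_trace (Y : S2) :
    ((compSL (0 : F) * Y : S2) : M2).trace = (Y : M2) 0 1 - (Y : M2) 1 0 := by
  rw [Matrix.trace_fin_two, SL_mul_entries, SL_mul_entries]
  simp [compSL_coe]
  ring

theorem mem_centralizer_compSL_zero {Y : S2} : Y ∈ Subgroup.centralizer ({compSL (0 : F)} : Set S2) ↔
    (Y : M2) 0 0 = (Y : M2) 1 1 ∧ (Y : M2) 0 1 = -(Y : M2) 1 0 := by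
  rw [Subgroup.mem_centralizer_singleton_iff]
  constructor
  · intro h
    have e1 := congrArg (fun z : S2 => (z : M2) 0 0) h
    have e2 := congrArg (fun z : S2 => (z : M2) 1 0) h
    simp [SL_mul_entries, compSL_coe] at e1 e2
    exact ⟨by first | exact e2.symm | exact e2, by first | exact e1 | linear_combination e1 | linear_combination -e1⟩
  · rintro ⟨h1, h2⟩
    apply SL_ext_two <;> simp [SL_mul_entries, compSL_coe, h1, h2]

theorem sq_cases_trace {Y : S2} (h : proj Y * proj Y = 1) :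
    (Y : M2).trace = 0 ∨ proj Y = 1 := by
  by_cases h1 : proj Y = 1
  · exact Or.inr h1
  · exact Or.inl (trace_eq_zero_of_sq h1 (by rwa [sq]))

omit [Fintype F] in
theorem proj_sq_of_trace_zero {Y : S2} (h : (Y : M2).trace = 0) : proj Y * proj Y = 1 := by
  rw [← map_mul, proj_eq_one_iff, Matrix.SpecialLinearGroup.coe_mul, SL_sq_eq, h]
  simp [IsScalarTwo]

theorem mem_solSet_compSL_zero (hp : p.Prime) (hodd : Odd p) (hF : Fintype.card F = 3 ^ p) (Y : S2) :
    proj Y ∈ solSet (proj (compSL (0 : F))) ↔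
      (((Y : M2).trace = 0 ∨ (Y : M2) 0 1 = (Y : M2) 1 0) ∨
        ((Y : M2) 0 0 = (Y : M2) 1 1 ∧ (Y : M2) 0 1 = -(Y : M2) 1 0)) ∨
      ((Y : M2).trace ^ 2 = 1 ∧ ((Y : M2) 0 1 - (Y : M2) 1 0) ^ 2 = 1) := by
  have := charP_three_of_card hF
  have : Fact (Nat.Prime 3) := ⟨Nat.prime_three⟩
  have h3 := three_eq_zero_of_card hF
  set J : S2 := compSL 0 with hJ
  set x : P2 := proj J with hx
  have hu : ¬ IsUni x := by
    rw [hx, isUni_proj, hJ, trace_compSL]
    intro h
    exact one_ne_zero (α := F) (by linear_combination -h - h3)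
  have hx1 : x ≠ 1 := ne_one_of_not_isUni hu
  have hxx : x * x = 1 := proj_sq_of_trace_zero (by rw [hJ, trace_compSL])
  have hcenY : proj Y ∈ cen x ↔ (Y : M2) 0 0 = (Y : M2) 1 1 ∧ (Y : M2) 0 1 = -(Y : M2) 1 0 := by
    rw [hx, mem_cen_proj, hJ, mem_centralizer_compSL_zero]
  have hA : proj Y * proj Y = 1 → ((Y : M2).trace = 0 ∨ (Y : M2) 0 1 = (Y : M2) 1 0) ∨
      ((Y : M2) 0 0 = (Y : M2) 1 1 ∧ (Y : M2) 0 1 = -(Y : M2) 1 0) := by
    intro h
    rcases sq_cases_trace h with e | e
    · exact Or.inl (Or.inl e)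
    · exact Or.inr (hcenY.mp (e ▸ one_mem _))
  have hB : x * proj Y * (x * proj Y) = 1 → ((Y : M2).trace = 0 ∨ (Y : M2) 0 1 = (Y : M2) 1 0) ∨
      ((Y : M2) 0 0 = (Y : M2) 1 1 ∧ (Y : M2) 0 1 = -(Y : M2) 1 0) := by
    intro h
    rw [hx, ← map_mul] at h
    rcases sq_cases_trace h with e | e
    · rw [hJ, compSL_zero_mul_trace, sub_eq_zero] at e
      exact Or.inl (Or.inr e)
    · rw [map_mul] at e
      exact Or.inr (hcenY.mp ((inv_eq_of_mul_eq_one_right e) ▸ inv_mem (mem_cen_self x)))
  constructor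
  · intro hy
    have hxm : x ∈ Subgroup.closure ({x, proj Y} : Set P2) := Subgroup.subset_closure (Or.inl rfl)
    have hym : proj Y ∈ Subgroup.closure ({x, proj Y} : Set P2) := Subgroup.subset_closure (Or.inr rfl)
    rcases inBorel_inTorus_or_twelve hp hodd hF (ne_top_of_mem_solSet (four_le_card_three hp hF) hy) with
      h | ⟨b, hb, h⟩ | h
    · exfalso
      have h2 : 2 ∣ Nat.card (borel F) := by
        have he : orderOf x = 2 := orderOf_eq_prime (by rw [sq, hxx]) hx1
        have hd : orderOf x ∣ Nat.card (borel F) :=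
          (Subgroup.orderOf_mk x hxm ▸ orderOf_dvd_natCard _).trans h.card_dvd
        exact he.symm.dvd.trans hd
      have hB := card_borel (F := F)
      rw [← card_center_two_dvd, card_center_three hodd hF] at hB
      obtain ⟨h4, -⟩ := card_mod_three_pow hodd hF
      have : 4 ∣ Fintype.card F * (Fintype.card F - 1) := hB ▸ Nat.mul_dvd_mul_left 2 h2
      have := (show Nat.Coprime 4 (Fintype.card F) by
        rw [hF]; exact Nat.Coprime.pow_right p (by norm_num)).dvd_of_dvd_mul_left this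
      omega
    · left
      by_cases hxc : x ∈ cen b
      · have hN := h hym
        rw [← cen_eq_of_mem (ne_one_of_not_isUni hb) hx1 hxc] at hN
        rcases normalizer_cases hu (Subgroup.mem_normalizer_iff.mp hN) with e | ⟨e, -⟩
        · exact Or.inr (hcenY.mp e)
        · exact hA e
      · exact (sq_cases_of_inverter hb (h hxm) hxc (h hym)).2.elim hA hB
    · rcases sq_or_cube_eq_one hodd hF (pow_twelve_of_mem h hym) with e | e
      · exact Or.inl (hA e)
      rcases sq_or_cube_eq_one hodd hF (pow_twelve_of_mem h (mul_mem hxm hym)) with e' | e'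
      · exact Or.inl (hB e')
      refine Or.inr ⟨(trace_sq_eq_one_iff_cube h3).mp e, ?_⟩
      rw [hx, ← map_mul] at e'
      have := (trace_sq_eq_one_iff_cube h3).mp e'
      rwa [hJ, compSL_zero_mul_trace] at this
  · rintro (((h | h) | h) | ⟨h1, h2⟩)
    · exact mem_solSet_of_sq hxx (proj_sq_of_trace_zero h)
    · refine mul_mem_solSet_iff.mp (mem_solSet_of_sq hxx ?_)
      rw [hx, ← map_mul]
      exact proj_sq_of_trace_zero (by rw [hJ, compSL_zero_mul_trace, h, sub_self])
    · exact mem_solSet_of_le (InTorus.isSolvable ⟨x, hu, le_rfl⟩)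
        (Subgroup.le_normalizer (mem_cen_self x)) (Subgroup.le_normalizer (hcenY.mpr h))
    · refine mem_solSet_of_two_three_three hxx ?_ ?_
      · rw [← sq, ← pow_succ]
        exact (trace_sq_eq_one_iff_cube h3).mpr h1
      · rw [← sq, ← pow_succ, hx, ← map_mul]
        exact (trace_sq_eq_one_iff_cube h3).mpr (by rw [hJ, compSL_zero_mul_trace]; exact h2)

theorem card_circle (hodd : Odd p) (hF : Fintype.card F = 3 ^ p) :
    Nat.card {rs : F × F // rs.1 ^ 2 + rs.2 ^ 2 = 1} = Fintype.card F + 1 := by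
  have hm1 := not_isSquare_neg_one_three hodd hF
  have h3 := three_eq_zero_of_card hF
  rw [← card_centralizer_nonsplit_SL (g := compSL (0 : F))
    (by rw [trace_compSL]; intro h; exact one_ne_zero (α := F) (by linear_combination -h - h3))
    (fun c hc => hm1 c (by rw [trace_compSL] at hc; linear_combination hc))]
  refine Nat.card_congr
    { toFun := fun rs => ⟨⟨!![rs.1.1, -rs.1.2; rs.1.2, rs.1.1], by
        simp [Matrix.det_fin_two_of]; linear_combination rs.2⟩, mem_centralizer_compSL_zero.mpr (by simp)⟩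
      invFun := fun Y => ⟨((Y.1 : M2) 0 0, (Y.1 : M2) 1 0), by
        obtain ⟨h1, h2⟩ := mem_centralizer_compSL_zero.mp Y.2
        have hd := SL_det_two Y.1
        rw [h2, ← h1] at hd
        show _ ^ 2 + _ ^ 2 = (1 : F)
        linear_combination hd⟩
      left_inv := fun rs => rfl
      right_inv := fun Y => Subtype.ext (by
        obtain ⟨h1, h2⟩ := mem_centralizer_compSL_zero.mp Y.2
        apply SL_ext_two <;> simp [h1, h2]) }

theorem card_circle_neg (hodd : Odd p) (hF : Fintype.card F = 3 ^ p) :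
    Nat.card {rs : F × F // rs.1 ^ 2 + rs.2 ^ 2 = -1} = Fintype.card F + 1 := by
  obtain ⟨α, β, hab⟩ : ∃ α β : F, α ^ 2 + β ^ 2 = -1 := by
    obtain ⟨a, c, h⟩ := exists_conic_point' (K := F) (by
      intro h2; exact one_ne_zero (α := F) (by linear_combination three_eq_zero_of_card hF - h2)) 0 0
    exact ⟨a, c, by linear_combination h⟩
  rw [← card_circle hodd hF]
  let e : F × F ≃ F × F :=
    { toFun := fun rs => (α * rs.1 - β * rs.2, β * rs.1 + α * rs.2)
      invFun := fun rs => (-(α * rs.1 + β * rs.2), -(α * rs.2 - β * rs.1))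
      left_inv := fun rs => by
        apply Prod.ext <;> dsimp only
        · linear_combination -rs.1 * hab
        · linear_combination -rs.2 * hab
      right_inv := fun rs => by
        apply Prod.ext <;> dsimp only
        · linear_combination -rs.1 * hab
        · linear_combination -rs.2 * hab }
  refine (Nat.card_congr (Equiv.subtypeEquiv e fun rs => ?_)).symm
  show rs.1 ^ 2 + rs.2 ^ 2 = 1 ↔ (α * rs.1 - β * rs.2) ^ 2 + (β * rs.1 + α * rs.2) ^ 2 = -1
  rw [show (α * rs.1 - β * rs.2) ^ 2 + (β * rs.1 + α * rs.2) ^ 2 = -(rs.1 ^ 2 + rs.2 ^ 2) by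
    linear_combination (rs.1 ^ 2 + rs.2 ^ 2) * hab, neg_inj]

theorem card_solSet_involution_three (hp : p.Prime) (hodd : Odd p) (hF : Fintype.card F = 3 ^ p) {x : P2}
    (hx : orderOf x = 2) : Nat.card (solSet x) = Fintype.card F * (Fintype.card F + 1) := by
  classical
  have := charP_three_of_card hF
  have h3 := three_eq_zero_of_card hF
  obtain ⟨hq4, -⟩ := card_mod_three_pow hodd hF
  have hm1 := not_isSquare_neg_one_three hodd hF
  have h20 : (2 : F) ≠ 0 := fun h => one_ne_zero (α := F) (by linear_combination h3 - h)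
  obtain ⟨X, rfl⟩ := proj_surjective x
  have hX1 : proj X ≠ 1 := fun h => by rw [h, orderOf_one] at hx; omega
  have htX := trace_eq_zero_of_sq hX1 (orderOf_dvd_iff_pow_eq_one.mp hx.dvd)
  obtain ⟨P, hP, hXP⟩ := H99.exists_det_one_conj_companion (by omega) (X : M2) X.2
    (by rw [htX]; intro h; exact one_ne_zero (α := F) (by linear_combination -h - h3))
  rw [htX] at hXP
  let P' : S2 := ⟨P, hP⟩
  have hconj : (proj P')⁻¹ * proj X * (proj P')⁻¹⁻¹ = proj (compSL (0 : F)) := by
    rw [inv_inv, mul_assoc, inv_mul_eq_iff_eq_mul, ← map_mul, ← map_mul]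
    congr 1
    exact Subtype.ext hXP
  rw [← card_solSet_conj (proj P')⁻¹ (proj X), hconj]
  have hcount := card_center_mul_card_set (solSet (proj (compSL (0 : F))))
  rw [card_center_three hodd hF, Nat.card_congr (Equiv.subtypeEquivRight
    (mem_solSet_compSL_zero hp hodd hF))] at hcount
  let A : Set S2 := {Y | (Y : M2).trace = 0}
  let B : Set S2 := {Y | (Y : M2) 0 1 = (Y : M2) 1 0}
  let C : Set S2 := {Y | (Y : M2) 0 0 = (Y : M2) 1 1 ∧ (Y : M2) 0 1 = -(Y : M2) 1 0}
  let D : Set S2 := {Y | (Y : M2).trace ^ 2 = 1 ∧ ((Y : M2) 0 1 - (Y : M2) 1 0) ^ 2 = 1}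
  have hsum : 2 * Nat.card (solSet (proj (compSL (0 : F)))) = ((A ∪ B ∪ C) ∪ D).ncard :=
    hcount.trans (Nat.card_coe_set_eq ((A ∪ B ∪ C) ∪ D))
  have cA : A.ncard = Fintype.card F * (Fintype.card F - 1) := by
    rw [← Nat.card_coe_set_eq]
    rw [show Nat.card A = Nat.card {Y : S2 // (Y : M2) 1 0 ≠ 0 ∧ (Y : M2).trace = 0} from
      Nat.card_congr (Equiv.subtypeEquivRight fun Y => ⟨fun h => ⟨fun hc => by
        have hd := SL_det_two Y
        have h' : (Y : M2).trace = 0 := h
        rw [Matrix.trace_fin_two] at h'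
        rw [hc, mul_zero, sub_zero] at hd
        exact hm1 ((Y : M2) 0 0) (by linear_combination ((Y : M2) 0 0) * h' - hd), h⟩, fun h => h.2⟩)]
    rw [card_trace_set (fun c τ => c ≠ 0 ∧ τ = 0) fun _ _ h => h.1, mul_comm (Fintype.card F),
      show Nat.card {ct : F × F // ct.1 ≠ 0 ∧ ct.2 = 0} = Nat.card Fˣ from Nat.card_congr
        { toFun := fun z => Units.mk0 z.1.1 z.2.1
          invFun := fun c => ⟨((c : F), 0), c.ne_zero, rfl⟩
          left_inv := fun z => Subtype.ext (Prod.ext rfl z.2.2.symm)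
          right_inv := fun c => Units.ext rfl }, Nat.card_units, Nat.card_eq_fintype_card]
  have cB : B.ncard = Fintype.card F * (Fintype.card F - 1) := by
    rw [← cA, ← Nat.card_coe_set_eq, ← Nat.card_coe_set_eq]
    exact Nat.card_congr (Equiv.subtypeEquiv (Equiv.mulLeft (compSL (0 : F))) fun Y => by
      show _ = _ ↔ Matrix.trace _ = 0
      rw [Equiv.coe_mulLeft, compSL_zero_mul_trace, sub_eq_zero])
  have cAB : (A ∩ B).ncard = Fintype.card F + 1 := by
    rw [← card_circle_neg hodd hF, ← Nat.card_coe_set_eq]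
    exact Nat.card_congr
      { toFun := fun Y => ⟨((Y.1 : M2) 0 0, (Y.1 : M2) 1 0), by
          have hd := SL_det_two Y.1
          have h1 : (Y.1 : M2).trace = 0 := Y.2.1
          have h2 : (Y.1 : M2) 0 1 = (Y.1 : M2) 1 0 := Y.2.2
          rw [Matrix.trace_fin_two] at h1
          show _ ^ 2 + _ ^ 2 = (-1 : F)
          linear_combination -hd + (Y.1 : M2) 0 0 * h1 - (Y.1 : M2) 1 0 * h2⟩
        invFun := fun rs => ⟨⟨!![rs.1.1, rs.1.2; rs.1.2, -rs.1.1], by
          simp [Matrix.det_fin_two_of]; linear_combination -rs.2⟩,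
          ⟨show Matrix.trace _ = 0 by simp [Matrix.trace_fin_two], show _ = _ by simp⟩⟩
        left_inv := fun Y => Subtype.ext (by
          have h1 : (Y.1 : M2).trace = 0 := Y.2.1
          have h2 : (Y.1 : M2) 0 1 = (Y.1 : M2) 1 0 := Y.2.2
          rw [Matrix.trace_fin_two] at h1
          apply SL_ext_two <;> simp [h2]
          linear_combination -h1)
        right_inv := fun rs => rfl }
  have cC : C.ncard = Fintype.card F + 1 := by
    rw [← card_circle hodd hF, ← Nat.card_coe_set_eq]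
    exact Nat.card_congr
      { toFun := fun Y => ⟨((Y.1 : M2) 0 0, (Y.1 : M2) 1 0), by
          have hd := SL_det_two Y.1
          obtain ⟨h1, h2⟩ := Y.2
          show _ ^ 2 + _ ^ 2 = (1 : F)
          linear_combination hd + (Y.1 : M2) 0 0 * h1 + (Y.1 : M2) 1 0 * h2⟩
        invFun := fun rs => ⟨⟨!![rs.1.1, -rs.1.2; rs.1.2, rs.1.1], by
          simp [Matrix.det_fin_two_of]; linear_combination rs.2⟩, ⟨by simp, by simp⟩⟩
        left_inv := fun Y => Subtype.ext (by
          obtain ⟨h1, h2⟩ := Y.2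
          apply SL_ext_two <;> simp [h1, h2])
        right_inv := fun rs => rfl }
  have cD : D.ncard = 4 * (Fintype.card F + 1) := by
    rw [← Nat.card_coe_set_eq, ← card_circle hodd hF,
      show (4 : ℕ) = Nat.card ({c : F // c ^ 2 = 1} × {c : F // c ^ 2 = 1}) by
        rw [Nat.card_prod, card_sq_eq_one_of_two_ne_zero h20]]
    rw [← Nat.card_prod]
    exact Nat.card_congr
      { toFun := fun Y => ((⟨(Y.1 : M2).trace, Y.2.1⟩, ⟨(Y.1 : M2) 0 1 - (Y.1 : M2) 1 0, Y.2.2⟩),
          ⟨((Y.1 : M2) 0 0 - (Y.1 : M2) 1 1, (Y.1 : M2) 0 1 + (Y.1 : M2) 1 0), by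
            have hd := SL_det_two Y.1
            obtain ⟨h1, h2⟩ := Y.2
            rw [Matrix.trace_fin_two] at h1
            show _ ^ 2 + _ ^ 2 = (1 : F)
            linear_combination h1 + h2 - 4 * hd - h3⟩)
        invFun := fun z => ⟨⟨!![-(z.1.1.1 + z.2.1.1), -(z.2.1.2 + z.1.2.1); z.1.2.1 - z.2.1.2, z.2.1.1 - z.1.1.1], by
          simp [Matrix.det_fin_two_of]
          linear_combination z.1.1.2 + z.1.2.2 - z.2.2⟩, by
          refine ⟨?_, ?_⟩
          · show (Matrix.trace _) ^ 2 = (1 : F)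
            rw [Matrix.trace_fin_two]
            simp only [Matrix.of_apply, Matrix.cons_val', Matrix.cons_val_zero, Matrix.cons_val_one,
              Matrix.empty_val', Matrix.cons_val_fin_one]
            linear_combination z.1.1.2 + z.1.1.1 ^ 2 * h3
          · simp only [Matrix.of_apply, Matrix.cons_val', Matrix.cons_val_zero, Matrix.cons_val_one,
              Matrix.empty_val', Matrix.cons_val_fin_one]
            linear_combination z.1.2.2 + z.1.2.1 ^ 2 * h3⟩
        left_inv := fun Y => Subtype.ext (by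
          apply SL_ext_two <;> simp [Matrix.trace_fin_two]
          · linear_combination -(Y.1 : M2) 0 0 * h3
          · linear_combination -(Y.1 : M2) 0 1 * h3
          · linear_combination -(Y.1 : M2) 1 0 * h3
          · linear_combination -(Y.1 : M2) 1 1 * h3)
        right_inv := fun z => by
          refine Prod.ext (Prod.ext (Subtype.ext ?_) (Subtype.ext ?_))
            (Subtype.ext (Prod.ext ?_ ?_)) <;> simp [Matrix.trace_fin_two]
          · linear_combination -z.1.1.1 * h3
          · linear_combination -z.1.2.1 * h3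
          · linear_combination -z.2.1.1 * h3
          · linear_combination -z.2.1.2 * h3 }
  have cI : (C ∩ (A ∪ B)).ncard = 4 := by
    have hJ : ((compSL (0 : F) : S2) : M2) = !![0, -1; 1, 0] := compSL_coe 0
    have he : C ∩ (A ∪ B) = {1, -1, compSL (0 : F), -compSL (0 : F)} := by
      ext Y
      constructor
      · rintro ⟨⟨h1, h2⟩, h | h⟩
        · have h' : (Y : M2).trace = 0 := h
          rw [Matrix.trace_fin_two, ← h1] at h'
          have h0 : (Y : M2) 0 0 = 0 := (mul_eq_zero.mp (show 2 * (Y : M2) 0 0 = 0 by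
            linear_combination h')).resolve_left h20
          have hd := SL_det_two Y
          rw [← h1, h2, h0] at hd
          rcases mul_self_eq_one_iff.mp (show (Y : M2) 1 0 * (Y : M2) 1 0 = 1 by linear_combination hd)
            with e | e
          · exact Or.inr (Or.inr (Or.inl (by apply SL_ext_two <;> simp [hJ, ← h1, h0, h2, e])))
          · exact Or.inr (Or.inr (Or.inr (by apply SL_ext_two <;> simp [hJ, ← h1, h0, h2, e])))
        · have h' : (Y : M2) 0 1 = (Y : M2) 1 0 := h
          have h0 : (Y : M2) 1 0 = 0 := (mul_eq_zero.mp (show 2 * (Y : M2) 1 0 = 0 by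
            linear_combination h2 - h')).resolve_left h20
          have hd := SL_det_two Y
          rw [← h1, h2, h0] at hd
          rcases mul_self_eq_one_iff.mp (show (Y : M2) 0 0 * (Y : M2) 0 0 = 1 by linear_combination hd)
            with e | e
          · exact Or.inl (by apply SL_ext_two <;> simp [← h1, h0, h2, e])
          · exact Or.inr (Or.inl (by apply SL_ext_two <;> simp [← h1, h0, h2, e]))
      · rintro (rfl | rfl | rfl | rfl)
        · exact ⟨by simp [C], Or.inr (by simp [B])⟩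
        · exact ⟨by simp [C], Or.inr (by simp [B])⟩
        · exact ⟨by simp [C, hJ], Or.inl (by simp [A, trace_compSL])⟩
        · exact ⟨by simp [C, hJ], Or.inl (by simp [A, trace_compSL])⟩
    have hne : ∀ {a b : S2} (i j : Fin 2), (a : M2) i j ≠ (b : M2) i j → a ≠ b :=
      fun i j h e => h (by rw [e])
    have hn : (-1 : F) ≠ 1 := fun e => h20 (by linear_combination -e)
    rw [he, Set.ncard_insert_of_notMem, Set.ncard_insert_of_notMem, Set.ncard_pair]
    · exact hne 1 0 (by simpa [hJ] using hn.symm)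
    · simp only [Set.mem_insert_iff, Set.mem_singleton_iff, not_or]
      exact ⟨hne 1 0 (by simp [hJ]), hne 1 0 (by simp [hJ])⟩
    · simp only [Set.mem_insert_iff, Set.mem_singleton_iff, not_or]
      exact ⟨hne 0 0 (by simpa using hn.symm), hne 1 0 (by simp [hJ]), hne 1 0 (by simp [hJ])⟩
  have hdisj : Disjoint (A ∪ B ∪ C) D := by
    rw [Set.disjoint_left]
    rintro Y ((h | h) | ⟨h1, h2⟩) ⟨e1, e2⟩
    · have h' : (Y : M2).trace = 0 := h
      rw [h'] at e1
      simp at e1
    · have h' : (Y : M2) 0 1 = (Y : M2) 1 0 := h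
      rw [h', sub_self] at e2
      simp at e2
    · rw [Matrix.trace_fin_two, ← h1] at e1
      rw [h2] at e2
      have hd := SL_det_two Y
      rw [← h1, h2] at hd
      exact one_ne_zero (α := F) (by linear_combination -e1 - e2 + 4 * hd + h3)
  have e1 := Set.ncard_union_add_ncard_inter A B
  have e2 := Set.ncard_union_add_ncard_inter C (A ∪ B)
  rw [Set.union_comm C] at e2
  have e3 := Set.ncard_union_eq hdisj
  rw [cA, cB, cAB] at e1
  rw [cC, cI] at e2
  rw [cD] at e3
  obtain ⟨m, hm⟩ := Nat.exists_eq_add_of_le (show 1 ≤ Fintype.card F from Fintype.card_pos)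
  rw [hm, Nat.add_sub_cancel_left] at e1
  rw [hm] at e2 e3 ⊢
  nlinarith [hsum, e1, e2, e3]

end Involution

end Cfsg.Agent.Linear.Dickson
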