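import Cfsg.Agent.Linear.Dickson.Borel

/-!
Dickson's theorem: the case of the projective groups over subfields.
-/

namespace Cfsg.Agent.Linear.Dickson

open Matrix Cfsg.Agent.Linear

variable {F : Type*} [Field F] [Fintype F]
  {H : Subgroup (Matrix.ProjectiveSpecialLinearGroup (Fin 2) F)}

local notation "M2" => Matrix (Fin 2) (Fin 2) F
local notation "S2" => Matrix.SpecialLinearGroup (Fin 2) F
local notation "P2" => Matrix.ProjectiveSpecialLinearGroup (Fin 2) F

variable (H) in
/-- The additive group of parameters of the upper unipotent elements of H. -/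
noncomputable def upSet : AddSubgroup F where
  carrier := {x | proj (upSL x) ∈ H}
  zero_mem' := by
    show proj (upSL (0 : F)) ∈ H
    rw [upSL_zero, map_one]
    exact H.one_mem
  add_mem' {a b} ha hb := by
    show proj (upSL (a + b)) ∈ H
    rw [upSL_add, map_mul]
    exact H.mul_mem ha hb
  neg_mem' {a} ha := by
    show proj (upSL (-a)) ∈ H
    rw [upSL_neg, map_inv]
    exact H.inv_mem ha

theorem mem_upSet {x : F} : x ∈ upSet H ↔ proj (upSL x) ∈ H := Iff.rfl

theorem proj_upSL_mem_cen (x : F) : proj (upSL x) ∈ cen (stdUni : P2) :=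
  mem_cen_stdUni.mpr (by simp [upSL_coe])

theorem exists_upSL_of_mem_cen {v : P2} (hv : v ∈ cen (stdUni : P2)) : ∃ x : F, proj (upSL x) = v := by
  obtain ⟨y, rfl⟩ := proj_surjective v
  obtain ⟨h10, h00⟩ := mem_cen_stdUni.mp hv
  have hd := SL_det_two y
  rw [h10, mul_zero, sub_zero, ← h00] at hd
  rcases mul_self_eq_one_iff.mp hd with e | e
  · exact ⟨(y : M2) 0 1, congrArg proj
      (SL_ext_two (by simp [upSL_coe, e]) (by simp [upSL_coe]) (by simp [upSL_coe, h10])
        (by simp [upSL_coe, ← h00, e]))⟩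
  · refine ⟨-(y : M2) 0 1, proj_eq_iff.mpr (Or.inr ?_)⟩
    apply SL_ext_two <;> simp [upSL_coe, h10, e, ← h00]

theorem card_upSet : Nat.card (upSet H) = Nat.card (Qs H) := by
  refine Nat.card_eq_of_bijective
    (fun x => (⟨⟨proj (upSL (x : F)), x.2⟩, proj_upSL_mem_cen _⟩ : Qs H)) ⟨fun x y h => ?_, fun v => ?_⟩
  · have e : proj (upSL (x : F)) = proj (upSL (y : F)) := congrArg (fun z : Qs H => ((z : H) : P2)) h
    refine Subtype.ext ?_
    rcases proj_eq_iff.mp e with e | e
    · simpa [upSL_coe] using congrArg (fun z : S2 => (z : M2) 0 1) e.symm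
    · have h1 := congrArg (fun z : S2 => (z : M2) 0 0) e
      have h2 := congrArg (fun z : S2 => (z : M2) 0 1) e
      simp [upSL_coe] at h1 h2
      linear_combination (x : F) * h1 - h2
  · obtain ⟨x, hx⟩ := exists_upSL_of_mem_cen v.2
    exact ⟨⟨x, show proj (upSL x) ∈ H from hx ▸ (v : H).2⟩, Subtype.ext (Subtype.ext hx)⟩

theorem proj_dSL_eq_one_iff {l : Fˣ} : proj (dSL l) = 1 ↔ l ^ 2 = 1 := by
  rw [proj_eq_one_iff, IsScalarTwo, dSL_coe, Units.ext_iff, Units.val_pow_eq_pow_val, Units.val_one]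
  have hl : (l : F) ≠ 0 := l.ne_zero
  constructor
  · rintro ⟨-, -, h⟩
    simp at h
    field_simp at h
    linear_combination h
  · intro h
    refine ⟨by simp, by simp, ?_⟩
    simp
    field_simp
    linear_combination h

theorem isUni_dSL_iff {l : Fˣ} : IsUni (proj (dSL l)) ↔ l ^ 2 = 1 := by
  rw [isUni_proj, dSL_coe, Matrix.trace_fin_two, Units.ext_iff, Units.val_pow_eq_pow_val, Units.val_one]
  have hl : (l : F) ≠ 0 := l.ne_zero
  constructor
  · intro h
    simp at h
    field_simp at h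
    have : ((l : F) ^ 2 - 1) ^ 2 = 0 := by linear_combination h
    exact sub_eq_zero.mp (eq_zero_of_pow_eq_zero this)
  · intro h
    simp
    field_simp
    linear_combination ((l : F) ^ 2 - 1) * h

theorem orderOf_proj_dSL {l : Fˣ} : orderOf (proj (dSL l)) = orderOf (l ^ 2) := by
  rw [orderOf_eq_orderOf_iff]
  intro n
  rw [← map_pow, ← map_pow, proj_dSL_eq_one_iff, ← pow_mul, ← pow_mul, mul_comm]

theorem exists_diag_conj {a : P2} (ha : a ∈ borel F) (hu : ¬ IsUni a) :
    ∃ b ∈ borel F, ∃ l : Fˣ, b * a * b⁻¹ = proj (dSL l) := by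
  obtain ⟨y, rfl⟩ := proj_surjective a
  have h10 := mem_borel_proj.mp ha
  have hd := SL_det_two y
  rw [h10, mul_zero, sub_zero] at hd
  have h0 : (y : M2) 0 0 ≠ 0 := fun e => by simp [e] at hd
  have hne : (y : M2) 1 1 - (y : M2) 0 0 ≠ 0 := fun e => hu (by
    rw [isUni_proj, Matrix.trace_fin_two]
    linear_combination 4 * hd + ((y : M2) 1 1 - (y : M2) 0 0) * e)
  set c := -(y : M2) 0 1 / ((y : M2) 1 1 - (y : M2) 0 0) with hc
  refine ⟨proj (upSL c), mem_borel_proj.mpr (by simp [upSL_coe]), Units.mk0 _ h0, ?_⟩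
  rw [← map_inv, ← map_mul, ← map_mul]
  congr 1
  rw [mul_inv_eq_iff_eq_mul]
  apply SL_ext_two <;> simp [SL_mul_entries, upSL_coe, dSL_coe, h10]
  · rw [hc]
    field_simp
    ring
  · field_simp
    linear_combination hd

/-- The parameters of a subgroup with a diagonal torus element and an antidiagonal inverter. -/
theorem exists_w_entries {l : Fˣ} (hl : l ^ 2 ≠ 1) {a w : H} (ha : (a : P2) = proj (dSL l))
    (hwc : w ∉ (part H).cen a) (hw : w * a * w⁻¹ = a⁻¹) :
    ∃ y : S2, proj y = (w : P2) ∧ (y : M2) 0 0 = 0 ∧ (y : M2) 1 1 = 0 := by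
  obtain ⟨y, hy⟩ := proj_surjective (w : P2)
  refine ⟨y, hy, ?_⟩
  have e : proj (y * dSL l) = proj ((dSL l)⁻¹ * y) := by
    have := congrArg (fun z : H => (z : P2) * (w : P2)) hw
    simpa [← hy, ha, mul_assoc] using this
  have hl0 : (l : F) ≠ 0 := l.ne_zero
  have hl2 : (l : F) ^ 2 - 1 ≠ 0 := fun h => hl (Units.ext (by simpa using sub_eq_zero.mp h))
  have hentries : ∀ i j, (((dSL l)⁻¹ : S2) : M2) i j = ((dSL l⁻¹ : S2) : M2) i j := fun i j => by
    rw [map_inv]
  rcases proj_eq_iff.mp e with h | h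
  · have e00 := congrArg (fun z : S2 => (z : M2) 0 0) h
    have e11 := congrArg (fun z : S2 => (z : M2) 1 1) h
    simp only [SL_mul_entries, hentries] at e00 e11
    simp [dSL_coe] at e00 e11
    field_simp at e00 e11
    constructor
    · have : ((l : F) ^ 2 - 1) * (y : M2) 0 0 = 0 := by linear_combination -e00
      exact (mul_eq_zero.mp this).resolve_left hl2
    · have : ((l : F) ^ 2 - 1) * (y : M2) 1 1 = 0 := by linear_combination e11
      exact (mul_eq_zero.mp this).resolve_left hl2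
  · have e00 := congrArg (fun z : S2 => (z : M2) 0 0) h
    have e01 := congrArg (fun z : S2 => (z : M2) 0 1) h
    have e10 := congrArg (fun z : S2 => (z : M2) 1 0) h
    have e11 := congrArg (fun z : S2 => (z : M2) 1 1) h
    simp only [SL_mul_entries, Matrix.SpecialLinearGroup.coe_neg, Matrix.neg_apply, hentries] at e00 e01 e10 e11
    simp [dSL_coe] at e00 e01 e10 e11
    field_simp at e00 e01 e10 e11
    by_cases h2 : (2 : F) = 0
    · constructor
      · have : ((l : F) ^ 2 - 1) * (y : M2) 0 0 = 0 := by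
          linear_combination -e00 + (l : F) ^ 2 * (y : M2) 0 0 * h2
        exact (mul_eq_zero.mp this).resolve_left hl2
      · have : ((l : F) ^ 2 - 1) * (y : M2) 1 1 = 0 := by
          linear_combination e11 - (y : M2) 1 1 * h2
        exact (mul_eq_zero.mp this).resolve_left hl2
    · exfalso
      have h01 : (y : M2) 0 1 = 0 := by
        have : (2 : F) * (y : M2) 0 1 = 0 := by linear_combination e01
        exact (mul_eq_zero.mp this).resolve_left h2
      have h10 : (y : M2) 1 0 = 0 := by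
        have : (2 : F) * (y : M2) 1 0 = 0 := by linear_combination e10
        exact (mul_eq_zero.mp this).resolve_left h2
      refine hwc ?_
      rw [mem_part_cen, ha, ← hy, mem_cen_proj, Subgroup.mem_centralizer_singleton_iff]
      apply SL_ext_two <;> simp [SL_mul_entries, dSL_coe, h01, h10, mul_comm]

/-- Each coset other than the base one has the form q·w. -/
theorem exists_q_w (hidx : (Ns H).index = Nat.card (Qs H) + 1) {w : H} (hw : w ∉ Ns H) {h : H}
    (hh : h ∉ Ns H) : ∃ q ∈ Qs H, (q * w)⁻¹ * h ∈ Ns H := by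
  classical
  set N := Ns H with hN
  let b : H ⧸ N := QuotientGroup.mk 1
  have hne : ∀ g : H, g ∉ N → (QuotientGroup.mk g : H ⧸ N) ≠ b := fun g hg e => hg (by
    simpa using QuotientGroup.eq.mp e.symm)
  let f : Qs H → {c : H ⧸ N // c ≠ b} := fun q =>
    ⟨QuotientGroup.mk ((q : H) * w), hne _ fun hm => hw (by
      simpa using N.mul_mem (N.inv_mem (Qs_le_Ns q.2)) hm)⟩
  have hf : Function.Injective f := fun q r e => by
    have e' := QuotientGroup.eq.mp (congrArg Subtype.val e)
    by_contra hne'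
    refine hw (mem_Ns_of_fix ((Qs H).mul_mem ((Qs H).inv_mem q.2) r.2) (fun h1 => hne' ?_) ?_)
    · exact Subtype.ext (inv_mul_eq_one.mp h1)
    · simpa [mul_assoc] using e'
  have hcard : Nat.card {c : H ⧸ N // c ≠ b} ≤ Nat.card (Qs H) := by
    have h2 := Nat.card_congr (Equiv.optionSubtypeNe b)
    rw [Finite.card_option] at h2
    rw [Subgroup.index, ← h2] at hidx
    omega
  obtain ⟨q, hq⟩ := (hf.bijective_of_nat_card_le hcard).2 ⟨QuotientGroup.mk h, hne h hh⟩
  exact ⟨q, q.2, QuotientGroup.eq.mp (congrArg Subtype.val hq)⟩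

/-- The set of parameters is closed under a scaled inversion. -/
theorem inv_mem_upSet (hidx : (Ns H).index = Nat.card (Qs H) + 1) {w : H} {y : S2}
    (hy : proj y = (w : P2)) (h00 : (y : M2) 0 0 = 0) (h11 : (y : M2) 1 1 = 0) {x : F}
    (hx : x ∈ upSet H) (hx0 : x ≠ 0) : (y : M2) 0 1 ^ 2 / x ∈ upSet H := by
  set c := (y : M2) 0 1 with hc
  have hd := SL_det_two y
  rw [h00, zero_mul, zero_sub, ← hc] at hd
  have hc0 : c ≠ 0 := fun e => by simp [e] at hd
  have h10 : (y : M2) 1 0 ≠ 0 := fun e => by simp [e] at hd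
  have hw : w ∉ Ns H := fun hm => h10 (mem_borel_proj.mp (hy ▸ hm))
  have hz : y * upSL x * y⁻¹ = loSL (-x / c ^ 2) := by
    rw [mul_inv_eq_iff_eq_mul]
    apply SL_ext_two <;> simp [SL_mul_entries, upSL_coe, loSL_coe, h00, h11, ← hc]
    field_simp
    linear_combination -hd
  let h : H := w * ⟨proj (upSL x), hx⟩ * w⁻¹
  have hh : (h : P2) = proj (loSL (-x / c ^ 2)) := by
    rw [← hz, map_mul, map_mul, map_inv, hy]
    rfl
  have hhN : h ∉ Ns H := fun hm => by
    have hm' : proj (loSL (-x / c ^ 2)) ∈ borel F := hh ▸ hm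
    rw [mem_borel_proj] at hm'
    simp [loSL_coe, hx0, hc0] at hm'
  obtain ⟨q, hq, hn⟩ := exists_q_w hidx hw hhN
  obtain ⟨b, hb⟩ := exists_upSL_of_mem_cen hq
  have hn' : proj ((upSL b * y)⁻¹ * loSL (-x / c ^ 2)) ∈ borel F := by
    rw [map_mul, map_inv, map_mul, hb, hy, ← hh]
    exact hn
  rw [mem_borel_proj, SL_mul_entries] at hn'
  obtain ⟨-, i11, -, i10⟩ := SL_inv_entries (upSL b * y)
  rw [i10, i11] at hn'
  simp [SL_mul_entries, upSL_coe, loSL_coe, h00] at hn'
  have hbH : b ∈ upSet H := mem_upSet.mpr (hb ▸ q.2)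
  have key : c ^ 2 / x = -b := by
    rw [div_eq_iff hx0]
    field_simp at hn'
    apply mul_left_cancel₀ h10
    linear_combination -hn'
  exact key ▸ (upSet H).neg_mem hbH

theorem exists_field_data (p : ℕ) [Fact p.Prime] [CharP F p] {u t : ℕ} (hu : Nat.card (Qs H) = u)
    (hidx : (Ns H).index = u + 1) (ht : 1 < t) (htu : u ≤ 2 * t + 1) (hu3 : 3 ≤ u) {a w : H} {l : Fˣ}
    (hal : (a : P2) = proj (dSL l)) (hat : orderOf a = t) (hau : ¬ IsUni (a : P2))
    (hwc : w ∉ (part H).cen a) (hw : w * a * w⁻¹ = a⁻¹) :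
    ∃ (K : Type) (_ : Field K) (_ : Fintype K) (ι : K →+* F) (w0 : Fˣ) (ν : Kˣ),
      Fintype.card K = u ∧ (∃ m : ℕ, u ^ m = Fintype.card F) ∧ ι (ν : K) = (l : F) ^ 2 ∧
      orderOf ν = t ∧ (∀ k : K, proj (upSL ((w0 : F) * ι k)) ∈ H) ∧
      ∀ k : K, proj (loSL (ι k * (w0 : F)⁻¹)) ∈ H := by
  classical
  have hl : l ^ 2 ≠ 1 := fun e => hau (by rw [hal]; exact isUni_dSL_iff.mpr e)
  have hl2 : orderOf (l ^ 2) = t := by
    rw [← orderOf_proj_dSL, ← hal, Subgroup.orderOf_coe, hat]
  obtain ⟨y, hy, h00, h11⟩ := exists_w_entries hl hal hwc hw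
  set c := (y : M2) 0 1 with hc
  have hd := SL_det_two y
  rw [h00, zero_mul, zero_sub, ← hc] at hd
  have hc0 : c ≠ 0 := fun e => by simp [e] at hd
  set W := upSet H with hW
  have hcardW : Nat.card W = u := card_upSet.trans hu
  -- the multiplier field
  have hl2W : ∀ x ∈ W, (l : F) ^ 2 * x ∈ W := fun x hx => by
    have hm : (a : P2) * proj (upSL x) * (a : P2)⁻¹ ∈ H :=
      H.mul_mem (H.mul_mem a.2 hx) (H.inv_mem a.2)
    rw [hal, ← map_inv, ← map_mul, ← map_mul] at hm
    have e : dSL l * upSL x * (dSL l)⁻¹ = upSL ((l : F) ^ 2 * x) := by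
      rw [mul_inv_eq_iff_eq_mul]
      apply SL_ext_two <;> simp [SL_mul_entries, upSL_coe, dSL_coe]
      field_simp
    rwa [e] at hm
  let R : Subring F :=
    { carrier := {z | ∀ x ∈ W, z * x ∈ W}
      one_mem' := fun x hx => by rwa [one_mul]
      mul_mem' := fun {z z'} hz hz' x hx => by rw [mul_assoc]; exact hz _ (hz' x hx)
      zero_mem' := fun x hx => by rw [zero_mul]; exact W.zero_mem
      add_mem' := fun {z z'} hz hz' x hx => by rw [add_mul]; exact W.add_mem (hz x hx) (hz' x hx)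
      neg_mem' := fun {z} hz x hx => by rw [neg_mul]; exact W.neg_mem (hz x hx) }
  let L : Subfield F :=
    { R with
      inv_mem' := fun z (hz : ∀ x ∈ W, z * x ∈ W) x hx => by
        by_cases h0 : z = 0
        · rw [h0, _root_.inv_zero, zero_mul]; exact W.zero_mem
        · let f : W → W := fun v => ⟨z * (v : F), hz _ v.2⟩
          have hf : Function.Injective f := fun v v' e =>
            Subtype.ext (mul_left_cancel₀ h0 (congrArg Subtype.val e))
          obtain ⟨v, hv⟩ := (Finite.injective_iff_surjective.mp hf) ⟨x, hx⟩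
          have e : z * (v : F) = x := congrArg Subtype.val hv
          rw [← e, ← mul_assoc, inv_mul_cancel₀ h0, one_mul]
          exact v.2 }
  have hmemL : ∀ z, z ∈ L ↔ ∀ x ∈ W, z * x ∈ W := fun _ => Iff.rfl
  have hlL : (l : F) ^ 2 ∈ L := (hmemL _).mpr hl2W
  have hpowL : ∀ z : Subgroup.zpowers (l ^ 2), (((z : Fˣ) : F)) ∈ L := by
    rintro ⟨z, i, rfl⟩
    simpa using L.zpow_mem hlL i
  let gmap : Option (Subgroup.zpowers (l ^ 2)) → L := fun o =>
    o.elim 0 (fun z => ⟨((z : Fˣ) : F), hpowL z⟩)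
  have hg : Function.Injective gmap := by
    rintro (_ | z) (_ | z') e
    · rfl
    · exact absurd (congrArg Subtype.val e).symm (Units.ne_zero _)
    · exact absurd (congrArg Subtype.val e) (Units.ne_zero _)
    · exact congrArg some (Subtype.ext (Units.ext (congrArg Subtype.val e :)))
  have hLge : t + 1 ≤ Nat.card L := by
    have := Nat.card_le_card_of_injective gmap hg
    rwa [Finite.card_option, Nat.card_zpowers, hl2] at this
  -- W is one-dimensional over it
  let Wm : Submodule L F :=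
    { carrier := W
      zero_mem' := W.zero_mem
      add_mem' := fun ha hb => W.add_mem ha hb
      smul_mem' := fun z x hx => (hmemL _).mp z.2 x hx }
  have : Fintype L := Fintype.ofFinite L
  have hpowW : Fintype.card L ^ Module.finrank L Wm = u := by
    have := Module.card_eq_pow_finrank (K := L) (V := Wm)
    rw [← hcardW]
    exact this.symm.trans (Nat.card_eq_fintype_card (α := Wm)).symm
  have hfr : Module.finrank L Wm = 1 := by
    rcases Nat.lt_trichotomy (Module.finrank L Wm) 1 with h | h | h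
    · exfalso
      rw [Nat.lt_one_iff.mp h, pow_zero] at hpowW
      omega
    · exact h
    · exfalso
      have h2 : (t + 1) ^ 2 ≤ u := by
        rw [← hpowW]
        exact (Nat.pow_le_pow_left (Nat.card_eq_fintype_card (α := L) ▸ hLge) 2).trans
          (Nat.pow_le_pow_right Fintype.card_pos h)
      nlinarith
  rw [hfr, pow_one] at hpowW
  obtain ⟨w0, hw0, hw00⟩ : ∃ w0 ∈ W, w0 ≠ (0 : F) := by
    by_contra hcon
    push Not at hcon
    have : Subsingleton W := ⟨fun v v' => Subtype.ext (by rw [hcon _ v.2, hcon _ v'.2])⟩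
    have := Finite.card_le_one_iff_subsingleton.mpr this
    omega
  have hsurj : ∀ x ∈ W, ∃ z ∈ L, z * w0 = x := by
    let f : L → W := fun z => ⟨(z : F) * w0, (hmemL _).mp z.2 w0 hw0⟩
    have hf : Function.Injective f := fun v v' e =>
      Subtype.ext (mul_right_cancel₀ hw00 (congrArg Subtype.val e))
    intro x hx
    obtain ⟨z, hz⟩ := (hf.bijective_of_nat_card_le
      (by rw [hcardW, ← hpowW, Nat.card_eq_fintype_card])).2 ⟨x, hx⟩
    exact ⟨z, z.2, congrArg Subtype.val hz⟩
  -- an abstract copy of the field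
  have : CharP L p := (RingHom.charP_iff L.subtype L.subtype.injective p).mpr inferInstance
  obtain ⟨n, hp, hn⟩ := FiniteField.card L p
  have : Fintype (GaloisField p n) := Fintype.ofFinite _
  have hK : Fintype.card (GaloisField p n) = Fintype.card L := by
    rw [hn, ← Nat.card_eq_fintype_card, GaloisField.card p n n.ne_zero]
  let e : GaloisField p n ≃+* L := FiniteField.ringEquivOfCardEq hK
  let ι : GaloisField p n →+* F := L.subtype.comp e.toRingHom
  have hι : ∀ z ∈ L, ∃ k, ι k = z := fun z hz => ⟨e.symm ⟨z, hz⟩, by simp [ι]⟩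
  have hιW : ∀ k, w0 * ι k ∈ W := fun k => by
    rw [mul_comm]
    exact (hmemL _).mp (e k).2 w0 hw0
  obtain ⟨k2, hk2⟩ := hι _ hlL
  have hk20 : k2 ≠ 0 := fun h0 => by
    rw [h0, map_zero] at hk2
    exact pow_ne_zero 2 l.ne_zero hk2.symm
  obtain ⟨z, hzL, hz⟩ := hsurj _ (inv_mem_upSet (hu.symm ▸ hidx) hy h00 h11 hw0 hw00)
  refine ⟨GaloisField p n, inferInstance, inferInstance, ι, Units.mk0 w0 hw00, Units.mk0 k2 hk20,
    hK.trans hpowW, ⟨Module.finrank L F, ?_⟩, hk2, ?_, fun k => hιW k, fun k => ?_⟩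
  · rw [← hpowW]
    exact Module.card_eq_pow_finrank.symm
  · rw [← hl2, ← orderOf_injective (Units.map ι.toMonoidHom) (Units.map_injective ι.injective)]
    exact congrArg orderOf (Units.ext (by simpa using hk2))
  · -- lower unipotent elements are conjugates of upper ones
    obtain ⟨r, hr⟩ := hι z hzL
    have hx : -(w0 * ι (r * k)) ∈ W := W.neg_mem (hιW _)
    have hm : (w : P2) * proj (upSL (-(w0 * ι (r * k)))) * (w : P2)⁻¹ ∈ H :=
      H.mul_mem (H.mul_mem w.2 hx) (H.inv_mem w.2)
    rw [← hy, ← map_inv, ← map_mul, ← map_mul] at hm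
    have e' : y * upSL (-(w0 * ι (r * k))) * y⁻¹ = loSL (ι k * (w0 : F)⁻¹) := by
      rw [mul_inv_eq_iff_eq_mul]
      apply SL_ext_two <;> simp [SL_mul_entries, upSL_coe, loSL_coe, h00, h11, ← hc, hr]
      field_simp at hz
      field_simp
      apply mul_left_cancel₀ hc0
      linear_combination (ι k * z * w0 ^ 2) * hd + ι k * hz
    rw [e'] at hm
    exact hm

/-- The configuration with u + 1 Sylow subgroups is PSL_2 or PGL_2 over the field with u elements. -/
theorem subfield_case_diag (p : ℕ) [Fact p.Prime] [CharP F p] {u t : ℕ} (hu : Nat.card (Qs H) = u)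
    (hidx : (Ns H).index = u + 1) (hN : Nat.card (Ns H) = u * t) (ht : 1 < t)
    (htu : t = u - 1 ∨ 2 * t = u - 1) {a w : H} {l : Fˣ} (hal : (a : P2) = proj (dSL l))
    (hat : orderOf a = t) (hau : ¬ IsUni (a : P2)) (hwc : w ∉ (part H).cen a)
    (hw : w * a * w⁻¹ = a⁻¹) : IsSubfield H := by
  classical
  obtain ⟨K, iK, iK', ι, w0, ν, hKu, -, hν, hνt, hup, hlo⟩ :=
    exists_field_data p hu hidx ht (by omega) (by omega) hal hat hau hwc hw
  refine ⟨K, iK, iK', ι, 1, w0, ?_⟩
  have hle : pslSub ι w0 ≤ H := pslSub_le ι w0 hup hlo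
  have hg : Nat.card H = u * t * (u + 1) := by rw [← hN, ← hidx, Subgroup.card_mul_index]
  have hsq : u ^ 2 - 1 = (u + 1) * (u - 1) := by
    simpa using Nat.sq_sub_sq u 1
  rcases htu with h | h
  · right
    have hgen : ∀ δ : Kˣ, δ ∈ Subgroup.zpowers ν := fun δ => by
      have : Subgroup.zpowers ν = ⊤ := Subgroup.eq_top_of_card_eq _ (by
        rw [Nat.card_zpowers, hνt, Nat.card_units, Nat.card_eq_fintype_card, hKu, h])
      rw [this]
      exact Subgroup.mem_top δ
    refine ⟨l, ν, hν, hgen, ?_⟩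
    rw [map_conj_one]
    refine (Subgroup.eq_of_le_of_card_ge (sup_le hle (Subgroup.zpowers_le.mpr (hal ▸ a.2))) (le_of_eq ?_)).symm
    show Nat.card H = Nat.card (pglSub ι w0 l)
    rw [card_pglSub ι w0 hν hgen, hg, hKu, hsq, h]; ring
  · left
    rw [map_conj_one]
    refine (Subgroup.eq_of_le_of_card_ge hle (le_of_eq ?_)).symm
    have e := card_pslSub_mul ι w0
    rw [hKu, hsq, Nat.gcd_eq_left (h ▸ dvd_mul_right 2 t), ← h] at e
    refine Nat.eq_of_mul_eq_mul_left two_pos ?_
    rw [e, hg]; ring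

/-- The configuration with u + 1 Sylow subgroups, in general position. -/
theorem subfield_case (p : ℕ) [Fact p.Prime] [CharP F p] {u t : ℕ} (hu : Nat.card (Qs H) = u)
    (hidx : (Ns H).index = u + 1) (hN : Nat.card (Ns H) = u * t) (ht : 1 < t)
    (htu : t = u - 1 ∨ 2 * t = u - 1) {a w : H} (haN : a ∈ Ns H)
    (hat : orderOf a = t) (hau : ¬ IsUni (a : P2)) (hwc : w ∉ (part H).cen a)
    (hw : w * a * w⁻¹ = a⁻¹) : IsSubfield H := by
  obtain ⟨b, hb, l, hl⟩ := exists_diag_conj (a := (a : P2)) haN hau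
  let f := MulAut.conj b
  let e : H ≃* H.map f.toMonoidHom := H.equivMapOfInjective _ f.injective
  have he : ∀ x : H, ((e x : H.map f.toMonoidHom) : P2) = b * (x : P2) * b⁻¹ := fun _ => rfl
  have hcen : ∀ x : P2, b * x * b⁻¹ ∈ cen (stdUni : P2) ↔ x ∈ cen (stdUni : P2) := fun x =>
    (Subgroup.mem_normalizer_iff.mp (borel_le_normalizer hb) x).symm
  have hbor : ∀ x : P2, b * x * b⁻¹ ∈ borel F ↔ x ∈ borel F := fun x => by
    rw [Subgroup.mul_mem_cancel_right _ ((borel F).inv_mem hb), Subgroup.mul_mem_cancel_left _ hb]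
  have hQ : Qs (H.map f.toMonoidHom) = (Qs H).map e.toMonoidHom := by
    ext x
    obtain ⟨x, rfl⟩ := e.surjective x
    rw [Subgroup.mem_map_equiv, MulEquiv.symm_apply_apply, mem_Qs, mem_Qs, he, hcen]
  have hNs : Ns (H.map f.toMonoidHom) = (Ns H).map e.toMonoidHom := by
    ext x
    obtain ⟨x, rfl⟩ := e.surjective x
    rw [Subgroup.mem_map_equiv, MulEquiv.symm_apply_apply, mem_Ns, mem_Ns, he, hbor]
  obtain ⟨K, iK, iK', ι, k, w0, h⟩ := subfield_case_diag (H := H.map f.toMonoidHom) p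
    (by rw [hQ, Subgroup.card_map_of_injective e.injective, hu])
    (by rw [hNs, ← hidx]; exact Subgroup.index_map_equiv _ e)
    (by rw [hNs, Subgroup.card_map_of_injective e.injective, hN]) ht htu (a := e a) (w := e w)
    (by rw [he, hl]) (by rw [MulEquiv.orderOf_eq, hat]) (by rw [he, isUni_conj]; exact hau)
    (fun hm => hwc (by
      rw [mem_part_cen] at hm ⊢
      rwa [he, he, mem_cen_conj] at hm))
    (by rw [← map_inv, ← map_mul, ← map_mul, hw, map_inv])
  refine ⟨K, iK, iK', ι, b⁻¹ * k, w0, ?_⟩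
  have back : ∀ X : Subgroup P2, H.map f.toMonoidHom = X.map (MulAut.conj k).toMonoidHom →
      H = X.map (MulAut.conj (b⁻¹ * k)).toMonoidHom := fun X hX => by
    rw [← map_conj_mul, ← hX, map_conj_mul, inv_mul_cancel, map_conj_one]
  rcases h with h | ⟨lam, ν, h1, h2, h⟩
  · exact Or.inl (back _ h)
  · exact Or.inr ⟨lam, ν, h1, h2, back _ h⟩

end Cfsg.Agent.Linear.Dickson
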